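import Cfsg.Agent.Pres.SU.Model

/-! # Bruhat forms from a few of them -/

set_option autoImplicit false
set_option linter.unusedSectionVars false
set_option linter.unusedSimpArgs false

namespace Cfsg.Lib.SUPres

variable {F : Type*} [Field F] {C : Conj F} {G : Type*} [Group G]

/-- A group with the Borel relations and a map to the model. -/
structure Bru (C : Conj F) (G : Type*) [Group G] where
  /-- The unipotent part. -/
  ψ : Hp C →* G
  /-- The torus. -/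
  τ : Fˣ →* G
  /-- The Weyl element. -/
  w : G
  /-- The map to the model. -/
  Φ : G →* SJ C
  Φ_ψ : ∀ h, Φ (ψ h) = uM C h
  Φ_τ : ∀ a, Φ (τ a) = tM C a
  Φ_w : Φ w = wM C
  conj : ∀ a h, τ a * ψ h * (τ a)⁻¹ = ψ (Hp.sc a h)
  w_sq : w * w = 1
  w_τ : ∀ a, w * τ a * w = τ (C.su a)⁻¹
  gen : Subgroup.closure (Set.range ψ ∪ Set.range τ ∪ {w}) = ⊤

namespace Bru

variable (B : Bru C G)

theorem w_inv : B.w⁻¹ = B.w := inv_eq_of_mul_eq_one_right B.w_sq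

theorem w_τ' (a : Fˣ) : B.w * B.τ a = B.τ (C.su a)⁻¹ * B.w := by
  rw [← B.w_τ, mul_assoc _ B.w B.w, B.w_sq, mul_one]

theorem τ_ψ (a : Fˣ) (h : Hp C) : B.τ a * B.ψ h = B.ψ (Hp.sc a h) * B.τ a := by
  rw [← B.conj, inv_mul_cancel_right]

theorem ψ_τ (a : Fˣ) (h : Hp C) : B.ψ h * B.τ a = B.τ a * B.ψ (Hp.sc a⁻¹ h) := by
  rw [← B.conj, map_inv, inv_inv]; group

/-- A cell. -/
def cell (a : Hp C) (s : Fˣ) (b : Hp C) : G := B.ψ a * B.τ s * B.w * B.ψ b

theorem Φ_cell (a : Hp C) (s : Fˣ) (b : Hp C) : B.Φ (B.cell a s b) = uM C a * tM C s * wM C * uM C b := by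
  simp only [cell, map_mul, B.Φ_ψ, B.Φ_τ, B.Φ_w]

/-- The Bruhat form of a conjugate of `u` holds. -/
def Good (u : Hp C) : Prop := B.w * B.ψ u * B.w = B.cell (Lp C u) (tp C u) (Rp C u)

theorem good_of {u a b : Hp C} {s : Fˣ} (h : B.w * B.ψ u * B.w = B.cell a s b) : B.Good u := by
  have hy : u.y ≠ 0 := fun h0 => by
    rw [Hp.eq_one_of_y h0, map_one, mul_one, B.w_sq] at h
    have := congrArg B.Φ h
    rw [map_one, B.Φ_cell] at this
    exact cell_ne_one C a b s this.symm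
  have e := congrArg B.Φ h
  rw [B.Φ_cell, map_mul, map_mul, B.Φ_w, B.Φ_ψ, wM_uM C hy] at e
  obtain ⟨rfl, rfl, rfl⟩ := cell_inj C e
  exact h

theorem exists_τ_cell (r : Fˣ) (a : Hp C) (s : Fˣ) (b : Hp C) :
    ∃ a' s' b', B.τ r * B.cell a s b = B.cell a' s' b' := ⟨Hp.sc r a, r * s, b, by
  simp only [cell, ← mul_assoc, B.τ_ψ, map_mul]⟩

theorem exists_cell_τ (r : Fˣ) (a : Hp C) (s : Fˣ) (b : Hp C) :
    ∃ a' s' b', B.cell a s b * B.τ r = B.cell a' s' b' := ⟨a, s * (C.su r)⁻¹, Hp.sc r⁻¹ b, by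
  simp only [cell, map_mul]
  calc B.ψ a * B.τ s * B.w * B.ψ b * B.τ r = B.ψ a * B.τ s * B.w * (B.ψ b * B.τ r) := by group
    _ = B.ψ a * B.τ s * (B.w * B.τ r) * B.ψ (Hp.sc r⁻¹ b) := by rw [B.ψ_τ r b]; group
    _ = _ := by rw [B.w_τ']; group⟩

theorem good_sc {u : Hp C} (h : B.Good u) (a : Fˣ) : B.Good (Hp.sc a u) := by
  obtain ⟨a₁, s₁, b₁, e₁⟩ := B.exists_τ_cell (C.su a)⁻¹ (Lp C u) (tp C u) (Rp C u)
  obtain ⟨a₂, s₂, b₂, e₂⟩ := B.exists_cell_τ (C.su a⁻¹)⁻¹ a₁ s₁ b₁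
  refine B.good_of (a := a₂) (s := s₂) (b := b₂) ?_
  rw [← e₂, ← e₁, ← h, ← B.w_τ, ← B.w_τ, map_inv, ← B.conj]
  calc B.w * (B.τ a * B.ψ u * (B.τ a)⁻¹) * B.w
      = B.w * B.τ a * (B.w * B.w) * B.ψ u * (B.w * B.w) * (B.τ a)⁻¹ * B.w := by rw [B.w_sq]; group
    _ = _ := by group

theorem good_inv {u : Hp C} (h : B.Good u) : B.Good u⁻¹ := by
  refine B.good_of (a := (Rp C u)⁻¹) (s := C.su (tp C u)) (b := (Lp C u)⁻¹) ?_
  have e : B.w * B.ψ u⁻¹ * B.w = (B.w * B.ψ u * B.w)⁻¹ := by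
    rw [map_inv, mul_inv_rev, mul_inv_rev, B.w_inv, mul_assoc]
  rw [e, h, cell, cell, map_inv, map_inv]
  calc (B.ψ (Lp C u) * B.τ (tp C u) * B.w * B.ψ (Rp C u))⁻¹
      = (B.ψ (Rp C u))⁻¹ * (B.w⁻¹ * (B.τ (tp C u))⁻¹) * (B.ψ (Lp C u))⁻¹ := by group
    _ = _ := by rw [B.w_inv, ← map_inv B.τ, B.w_τ', map_inv C.su, inv_inv]; group

theorem good_tri {a b : Hp C} (ha : B.Good a) (hb : B.Good b) (hab : B.Good (a * b)) :
    B.Good (Rp C a * Lp C b) := by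
  have e : B.cell (Lp C a) (tp C a) (Rp C a) * B.cell (Lp C b) (tp C b) (Rp C b) =
      B.cell (Lp C (a * b)) (tp C (a * b)) (Rp C (a * b)) := by
    rw [← ha, ← hb, ← hab, map_mul]
    calc B.w * B.ψ a * B.w * (B.w * B.ψ b * B.w) = B.w * B.ψ a * (B.w * B.w) * B.ψ b * B.w := by group
      _ = _ := by rw [B.w_sq]; group
  obtain ⟨a₂, s₂, b₂, e₂⟩ := B.exists_cell_τ (C.su (tp C b)⁻¹)⁻¹
    (Hp.sc (tp C a)⁻¹ ((Lp C a)⁻¹ * Lp C (a * b))) ((tp C a)⁻¹ * tp C (a * b)) (Rp C (a * b) * (Rp C b)⁻¹)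
  refine B.good_of (a := a₂) (s := s₂) (b := b₂) ?_
  rw [← e₂, ← B.w_τ, map_inv]
  have e3 : B.w * B.ψ (Rp C a * Lp C b) = (B.τ (tp C a))⁻¹ * (B.ψ (Lp C a))⁻¹ *
      B.cell (Lp C (a * b)) (tp C (a * b)) (Rp C (a * b)) * (B.ψ (Rp C b))⁻¹ * B.w⁻¹ * (B.τ (tp C b))⁻¹ := by
    rw [← e, cell, cell, map_mul]; group
  rw [e3, B.w_inv]
  simp only [cell, ← B.conj, map_mul, map_inv]
  group

/-- The circle condition. -/
def OnCircle (C : Conj F) (θ : F) : Prop := θ * C.s θ = 1 ∧ θ ≠ 1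

theorem OnCircle.ne_zero {θ : F} (h : OnCircle C θ) : θ ≠ 0 := fun h0 => by
  have := h.1; rw [h0, zero_mul] at this; exact zero_ne_one this

theorem OnCircle.s_eq {θ : F} (h : OnCircle C θ) : C.s θ = θ⁻¹ := eq_inv_of_mul_eq_one_right h.1

theorem OnCircle.sub_ne {θ : F} (h : OnCircle C θ) : 1 - θ ≠ 0 := sub_ne_zero.2 h.2.symm

theorem OnCircle.inv {θ : F} (h : OnCircle C θ) : OnCircle C (C.s θ) :=
  ⟨by rw [C.invol, mul_comm, h.1], fun h1 => h.2 (by rw [← C.invol θ, h1, map_one])⟩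

/-- The point with first coordinate `x` and ratio `θ`. -/
def pt {θ : F} (hθ : OnCircle C θ) (x : F) : Hp C :=
  ⟨x, θ * (x * C.s x) / (1 - θ), by
    have h0 := hθ.ne_zero
    have h1 := hθ.sub_ne
    simp only [map_div₀, map_mul, map_sub, map_one, C.invol, hθ.s_eq]
    have h2 : θ - 1 ≠ 0 := sub_ne_zero.2 hθ.2
    field_simp
    ring⟩

theorem pt_rel {θ : F} (hθ : OnCircle C θ) (x : F) : (pt hθ x).y + θ * C.s (pt hθ x).y = 0 := by
  have h0 := hθ.ne_zero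
  have h1 := hθ.sub_ne
  have h2 : θ - 1 ≠ 0 := sub_ne_zero.2 hθ.2
  simp only [pt, map_div₀, map_mul, map_sub, map_one, C.invol, hθ.s_eq]
  field_simp
  ring

theorem eq_of_rel {θ : F} {u v : Hp C} (hθ : OnCircle C θ) (hx : u.x = v.x) (hu : u.y + θ * C.s u.y = 0)
    (hv : v.y + θ * C.s v.y = 0) : u = v := by
  refine Hp.ext' hx (C.s.injective (mul_left_cancel₀ hθ.sub_ne ?_))
  have h1 := u.cond
  have h2 := v.cond
  rw [hx] at h1
  linear_combination h1 - h2 - hu + hv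

/-- All points of ratio `θ` are good. -/
def AllGood (θ : F) : Prop := ∀ u : Hp C, u.x ≠ 0 → u.y + θ * C.s u.y = 0 → B.Good u

theorem allGood_inv {θ : F} (h : B.AllGood θ) : B.AllGood (C.s θ) := fun u hx hu => by
  rw [← inv_inv u]
  refine B.good_inv (h _ (by simpa [Hp.inv_x] using hx) ?_)
  rw [Hp.inv_y, C.invol]
  have := congrArg C.s hu
  rw [map_add, map_mul, C.invol, C.invol, map_zero] at this
  exact this

theorem allGood_of_seeds {θ : F} (hθ : OnCircle C θ) (R : Set F)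
    (hR : ∀ x : F, x ≠ 0 → ∃ r ∈ R, ∃ a : Fˣ, x = (a : F) ^ 2 / C.s a * r)
    (h : ∀ r ∈ R, B.Good (pt hθ r)) : B.AllGood θ := fun u hx hu => by
  obtain ⟨r, hr, a, ha⟩ := hR u.x hx
  have e : u = Hp.sc a (pt hθ r) := by
    refine eq_of_rel hθ ha hu ?_
    have e := pt_rel hθ r
    simp only [Hp.sc, map_mul, C.invol]
    linear_combination (a : F) * C.s a * e
  rw [e]
  exact B.good_sc (h r hr) a

theorem allGood_mul (hc : ∀ v : Hp C, v.x = 0 → v.y ≠ 0 → B.Good v) {θ θ' : F} (hθ : OnCircle C θ)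
    (hθ' : OnCircle C θ') (hne : θ * θ' ≠ 1) (h : B.AllGood θ) (h' : B.AllGood θ') :
    B.AllGood (C.s (θ * θ')) := fun u hx hu => by
  have h0 := hθ.ne_zero
  have h0' := hθ'.ne_zero
  have h1 := hθ.sub_ne
  have h1' := hθ'.sub_ne
  have hk : 1 - θ * θ' ≠ 0 := sub_ne_zero.2 (Ne.symm hne)
  have hsx := C.ne_zero hx
  have hθθ : OnCircle C (θ * θ') := ⟨by rw [map_mul, mul_mul_mul_comm, hθ.1, hθ'.1, one_mul], hne⟩
  set x : F := C.s (-(1 - θ * θ') / (θ * u.x)) with hxdef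
  have hx0 : x ≠ 0 := C.ne_zero (div_ne_zero (neg_ne_zero.2 hk) (mul_ne_zero h0 hx))
  have hsx' : C.s x = -(1 - θ * θ') / (θ * u.x) := by rw [hxdef, C.invol]
  have hxv : x = -(θ * θ' - 1) / (θ' * C.s u.x) := by
    rw [hxdef]; simp only [map_div₀, map_neg, map_sub, map_one, map_mul, hθ.s_eq, hθ'.s_eq]
    field_simp
  have h2 : θ - 1 ≠ 0 := sub_ne_zero.2 hθ.2
  have h2' : θ' - 1 ≠ 0 := sub_ne_zero.2 hθ'.2
  have hn : x * C.s x ≠ 0 := mul_ne_zero hx0 (C.ne_zero hx0)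
  have hab : B.Good (pt hθ x * pt hθ' (-x)) := by
    refine hc _ (by simp [Hp.mul_x, pt]) ?_
    simp only [Hp.mul_y, pt, map_neg]
    intro h3
    field_simp at h3
    refine hk (mul_left_cancel₀ hn ?_)
    linear_combination h3
  have hg := B.good_tri (h _ (by simpa [pt] using hx0) (pt_rel hθ x))
    (h' _ (by simpa [pt] using hx0) (pt_rel hθ' (-x))) hab
  have e : u = Rp C (pt hθ x) * Lp C (pt hθ' (-x)) := by
    have ey : C.s (pt hθ' (-x)).y = -(x * C.s x) / (1 - θ') := by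
      simp only [pt, map_div₀, map_mul, map_sub, map_one, map_neg, C.invol, hθ'.s_eq]
      field_simp
      ring
    refine eq_of_rel (hθθ.inv) ?_ hu ?_
    · simp only [Hp.mul_x, Rp, Lp, ey]
      simp only [pt, map_neg]
      rw [hsx']
      field_simp
      ring
    · have hy : (Rp C (pt hθ x) * Lp C (pt hθ' (-x))).y = (1 - θ * θ') / (θ * θ' * (x * C.s x)) := by
        simp only [Hp.mul_y, Rp, Lp, map_div₀, map_neg, C.invol]
        simp only [pt, map_neg]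
        field_simp
        ring
      rw [hy]
      simp only [map_div₀, map_mul, map_sub, map_one, C.invol, hθ.s_eq, hθ'.s_eq]
      field_simp
      ring
  rw [e]
  exact hg

/-- All forms from one central seed and the seeds of one ratio. -/
theorem good_all [Finite F] {δ : Hp C} (hδx : δ.x = 0) (hδ : δ.y ≠ 0) (hz : B.Good δ) {θ₀ : F}
    (hθ : OnCircle C θ₀) (hgen : ∀ θ, OnCircle C θ → ∃ k : ℕ, θ = θ₀ ^ k) (R : Set F)
    (hR : ∀ x : F, x ≠ 0 → ∃ r ∈ R, ∃ a : Fˣ, x = (a : F) ^ 2 / C.s a * r)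
    (hseed : ∀ r ∈ R, B.Good (pt hθ r)) : ∀ u : Hp C, u.y ≠ 0 → B.Good u := by
  have hc : ∀ v : Hp C, v.x = 0 → v.y ≠ 0 → B.Good v := fun v hvx hvy => by
    have hd : C.s δ.y = -δ.y := by
      have := δ.cond; rw [hδx, zero_mul, add_zero] at this; exact eq_neg_of_add_eq_zero_right this
    have hv : C.s v.y = -v.y := by
      have := v.cond; rw [hvx, zero_mul, add_zero] at this; exact eq_neg_of_add_eq_zero_right this
    obtain ⟨b, hb⟩ := C.isConj.norm_surjective (a := v.y / δ.y) (by rw [map_div₀, hd, hv, neg_div_neg_eq])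
    have hb0 : b ≠ 0 := fun h => by
      rw [h, zero_mul, eq_comm, div_eq_zero_iff] at hb
      exact hb.elim hvy hδ
    have e : v = Hp.sc (Units.mk0 b hb0) δ :=
      Hp.ext' (by simp [Hp.sc, hδx, hvx]) (by simp only [Hp.sc, Units.val_mk0]; rw [hb, div_mul_cancel₀ _ hδ])
    rw [e]
    exact B.good_sc hz _
  have hall : ∀ k : ℕ, θ₀ ^ k ≠ 1 → B.AllGood (θ₀ ^ k) := fun k => by
    induction k with
    | zero => intro h; exact absurd (pow_zero θ₀) h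
    | succ k ih =>
      intro hk
      by_cases h1 : θ₀ ^ k = 1
      · rw [pow_succ, h1, one_mul]
        exact B.allGood_of_seeds hθ R hR hseed
      · have hck : OnCircle C (θ₀ ^ k) := ⟨by rw [map_pow, ← mul_pow, hθ.1, one_pow], h1⟩
        rw [pow_succ] at hk ⊢
        have hck' : OnCircle C (θ₀ ^ k * θ₀) :=
          ⟨by rw [map_mul, mul_mul_mul_comm, hck.1, hθ.1, one_mul], hk⟩
        have := B.allGood_inv (B.allGood_mul hc hck hθ hk (ih h1) (B.allGood_of_seeds hθ R hR hseed))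
        rwa [C.invol] at this
  intro u hu
  by_cases hx : u.x = 0
  · exact hc u hx hu
  have hsu := C.ne_zero hu
  have hon : OnCircle C (-u.y / C.s u.y) := by
    refine ⟨?_, fun h1 => hx ?_⟩
    · simp only [map_div₀, map_neg, C.invol]
      field_simp
    · rw [div_eq_one_iff_eq hsu] at h1
      have := u.cond
      rw [← h1] at this
      simpa using this
  obtain ⟨k, hk⟩ := hgen _ hon
  refine hall k (hk ▸ hon.2) u hx ?_
  rw [← hk, div_mul_cancel₀ _ hsu, add_neg_cancel]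

theorem cover (hg : ∀ u : Hp C, u.y ≠ 0 → B.Good u) (g : G) :
    (∃ a s, g = B.ψ a * B.τ s) ∨ ∃ a s b, g = B.cell a s b := by
  let S : Set G := {g | (∃ a s, g = B.ψ a * B.τ s) ∨ ∃ a s b, g = B.cell a s b}
  have hψ : ∀ h, ∀ x ∈ S, B.ψ h * x ∈ S := by
    rintro h x (⟨a, s, rfl⟩ | ⟨a, s, b, rfl⟩)
    · exact Or.inl ⟨h * a, s, by rw [map_mul, mul_assoc]⟩
    · exact Or.inr ⟨h * a, s, b, by simp only [cell, map_mul, mul_assoc]⟩
  have hτ : ∀ r, ∀ x ∈ S, B.τ r * x ∈ S := by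
    rintro r x (⟨a, s, rfl⟩ | ⟨a, s, b, rfl⟩)
    · exact Or.inl ⟨Hp.sc r a, r * s, by rw [← mul_assoc, B.τ_ψ, map_mul, mul_assoc]⟩
    · exact Or.inr (B.exists_τ_cell r a s b)
  have hw : ∀ x ∈ S, B.w * x ∈ S := by
    rintro x (⟨a, s, rfl⟩ | ⟨a, s, b, rfl⟩)
    · refine Or.inr ⟨1, (C.su s)⁻¹, Hp.sc s⁻¹ a, ?_⟩
      rw [cell, map_one, one_mul, B.ψ_τ, ← mul_assoc, B.w_τ']
    · have e : B.w * B.cell a s b = B.w * B.ψ a * B.w * (B.τ (C.su s)⁻¹ * B.ψ b) := by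
        rw [cell, ← B.w_τ]
        calc B.w * (B.ψ a * B.τ s * B.w * B.ψ b) = B.w * B.ψ a * (B.w * B.w) * B.τ s * B.w * B.ψ b := by
              rw [B.w_sq]; group
          _ = _ := by group
      by_cases ha : a.y = 0
      · refine Or.inl ⟨Hp.sc (C.su s)⁻¹ b, (C.su s)⁻¹, ?_⟩
        rw [e, Hp.eq_one_of_y ha, map_one, mul_one, B.w_sq, one_mul, B.τ_ψ]
      · refine Or.inr ?_
        obtain ⟨a', s', b', e'⟩ := B.exists_cell_τ (C.su s)⁻¹ (Lp C a) (tp C a) (Rp C a)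
        refine ⟨a', s', b' * b, ?_⟩
        rw [e, hg a ha, ← mul_assoc, e', cell, cell, map_mul, mul_assoc]
  have key : ∀ g ∈ Subgroup.closure (Set.range B.ψ ∪ Set.range B.τ ∪ {B.w}), g ∈ S := fun g hgm => by
    induction hgm using Subgroup.closure_induction_left with
    | one => exact Or.inl ⟨1, 1, by simp⟩
    | mul_left x hx y _ hy =>
      rcases hx with (⟨h, rfl⟩ | ⟨r, rfl⟩) | rfl
      · exact hψ h y hy
      · exact hτ r y hy
      · exact hw y hy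
    | inv_mul_cancel x hx y _ hy =>
      rcases hx with (⟨h, rfl⟩ | ⟨r, rfl⟩) | rfl
      · rw [← map_inv]; exact hψ _ y hy
      · rw [← map_inv]; exact hτ _ y hy
      · rw [B.w_inv]; exact hw y hy
  exact key g (by rw [B.gen]; trivial)

theorem bijective (hg : ∀ u : Hp C, u.y ≠ 0 → B.Good u) : Function.Bijective B.Φ := by
  constructor
  · rw [injective_iff_map_eq_one]
    intro g hg1
    rcases B.cover hg g with ⟨a, s, rfl⟩ | ⟨a, s, b, rfl⟩
    · rw [map_mul, B.Φ_ψ, B.Φ_τ] at hg1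
      obtain ⟨rfl, rfl⟩ := borel_eq_one C hg1
      simp
    · rw [B.Φ_cell] at hg1
      exact absurd hg1 (cell_ne_one C a b s)
  · intro x
    rcases cases_cell C x with ⟨a, s, rfl⟩ | ⟨a, b, s, rfl⟩
    · exact ⟨B.ψ a * B.τ s, by rw [map_mul, B.Φ_ψ, B.Φ_τ]⟩
    · exact ⟨B.cell a s b, B.Φ_cell a s b⟩

end Bru

end Cfsg.Lib.SUPres
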