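import Cfsg.Agent.Pres.SU.Model
import Cfsg.Agent.Classical.Unitary.Matrix
import Cfsg.Agent.Known.SUThreeUnip.Frame

/-! # The model and the standard group -/

set_option autoImplicit false
set_option linter.unusedSectionVars false
set_option linter.unusedSimpArgs false

namespace Cfsg.Lib.SUPres

open Matrix
open Cfsg.Lib.Classical

universe u

variable {F : Type u} [Field F] [Fintype F] {q : ℕ} (hF : Fintype.card F = q ^ 2)

/-- The conjugation given by the `q`th power. -/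
noncomputable def stdConj : Conj F := ⟨powConj hF, powConj_isConj hF⟩

theorem stdConj_s (a : F) : (stdConj hF).s a = a ^ q := powConj_apply hF a

theorem exists_basis_change :
    ∃ P : Matrix (Fin 3) (Fin 3) F, IsUnit P.det ∧
      ∀ u v, hermForm 3 F q (P *ᵥ u) (P *ᵥ v) = bf (stdConj hF) u v := by
  let H := stdHerm 3 hF
  obtain ⟨W⟩ := SUThreeUnip.exists_wframe H (l := 0) (by rw [Module.finrank_fin_fun])
  let c : Fin 3 → Fin 3 → F := ![W.e 0, W.d, W.f 0]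
  let P : Matrix (Fin 3) (Fin 3) F := (Matrix.of c)ᵀ
  have hP : ∀ u, P *ᵥ u = ∑ i, u i • c i := fun u => by
    funext k
    simp [P, Matrix.mulVec, dotProduct, Fin.sum_univ_three, mul_comm]
  have hu : ∀ u v, hermForm 3 F q (P *ᵥ u) (P *ᵥ v) = bf (stdConj hF) u v := by
    intro u v
    rw [← stdHerm_h hF, hP, hP, bf]
    show H.h (∑ i, u i • c i) (∑ i, v i • c i) = _
    simp only [Fin.sum_univ_three, H.add_left, H.add_right, H.smul_left, H.smul_right, c]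
    simp only [Matrix.cons_val_zero, Matrix.cons_val_one, Matrix.cons_val_two, Matrix.tail_cons, Matrix.head_cons,
      W.hee, W.hff, W.hef_self le_rfl, W.hfe_self le_rfl, W.hed, W.hfd, W.hde, W.hdf, W.hdd]
    show _ = u 0 * powConj hF (v 2) + u 1 * powConj hF (v 1) + u 2 * powConj hF (v 0)
    show _ + _ + _ = u 0 * H.σ (v 2) + u 1 * H.σ (v 1) + u 2 * H.σ (v 0)
    ring
  refine ⟨P, ?_, hu⟩
  rw [isUnit_iff_ne_zero]
  intro h
  obtain ⟨v, hv, hPv⟩ := Matrix.exists_mulVec_eq_zero_iff.mpr h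
  refine hv (funext fun i => ?_)
  have hz : ∀ w, bf (stdConj hF) v w = 0 := fun w => by
    rw [← hu, hPv]; simp [hermForm]
  fin_cases i
  · simpa [bf] using hz (Pi.single 2 1)
  · simpa [bf] using hz (Pi.single 1 1)
  · simpa [bf] using hz (Pi.single 0 1)

theorem mem_SU_iff {n : ℕ} {g : SpecialLinearGroup (Fin n) F} :
    g ∈ Cfsg.SU n F q ↔ ∀ u v, hermForm n F q (g.1 *ᵥ u) (g.1 *ᵥ v) = hermForm n F q u v := Iff.rfl

/-- The model is the standard group. -/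
theorem exists_equiv : Nonempty (SJ (stdConj hF) ≃* Cfsg.SU 3 F q) := by
  obtain ⟨P, hd, hu⟩ := exists_basis_change hF
  have h1 : P * P⁻¹ = 1 := Matrix.mul_nonsing_inv P hd
  have h2 : P⁻¹ * P = 1 := Matrix.nonsing_inv_mul P hd
  let cj : SpecialLinearGroup (Fin 3) F → SpecialLinearGroup (Fin 3) F := fun g =>
    ⟨P * g.1 * P⁻¹, by rw [det_mul, det_mul, g.2, mul_one, ← det_mul, h1, det_one]⟩
  let cj' : SpecialLinearGroup (Fin 3) F → SpecialLinearGroup (Fin 3) F := fun g =>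
    ⟨P⁻¹ * g.1 * P, by rw [det_mul, det_mul, g.2, mul_one, ← det_mul, h2, det_one]⟩
  have hm : ∀ g ∈ SJ (stdConj hF), cj g ∈ Cfsg.SU 3 F q := fun g hg u v => by
    show hermForm 3 F q ((P * g.1 * P⁻¹) *ᵥ u) ((P * g.1 * P⁻¹) *ᵥ v) = _
    have e : ∀ x, (P * g.1 * P⁻¹) *ᵥ x = P *ᵥ (g.1 *ᵥ (P⁻¹ *ᵥ x)) := fun x => by
      rw [mulVec_mulVec, mulVec_mulVec, mul_assoc]
    rw [e, e, hu]
    refine (hg (P⁻¹ *ᵥ u) (P⁻¹ *ᵥ v)).trans ?_
    rw [← hu, mulVec_mulVec, mulVec_mulVec, h1, one_mulVec, one_mulVec]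
  have hm' : ∀ g ∈ Cfsg.SU 3 F q, cj' g ∈ SJ (stdConj hF) := fun g hg u v => by
    show bf _ ((P⁻¹ * g.1 * P) *ᵥ u) ((P⁻¹ * g.1 * P) *ᵥ v) = _
    rw [← hu, mulVec_mulVec, mulVec_mulVec, ← mul_assoc, ← mul_assoc, h1, one_mul, ← mulVec_mulVec,
      ← mulVec_mulVec, mem_SU_iff.mp hg, hu]
  exact ⟨{
    toFun := fun g => ⟨cj g.1, hm _ g.2⟩
    invFun := fun g => ⟨cj' g.1, hm' _ g.2⟩
    left_inv := fun g => mt_ext (by
      show P⁻¹ * (P * g.1.1 * P⁻¹) * P = g.1.1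
      rw [← mul_assoc, ← mul_assoc, h2, one_mul, mul_assoc, h2, mul_one])
    right_inv := fun g => Subtype.ext (Subtype.ext (by
      show P * (P⁻¹ * g.1.1 * P) * P⁻¹ = g.1.1
      rw [← mul_assoc, ← mul_assoc, h1, one_mul, mul_assoc, h1, mul_one]))
    map_mul' := fun a b => Subtype.ext (Subtype.ext (by
      show P * (a.1.1 * b.1.1) * P⁻¹ = (P * a.1.1 * P⁻¹) * (P * b.1.1 * P⁻¹)
      simp only [mul_assoc]
      rw [← mul_assoc P⁻¹ P, h2, one_mul])) }⟩

end Cfsg.Lib.SUPres
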