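import Cfsg.Agent.Pres.SU.Field
import Cfsg.Agent.Pres.SU.Bruhat
import Cfsg.Agent.Pres.SU.Equiv
import Cfsg.Agent.Known.SLnPres.Wrap

/-! # A short presentation of the three-dimensional special unitary group -/

set_option autoImplicit false
set_option linter.unusedSectionVars false
set_option linter.unusedSimpArgs false
set_option linter.style.haveILetI false

namespace Cfsg.Lib.SUPres

open Cfsg.Lib.Classical
open Cfsg.Lib.SL2Pres (allClosure)
open Cfsg.Lib.SLnPres (PresN)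

variable {F : Type*} [Field F] [Fintype F] {C : Conj F}

theorem sc_sc (C : Conj F) (a b : Fˣ) (h : Hp C) : Hp.sc (a * b) h = Hp.sc a (Hp.sc b h) :=
  uM_injective C (by rw [← tM_uM, ← tM_uM, ← tM_uM, map_mul]; group)

namespace Par

variable (P : Par C)

theorem exists_seed {u : Hp C} (hu : u.y ≠ 0) : ∃ r : FreeGroup (Fin 3), P.ev r = 1 ∧
    ∀ (G : Type) [Group G] (g : Fin 3 → G) (B : Bru C G), B.w = g 2 → (∀ k : ℕ, B.τ (P.ω ^ k) = g 1 ^ k) →
      (∀ (W : FreeGroup (Fin 3)) (h : Hp C), P.ev W = uM C h → FreeGroup.lift g W ∈ allClosure (g 1) (g 0) →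
        FreeGroup.lift g W = B.ψ h) →
      FreeGroup.lift g r = 1 → B.Good u := by
  obtain ⟨k, hk⟩ := P.gen (tp C u)
  obtain ⟨W, hW, hW'⟩ := P.exists_word P.span u
  obtain ⟨L, hL, hL'⟩ := P.exists_word P.span (Lp C u)
  obtain ⟨R, hR, hR'⟩ := P.exists_word P.span (Rp C u)
  refine ⟨ww * W * ww * (L * wt ^ k * ww * R)⁻¹, ?_, fun G _ g B hBw hBt hB hr => ?_⟩
  · rw [map_mul, map_inv, mul_inv_eq_one, map_mul, map_mul, map_mul, map_mul, map_mul, map_pow, P.ev_w, P.ev_t, hW,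
      hL, hR, ← map_pow, hk, wM_uM C hu]
  · simp only [map_mul, map_inv, map_pow, FreeGroup.lift_apply_of, mul_inv_eq_one] at hr
    rw [hB W u hW (hW' G g), hB L _ hL (hL' G g), hB R _ hR (hR' G g), ← hBw, ← hBt, hk] at hr
    exact hr

/-- The relations, with a proof that they suffice. -/
theorem exists_rels : ∃ n, (n ≤ 2 ∨ P.q = 8 ∧ n = 3) ∧ ∃ L : List (FreeGroup (Fin 3)), L.length ≤ n + 17 ∧
    (∀ r ∈ L, P.ev r = 1) ∧
    ∀ (G : Type) [Group G] (g : Fin 3 → G) (Φ : G →* SJ C), (∀ i, Φ (g i) = P.gv i) →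
      Subgroup.closure (Set.range g) = ⊤ → (∀ r ∈ L, FreeGroup.lift g r = 1) → Function.Bijective Φ := by
  classical
  obtain ⟨n, hn, hz⟩ := P.exists_zrels
  refine ⟨n, hn, ?_⟩
  obtain ⟨Lb, hLb, sb, ob⟩ := P.exists_borel hz
  have h3 := P.three_le
  set θ₀ : F := (P.ω : F) ^ (P.q - 1) with hθdef
  have hsω : C.s (P.ω : F) = (P.ω : F) ^ P.q := P.s_eq _
  have hθ : Bru.OnCircle C θ₀ := by
    refine ⟨?_, fun h => ?_⟩
    · rw [hθdef, map_pow, hsω, ← pow_mul, ← pow_add]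
      have e : P.q - 1 + P.q * (P.q - 1) = orderOf P.ω := by
        rw [P.ord, show P.q ^ 2 - 1 = (P.q + 1) * (P.q - 1) by rw [← Nat.sq_sub_sq, one_pow]]; ring
      rw [e, ← Units.val_pow_eq_pow_val, pow_orderOf_eq_one, Units.val_one]
    · have h1 := (P.pow_eq_pow (i := P.q - 1) (j := 0) (by rw [pow_zero]; exact h)).symm
      rw [Nat.modEq_iff_dvd' (by omega), Nat.sub_zero] at h1
      have := Nat.le_of_dvd (by omega) h1
      have : 3 * P.q ≤ P.q ^ 2 := by rw [sq]; exact Nat.mul_le_mul_right _ h3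
      omega
  have hgen : ∀ θ, Bru.OnCircle C θ → ∃ k : ℕ, θ = θ₀ ^ k := fun θ h => by
    obtain ⟨m, hm⟩ := P.gen (Units.mk0 θ h.ne_zero)
    have hm' : (P.ω : F) ^ m = θ := by simpa using congrArg Units.val hm
    have h1 := h.1
    rw [← hm', map_pow, hsω, ← pow_mul, ← pow_add, show m + P.q * m = (P.q + 1) * m by ring] at h1
    have h2 := (P.pow_eq_pow (i := (P.q + 1) * m) (j := 0) (by rw [pow_zero]; exact h1)).symm
    rw [Nat.modEq_iff_dvd' (by omega), Nat.sub_zero,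
      show P.q ^ 2 - 1 = (P.q + 1) * (P.q - 1) by rw [← Nat.sq_sub_sq, one_pow]] at h2
    obtain ⟨c, hc⟩ := Nat.dvd_of_mul_dvd_mul_left (by omega) h2
    exact ⟨c, by rw [hθdef, ← pow_mul, ← hc, hm']⟩
  let δ' : Hp C := P.δ
  obtain ⟨rδ, eδ, oδ⟩ := P.exists_seed (u := P.δ) P.δ_ne
  have hpt : ∀ i : Fin 3, (Bru.pt hθ ((P.ω : F) ^ (i : ℕ))).y ≠ 0 := fun i =>
    div_ne_zero (mul_ne_zero hθ.ne_zero (mul_ne_zero (pow_ne_zero _ P.ω.ne_zero) (C.ne_zero (pow_ne_zero _ P.ω.ne_zero))))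
      hθ.sub_ne
  choose rs ers ors using fun i => P.exists_seed (hpt i)
  refine ⟨[wt ^ (P.q ^ 2 - 1), ww * ww, ww * wt * ww * wt ^ P.q] ++ Lb ++ [rδ] ++ List.ofFn rs, by simp; omega,
    ?_, fun G _ g Φ hΦ hgtop hr => ?_⟩
  · simp only [List.forall_mem_append, List.forall_mem_cons, List.not_mem_nil, false_imp_iff, implies_true, and_true,
      List.forall_mem_ofFn_iff, map_mul, map_pow, P.ev_t, P.ev_w]
    refine ⟨⟨⟨⟨?_, wM_sq C, ?_⟩, sb⟩, eδ⟩, ers⟩
    · rw [← map_pow, ← P.ord, pow_orderOf_eq_one, map_one]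
    · rw [wM_tM, ← map_pow, ← map_mul]
      have e : C.su P.ω = P.ω ^ P.q := Units.ext (by rw [Conj.coe_su, hsω, Units.val_pow_eq_pow_val])
      rw [e, inv_mul_cancel, map_one]
  simp only [List.forall_mem_append, List.forall_mem_cons, List.not_mem_nil, false_imp_iff, implies_true, and_true,
    List.forall_mem_ofFn_iff] at hr
  obtain ⟨⟨⟨⟨hN, hw2, hwt⟩, hb⟩, hδ⟩, hs⟩ := hr
  simp only [map_mul, map_pow, FreeGroup.lift_apply_of] at hN hw2 hwt
  obtain ⟨ψ, hΦψ, hψu, hψt, hψW⟩ := ob G g Φ hΦ hN hb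
  have hzp : ∀ a : Fˣ, a ∈ Subgroup.zpowers P.ω := fun a => by
    obtain ⟨k, hk⟩ := P.gen a
    exact hk ▸ pow_mem (Subgroup.mem_zpowers _) k
  let τ : Fˣ →* G := monoidHomOfForallMemZpowers hzp (g' := g 1) (by
    rw [P.ord]; exact orderOf_dvd_of_pow_eq_one hN)
  have hτ : ∀ k : ℕ, τ (P.ω ^ k) = g 1 ^ k := fun k => by
    rw [map_pow, monoidHomOfForallMemZpowers_apply_gen]
  have hΦτ : ∀ a, Φ (τ a) = tM C a := fun a => by
    obtain ⟨k, rfl⟩ := P.gen a
    rw [hτ, map_pow, hΦ, map_pow]; rfl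
  let B : Bru C G :=
    { ψ := ψ
      τ := τ
      w := g 2
      Φ := Φ
      Φ_ψ := hΦψ
      Φ_τ := hΦτ
      Φ_w := hΦ 2
      conj := fun a h => by
        obtain ⟨k, rfl⟩ := P.gen a
        rw [hτ]
        induction k generalizing h with
        | zero =>
          rw [pow_zero, pow_zero]
          have : Hp.sc (1 : Fˣ) h = h := Hp.ext' (by simp [Hp.sc]) (by simp [Hp.sc])
          rw [this]; simp
        | succ k ih =>
          rw [pow_succ' P.ω, sc_sc, ← hψt, ← ih, pow_succ']; group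
      w_sq := hw2
      w_τ := fun a => by
        obtain ⟨k, rfl⟩ := P.gen a
        have e1 : g 2 * g 1 * g 2 = (g 1 ^ P.q)⁻¹ := eq_inv_of_mul_eq_one_left hwt
        have e2 : g 2 * g 1 ^ k * g 2 = (g 2 * g 1 * g 2) ^ k := by
          nth_rw 2 4 [show g 2 = (g 2)⁻¹ from (inv_eq_of_mul_eq_one_right hw2).symm]
          rw [conj_pow]
        have e3 : C.su (P.ω ^ k) = (P.ω ^ P.q) ^ k := by
          rw [map_pow]; congr 1
          exact Units.ext (by rw [Conj.coe_su, hsω, Units.val_pow_eq_pow_val])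
        rw [hτ, e2, e1, e3, ← pow_mul, map_inv, hτ, inv_pow, pow_mul]
      gen := by
        rw [eq_top_iff, ← hgtop, Subgroup.closure_le]
        rintro _ ⟨i, rfl⟩
        fin_cases i
        · exact Subgroup.subset_closure (Or.inl (Or.inl ⟨P.u₀, hψu⟩))
        · exact Subgroup.subset_closure (Or.inl (Or.inr ⟨P.ω, by simpa using hτ 1⟩))
        · exact Subgroup.subset_closure (Or.inr rfl) }
  refine B.bijective (B.good_all (δ := P.δ) rfl P.δ_ne (oδ G g B rfl hτ hψW hδ) hθ hgen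
    (Set.range fun i : Fin 3 => (P.ω : F) ^ (i : ℕ)) (fun x hx => ?_) ?_)
  · obtain ⟨m, hm⟩ := P.gen (Units.mk0 x hx)
    have hm' : (P.ω : F) ^ m = x := by simpa using congrArg Units.val hm
    refine ⟨_, ⟨⟨m % 3, Nat.mod_lt _ (by norm_num)⟩, rfl⟩, (P.ω ^ (m / 3)) ^ 2 * C.su (P.ω ^ (m / 3)), ?_⟩
    have hw := P.ω.ne_zero
    have hs := C.ne_zero hw
    rw [← hm']
    conv_lhs => rw [← Nat.mod_add_div m 3]
    simp only [Units.val_mul, Units.val_pow_eq_pow_val, Conj.coe_su, map_mul, map_pow, C.invol]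
    field_simp
    ring
  · rintro _ ⟨i, rfl⟩
    exact ors i G g B rfl hτ hψW (hs i)

/-- At most twenty relations present the model. -/
theorem presN (P : Par C) : PresN (SJ C) 3 20 := by
  classical
  obtain ⟨n, hn, L, hL, hsound, hsuff⟩ := P.exists_rels
  let R : Finset (FreeGroup (Fin 3)) := L.toFinset
  let Φ : PresentedGroup (↑R : Set (FreeGroup (Fin 3))) →* SJ C :=
    PresentedGroup.toGroup (f := P.gv) fun x hx => hsound x (List.mem_toFinset.1 hx)
  refine ⟨R, (List.toFinset_card_le L).trans (by rcases hn with h | ⟨-, h⟩ <;> omega),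
    ⟨MulEquiv.ofBijective Φ (hsuff _ PresentedGroup.of Φ (fun i => PresentedGroup.toGroup.of _)
      (PresentedGroup.closure_range_of _) fun r hr => ?_)⟩⟩
  rw [SLnPres.lift_eq_mk]
  exact PresentedGroup.one_of_mem (List.mem_toFinset.2 hr)

end Par

universe u

variable {F : Type u} [Field F] [Fintype F] {q : ℕ}

/-- The data exist. -/
theorem exists_par (hF : Fintype.card F = q ^ 2) (hq : 3 ≤ q) : ∃ P : Par (stdConj hF), P.q = q := by
  obtain ⟨g, hg⟩ := IsCyclic.exists_generator (α := Fˣ)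
  obtain ⟨th, hth⟩ := (powConj_isConj hF).exists_trace_one
  refine ⟨{ q := q, three_le := hq, s_eq := stdConj_s hF, ω := g
            gen := fun a => mem_powers_iff_mem_zpowers.2 (hg a)
            ord := ?_
            u₀ := ⟨1, -th, ?_⟩
            hu₀ := rfl }, rfl⟩
  · rw [orderOf_eq_card_of_forall_mem_zpowers hg, Nat.card_units, Nat.card_eq_fintype_card, hF]
  · show -th + powConj hF (-th) + 1 * powConj hF 1 = 0
    rw [map_neg, map_one]
    linear_combination -hth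

/-- A short presentation of `SU₃(q)`. -/
theorem su_three (hF : Fintype.card F = q ^ 2) (hq : 3 ≤ q) : PresN (Cfsg.SU 3 F q) 3 20 := by
  obtain ⟨P, -⟩ := exists_par hF hq
  obtain ⟨R, hR, ⟨e⟩⟩ := P.presN
  obtain ⟨f⟩ := exists_equiv hF
  exact ⟨R, hR, ⟨e.trans f⟩⟩

theorem center_SU_cyclic (hF : Fintype.card F = q ^ 2) {n : ℕ} (hn : 2 ≤ n) :
    ∃ z, Subgroup.center (Cfsg.SU n F q) = Subgroup.zpowers z := by
  let H := stdHerm n hF
  have hd : 2 ≤ Module.finrank F (Fin n → F) := by rw [Module.finrank_fin_fun]; exact hn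
  let i₀ : Fin n := ⟨0, by omega⟩
  let f : Subgroup.center H.SIsom →* F :=
    { toFun := fun g => g.1.1.1 (Pi.single i₀ 1) i₀
      map_one' := by simp
      map_mul' := fun a b => by
        obtain ⟨x, -, -, hx⟩ := (H.mem_center_SIsom_iff hd).mp a.2
        obtain ⟨y, -, -, hy⟩ := (H.mem_center_SIsom_iff hd).mp b.2
        show a.1.1.1 (b.1.1.1 (Pi.single i₀ 1)) i₀ = _
        rw [hy, map_smul, hx]
        simp [mul_comm] }
  have hf : Function.Injective f := fun a b h => by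
    obtain ⟨x, -, -, hx⟩ := (H.mem_center_SIsom_iff hd).mp a.2
    obtain ⟨y, -, -, hy⟩ := (H.mem_center_SIsom_iff hd).mp b.2
    have hxy : x = y := by simpa [f, hx, hy] using h
    exact Subtype.ext (Subtype.ext (H.isom_ext fun v => by rw [hx, hy, hxy]))
  haveI : Finite (Cfsg.SU n F q) := inferInstance
  haveI : Finite H.SIsom := Finite.of_equiv _ (suEquiv n hF).symm.toEquiv
  haveI : IsCyclic (Subgroup.center H.SIsom) := isCyclic_of_injective_ringHom f hf
  haveI : IsCyclic (Subgroup.center (Cfsg.SU n F q)) :=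
    isCyclic_of_surjective _ (Subgroup.centerCongr (suEquiv n hF)).surjective
  obtain ⟨⟨z, hz⟩, hgen⟩ := IsCyclic.exists_generator (α := Subgroup.center (Cfsg.SU n F q))
  refine ⟨z, le_antisymm (fun x hx => ?_) (Subgroup.zpowers_le.2 hz)⟩
  obtain ⟨k, hk⟩ := Subgroup.mem_zpowers_iff.1 (hgen ⟨x, hx⟩)
  exact Subgroup.mem_zpowers_iff.2 ⟨k, congrArg Subtype.val hk⟩

theorem psu_three (hF : Fintype.card F = q ^ 2) (hq : 3 ≤ q) : PresN (Cfsg.PSU 3 F q) 3 21 := by
  obtain ⟨z, hz⟩ := center_SU_cyclic hF (n := 3) (by norm_num)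
  exact (su_three hF hq).quotient _ z hz

end Cfsg.Lib.SUPres
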