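import Mathlib
import Cfsg.Agent.Classical.Unitary.Field

/-!
# A model of the three-dimensional special unitary group

The form `u₀ v̄₂ + u₁ v̄₁ + u₂ v̄₀`, the unipotent radical of the upper triangular subgroup in coordinates,
and the two Bruhat cells.
-/

set_option autoImplicit false
set_option linter.unusedSectionVars false

namespace Cfsg.Lib.SUPres

open Matrix
open Cfsg.Lib.Classical (IsConj)

/-- An involutory field automorphism. -/
structure Conj (F : Type*) [Field F] where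
  /-- The automorphism. -/
  s : F →+* F
  isConj : IsConj s

variable {F : Type*} [Field F] (C : Conj F)

namespace Conj

theorem invol (a : F) : C.s (C.s a) = a := C.isConj.invol a

theorem ne_zero {a : F} (h : a ≠ 0) : C.s a ≠ 0 := (map_ne_zero C.s).2 h

/-- The automorphism on units. -/
def su : Fˣ →* Fˣ := Units.map C.s.toMonoidHom

theorem coe_su (a : Fˣ) : ((C.su a : Fˣ) : F) = C.s a := rfl

end Conj

/-- The form. -/
def bf (u v : Fin 3 → F) : F := u 0 * C.s (v 2) + u 1 * C.s (v 1) + u 2 * C.s (v 0)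

/-- The matrix of the form. -/
def J3 : Matrix (Fin 3) (Fin 3) F := !![0, 0, 1; 0, 1, 0; 1, 0, 0]

theorem bf_mulVec (A : Matrix (Fin 3) (Fin 3) F) (u v : Fin 3 → F) :
    bf C (A *ᵥ u) (A *ᵥ v) = ∑ i, ∑ j, u i * C.s (v j) * bf C (fun k => A k i) fun k => A k j := by
  simp only [bf, Matrix.mulVec, dotProduct, Fin.sum_univ_three, map_add, map_mul]
  ring

/-- The special isometry group of the form. -/
def SJ : Subgroup (SpecialLinearGroup (Fin 3) F) where
  carrier := {g | ∀ u v, bf C (g.1 *ᵥ u) (g.1 *ᵥ v) = bf C u v}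
  mul_mem' {a b} ha hb := by
    intro u v
    show bf C ((a.1 * b.1) *ᵥ u) ((a.1 * b.1) *ᵥ v) = _
    rw [← mulVec_mulVec, ← mulVec_mulVec, ha, hb]
  one_mem' := by
    intro u v
    show bf C ((1 : Matrix (Fin 3) (Fin 3) F) *ᵥ u) ((1 : Matrix (Fin 3) (Fin 3) F) *ᵥ v) = _
    rw [one_mulVec, one_mulVec]
  inv_mem' {a} ha := by
    intro u v
    have h := ha ((a⁻¹).1 *ᵥ u) ((a⁻¹).1 *ᵥ v)
    have e : a.1 * (a⁻¹).1 = 1 := congrArg Subtype.val (mul_inv_cancel a)
    rw [mulVec_mulVec, mulVec_mulVec, e, one_mulVec, one_mulVec] at h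
    exact h.symm

/-- The matrix of an element. -/
abbrev mt {C : Conj F} (g : SJ C) : Matrix (Fin 3) (Fin 3) F := (g : SpecialLinearGroup (Fin 3) F).1

theorem mt_mul {C : Conj F} (a b : SJ C) : mt (a * b) = mt a * mt b := rfl

theorem mt_one {C : Conj F} : mt (1 : SJ C) = 1 := rfl

theorem mt_ext {C : Conj F} {a b : SJ C} (h : mt a = mt b) : a = b := Subtype.ext (Subtype.ext h)

theorem mem_SJ {g : SpecialLinearGroup (Fin 3) F} (h : ∀ i j, bf C (fun k => g.1 k i) (fun k => g.1 k j) =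
    (J3 : Matrix (Fin 3) (Fin 3) F) i j) : g ∈ SJ C := fun u v => by
  rw [bf_mulVec]
  simp only [h, Fin.sum_univ_three]
  simp [bf, J3]

theorem col_form {C : Conj F} (g : SJ C) (i j : Fin 3) :
    bf C (fun k => mt g k i) (fun k => mt g k j) = (J3 : Matrix (Fin 3) (Fin 3) F) i j := by
  have h := g.2 (Pi.single i 1) (Pi.single j 1)
  rw [mulVec_single_one, mulVec_single_one] at h
  refine h.trans ?_
  fin_cases i <;> fin_cases j <;> simp [bf, J3]

/-- Coordinates for the unipotent radical. -/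
structure Hp where
  /-- The first coordinate. -/
  x : F
  /-- The second coordinate. -/
  y : F
  cond : y + C.s y + x * C.s x = 0

namespace Hp

variable {C}

theorem ext' {a b : Hp C} (h1 : a.x = b.x) (h2 : a.y = b.y) : a = b := by
  obtain ⟨ax, ay, ac⟩ := a
  obtain ⟨bx, b_y, bc⟩ := b
  obtain rfl : ax = bx := h1
  obtain rfl : ay = b_y := h2
  rfl

instance : Mul (Hp C) :=
  ⟨fun a b => ⟨a.x + b.x, a.y + b.y - a.x * C.s b.x, by
    simp only [map_add, map_sub, map_mul, C.invol]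
    linear_combination a.cond + b.cond⟩⟩

instance : One (Hp C) := ⟨⟨0, 0, by simp⟩⟩

instance : Inv (Hp C) :=
  ⟨fun a => ⟨-a.x, C.s a.y, by
    rw [C.invol, map_neg]
    linear_combination a.cond⟩⟩

theorem mul_x (a b : Hp C) : (a * b).x = a.x + b.x := rfl

theorem mul_y (a b : Hp C) : (a * b).y = a.y + b.y - a.x * C.s b.x := rfl

theorem one_x : (1 : Hp C).x = 0 := rfl

theorem one_y : (1 : Hp C).y = 0 := rfl

theorem inv_x (a : Hp C) : a⁻¹.x = -a.x := rfl

theorem inv_y (a : Hp C) : a⁻¹.y = C.s a.y := rfl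

instance : Group (Hp C) :=
  Group.ofLeftAxioms
    (fun a b c => ext' (by simp only [mul_x]; ring) (by simp only [mul_x, mul_y, map_add]; ring))
    (fun a => ext' (by simp [mul_x, one_x]) (by simp [mul_y, one_x, one_y]))
    (fun a => ext' (by simp [mul_x, one_x, inv_x]) (by
      simp only [mul_y, inv_x, inv_y, one_y]
      linear_combination a.cond))

theorem eq_one_of_y {a : Hp C} (h : a.y = 0) : a = 1 := by
  have := a.cond
  rw [h, map_zero, add_zero, zero_add, mul_eq_zero, map_eq_zero, or_self] at this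
  exact ext' this h

theorem y_ne {a : Hp C} (h : a ≠ 1) : a.y ≠ 0 := fun h0 => h (eq_one_of_y h0)

/-- The action of a torus element. -/
def sc (a : Fˣ) (h : Hp C) : Hp C :=
  ⟨(a : F) ^ 2 / C.s a * h.x, (a : F) * C.s a * h.y, by
    simp only [map_mul, map_div₀, map_pow, C.invol]
    have ha : (a : F) ≠ 0 := a.ne_zero
    have hs : C.s a ≠ 0 := C.ne_zero ha
    field_simp
    linear_combination (a : F) * C.s a * h.cond⟩

end Hp

/-- A unipotent element. -/
def uMat (h : Hp C) : Matrix (Fin 3) (Fin 3) F := !![1, h.x, h.y; 0, 1, -C.s h.x; 0, 0, 1]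

/-- A torus element. -/
def tMat (a : Fˣ) : Matrix (Fin 3) (Fin 3) F := !![(a : F), 0, 0; 0, C.s a / a, 0; 0, 0, (C.s a)⁻¹]

/-- The Weyl element. -/
def wMat : Matrix (Fin 3) (Fin 3) F := !![0, 0, 1; 0, -1, 0; 1, 0, 0]

theorem uMat_det (h : Hp C) : (uMat C h).det = 1 := by simp [uMat, Matrix.det_fin_three]

theorem tMat_det (a : Fˣ) : (tMat C a).det = 1 := by
  have ha : (a : F) ≠ 0 := a.ne_zero
  have hs : C.s a ≠ 0 := C.ne_zero ha
  simp [tMat, Matrix.det_fin_three]
  field_simp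

theorem wMat_det : (wMat : Matrix (Fin 3) (Fin 3) F).det = 1 := by simp [wMat, Matrix.det_fin_three]

theorem uMat_mem (h : Hp C) : (⟨uMat C h, uMat_det C h⟩ : SpecialLinearGroup (Fin 3) F) ∈ SJ C := by
  refine mem_SJ C fun i j => ?_
  fin_cases i <;> fin_cases j <;> simp [bf, uMat, J3, C.invol]
  linear_combination h.cond

theorem tMat_mem (a : Fˣ) : (⟨tMat C a, tMat_det C a⟩ : SpecialLinearGroup (Fin 3) F) ∈ SJ C := by
  refine mem_SJ C fun i j => ?_
  have ha : (a : F) ≠ 0 := a.ne_zero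
  have hs : C.s a ≠ 0 := C.ne_zero ha
  fin_cases i <;> fin_cases j <;> simp [bf, tMat, J3, C.invol]

theorem wMat_mem : (⟨wMat, wMat_det⟩ : SpecialLinearGroup (Fin 3) F) ∈ SJ C := by
  refine mem_SJ C fun i j => ?_
  fin_cases i <;> fin_cases j <;> simp [bf, wMat, J3]

/-- The unipotent radical. -/
def uM : Hp C →* SJ C :=
  MonoidHom.mk' (fun h => ⟨_, uMat_mem C h⟩) fun a b => mt_ext (by
    show uMat C (a * b) = uMat C a * uMat C b
    ext i j
    fin_cases i <;> fin_cases j <;> simp [uMat, Matrix.mul_apply, Fin.sum_univ_three, Hp.mul_x, Hp.mul_y] <;> ring)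

/-- The torus. -/
def tM : Fˣ →* SJ C :=
  MonoidHom.mk' (fun a => ⟨_, tMat_mem C a⟩) fun a b => mt_ext (by
    show tMat C (a * b) = tMat C a * tMat C b
    ext i j
    fin_cases i <;> fin_cases j <;> simp [tMat, Matrix.mul_apply, Fin.sum_univ_three] <;> field_simp)

/-- The Weyl element in the group. -/
def wM : SJ C := ⟨_, wMat_mem C⟩

theorem mt_uM (h : Hp C) : mt (uM C h) = uMat C h := rfl

theorem mt_tM (a : Fˣ) : mt (tM C a) = tMat C a := rfl

theorem mt_wM : mt (wM C) = wMat := rfl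

theorem wM_sq : wM C * wM C = 1 := mt_ext (by
  rw [mt_mul, mt_wM, mt_one]
  ext i j
  fin_cases i <;> fin_cases j <;> simp [wMat, Matrix.mul_apply, Fin.sum_univ_three])

theorem wM_tM (a : Fˣ) : wM C * tM C a * wM C = tM C (C.su a)⁻¹ := mt_ext (by
  rw [mt_mul, mt_mul, mt_wM, mt_tM, mt_tM]
  ext i j
  fin_cases i <;> fin_cases j <;>
    simp [wMat, tMat, Matrix.mul_apply, Fin.sum_univ_three, C.coe_su, C.invol, map_inv₀, div_eq_mul_inv, mul_comm])

theorem tM_uM (a : Fˣ) (h : Hp C) : tM C a * uM C h * (tM C a)⁻¹ = uM C (Hp.sc a h) := by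
  rw [mul_inv_eq_iff_eq_mul]
  refine mt_ext ?_
  rw [mt_mul, mt_mul, mt_tM, mt_uM, mt_uM]
  have ha : (a : F) ≠ 0 := a.ne_zero
  have hs : C.s a ≠ 0 := C.ne_zero ha
  ext i j
  fin_cases i <;> fin_cases j <;>
    simp [tMat, uMat, Hp.sc, Matrix.mul_apply, Fin.sum_univ_three, C.invol] <;> field_simp

/-- The left part of the Bruhat form. -/
def Lp (u : Hp C) : Hp C :=
  ⟨-u.x / C.s u.y, u.y⁻¹, by
    by_cases h : u.y = 0
    · rw [Hp.eq_one_of_y h]; simp [Hp.one_x, Hp.one_y]
    have := C.ne_zero h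
    simp only [map_inv₀, map_div₀, map_neg, C.invol]
    field_simp
    linear_combination u.cond⟩

/-- The right part of the Bruhat form. -/
def Rp (u : Hp C) : Hp C :=
  ⟨-u.x / u.y, u.y⁻¹, by
    by_cases h : u.y = 0
    · rw [Hp.eq_one_of_y h]; simp [Hp.one_x, Hp.one_y]
    have := C.ne_zero h
    simp only [map_inv₀, map_div₀, map_neg]
    field_simp
    linear_combination u.cond⟩

/-- The torus part of the Bruhat form. -/
noncomputable def tp (u : Hp C) : Fˣ :=
  @dite _ (u.y = 0) (_root_.Classical.dec _) (fun _ => 1) fun h => (Units.mk0 (C.s u.y) (C.ne_zero h))⁻¹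

theorem coe_tp {u : Hp C} (h : u.y ≠ 0) : (tp C u : F) = (C.s u.y)⁻¹ := by
  rw [tp, dif_neg h, Units.val_inv_eq_inv_val, Units.val_mk0]

theorem wM_uM {u : Hp C} (h : u.y ≠ 0) :
    wM C * uM C u * wM C = uM C (Lp C u) * tM C (tp C u) * wM C * uM C (Rp C u) := by
  refine mt_ext ?_
  rw [mt_mul, mt_mul, mt_mul, mt_mul, mt_mul, mt_uM, mt_uM, mt_uM, mt_tM, mt_wM]
  have hs := C.ne_zero h
  have hc := u.cond
  ext i j
  fin_cases i <;> fin_cases j <;>
    simp [wMat, uMat, tMat, Lp, Rp, coe_tp C h, Matrix.mul_apply, Fin.sum_univ_three, C.invol] <;>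
    (try field_simp) <;> (try linear_combination hc) <;> (try linear_combination -hc) <;> ring

theorem cell_inj {a a' b b' : Hp C} {s s' : Fˣ}
    (e : uM C a * tM C s * wM C * uM C b = uM C a' * tM C s' * wM C * uM C b') : a = a' ∧ s = s' ∧ b = b' := by
  have hm := congrArg mt e
  rw [mt_mul, mt_mul, mt_mul, mt_mul, mt_mul, mt_mul, mt_uM, mt_uM, mt_uM, mt_uM, mt_tM, mt_tM, mt_wM] at hm
  have e20 := congrFun (congrFun hm 2) 0
  have e21 := congrFun (congrFun hm 2) 1
  have e22 := congrFun (congrFun hm 2) 2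
  have e00 := congrFun (congrFun hm 0) 0
  have e10 := congrFun (congrFun hm 1) 0
  simp [wMat, uMat, tMat, Matrix.mul_apply, Fin.sum_univ_three] at e20 e21 e22 e00 e10
  have hs : s = s' := Units.ext (C.s.injective e20)
  subst hs
  have h0 : C.s s ≠ 0 := C.ne_zero s.ne_zero
  simp [h0] at e21 e22 e00 e10
  exact ⟨Hp.ext' (C.s.injective e10) e00, rfl, Hp.ext' e21 e22⟩

theorem cell_ne_one (a b : Hp C) (s : Fˣ) : uM C a * tM C s * wM C * uM C b ≠ 1 := by
  intro e
  have hm := congrArg mt e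
  rw [mt_mul, mt_mul, mt_mul, mt_uM, mt_uM, mt_tM, mt_wM, mt_one] at hm
  have e20 := congrFun (congrFun hm 2) 0
  simp [wMat, uMat, tMat, Matrix.mul_apply, Fin.sum_univ_three] at e20

theorem borel_eq_one {a : Hp C} {s : Fˣ} (e : uM C a * tM C s = 1) : a = 1 ∧ s = 1 := by
  have hm := congrArg mt e
  rw [mt_mul, mt_uM, mt_tM, mt_one] at hm
  have e00 := congrFun (congrFun hm 0) 0
  have e01 := congrFun (congrFun hm 0) 1
  have e02 := congrFun (congrFun hm 0) 2
  simp [uMat, tMat, Matrix.mul_apply, Fin.sum_univ_three] at e00 e01 e02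
  obtain rfl : s = 1 := e00
  exact ⟨Hp.ext' e01 e02, rfl⟩

theorem borel_of_col (g : SJ C) (h1 : mt g 1 0 = 0) (h2 : mt g 2 0 = 0) :
    ∃ a : Hp C, ∃ s : Fˣ, g = uM C a * tM C s := by
  set A := mt g with hA
  have hdet : A.det = 1 := (g : SpecialLinearGroup (Fin 3) F).2
  have f20 := col_form g 2 0
  have f10 := col_form g 1 0
  have f22 := col_form g 2 2
  have f21 := col_form g 2 1
  simp [bf, J3, ← hA, h1, h2] at f20 f10 f22 f21
  have h00 : A 0 0 ≠ 0 := fun h => by rw [h, map_zero, mul_zero] at f20; exact zero_ne_one f20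
  have h21 : A 2 1 = 0 := f10.resolve_right h00
  rw [Matrix.det_fin_three, h1, h2, h21] at hdet
  have hd : A 0 0 * A 1 1 * A 2 2 = 1 := by linear_combination hdet
  have hs : C.s (A 0 0) ≠ 0 := C.ne_zero h00
  have h22 : A 2 2 = (C.s (A 0 0))⁻¹ := eq_inv_of_mul_eq_one_left f20
  have h11 : A 1 1 = C.s (A 0 0) / A 0 0 := by
    rw [h22] at hd
    field_simp at hd ⊢
    linear_combination hd
  have h12 : A 1 2 = -C.s (A 0 1) / A 0 0 := by
    rw [h21, h11, h22, map_zero, mul_zero, zero_add, map_div₀, C.invol] at f21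
    field_simp at f21 ⊢
    linear_combination f21
  refine ⟨⟨A 0 1 * A 0 0 / C.s (A 0 0), A 0 2 * C.s (A 0 0), ?_⟩, Units.mk0 _ h00, mt_ext ?_⟩
  · rw [h22, h12, map_div₀, map_neg, map_inv₀, C.invol, C.invol] at f22
    simp only [map_div₀, map_mul, C.invol]
    field_simp
    field_simp at f22
    linear_combination f22
  · rw [mt_mul, mt_uM, mt_tM, ← hA]
    ext i j
    fin_cases i <;> fin_cases j <;>
      simp [uMat, tMat, Matrix.mul_apply, Fin.sum_univ_three, h1, h2, h21, h11, h22, h12, map_div₀, C.invol] <;>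
      field_simp

theorem cases_cell (g : SJ C) :
    (∃ a : Hp C, ∃ s : Fˣ, g = uM C a * tM C s) ∨
      ∃ a b : Hp C, ∃ s : Fˣ, g = uM C a * tM C s * wM C * uM C b := by
  have hc := col_form g 0 0
  simp [bf, J3] at hc
  by_cases h2 : mt g 2 0 = 0
  · refine Or.inl (borel_of_col C g ?_ h2)
    rw [h2, map_zero, mul_zero, zero_add, zero_mul, add_zero, mul_eq_zero, map_eq_zero, or_self] at hc
    exact hc
  right
  have hs := C.ne_zero h2
  let a : Hp C := ⟨-C.s (mt g 1 0) / C.s (mt g 2 0), mt g 0 0 / mt g 2 0, by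
    simp only [map_div₀, map_neg, C.invol]
    field_simp
    linear_combination hc⟩
  let s : Fˣ := (Units.mk0 _ hs)⁻¹
  set k := uM C a * tM C s * wM C with hk
  have e0 : ∀ i, mt k i 0 = mt g i 0 := fun i => by
    rw [hk, mt_mul, mt_mul, mt_uM, mt_tM, mt_wM]
    fin_cases i <;> simp [wMat, uMat, tMat, a, s, Matrix.mul_apply, Fin.sum_univ_three, C.invol, map_div₀] <;>
      field_simp
  have e1 : ∀ i, mt (k⁻¹ * g) i 0 = (1 : Matrix (Fin 3) (Fin 3) F) i 0 := fun i => by
    have h1 : mt (k⁻¹ * k) = 1 := by rw [inv_mul_cancel, mt_one]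
    rw [mt_mul] at h1 ⊢
    rw [← h1, Matrix.mul_apply, Matrix.mul_apply]
    simp only [e0]
  obtain ⟨b, r, hbr⟩ := borel_of_col C (k⁻¹ * g) (by simp [e1]) (by simp [e1])
  refine ⟨a, Hp.sc r⁻¹ b, s * (C.su r)⁻¹, ?_⟩
  have hg : g = k * (uM C b * tM C r) := by rw [← hbr, mul_inv_cancel_left]
  have e2 : uM C b * tM C r = tM C r * uM C (Hp.sc r⁻¹ b) := by
    rw [← tM_uM, map_inv, inv_inv]; group
  have e3 : wM C * tM C r = tM C (C.su r)⁻¹ * wM C := by
    rw [← wM_tM, mul_assoc _ (wM C) (wM C), wM_sq, mul_one]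
  rw [hg, hk, e2, map_mul]
  calc uM C a * tM C s * wM C * (tM C r * uM C (Hp.sc r⁻¹ b))
      = uM C a * tM C s * (wM C * tM C r) * uM C (Hp.sc r⁻¹ b) := by group
    _ = _ := by rw [e3]; group

end Cfsg.Lib.SUPres
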