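import Cfsg.Agent.CosetTable.Basic
import Cfsg.Agent.Known.AltPres.Transfer

/-! # The alternating group of degree five on two generators with three relations -/

set_option autoImplicit false
set_option maxRecDepth 100000
set_option linter.style.haveILetI false

namespace Cfsg.Lib.SUPres.Five

open Equiv
open Cfsg.Lib.CosetTable

/-- The table. -/
def cert : Cert where
  ng := 3
  iv := [0, 2, 1]
  n := 12
  m := 18
  depth := 0
  ent := .leaf 0xc00000a00000a00000900001100000a00000900000900000c00000b00001100000b00000a00000b00000900000a00000800000800001000000700000700000600000800000900000f00000600001000000800000600000500000700000800000f00000700000500000400000b00000400000400000300000600000700000300000300000b00000500000500000600000400000500000300000400000200000200000100000000000e00000100000200000300000e00000200000d00000000000000000000000d000001000001000002000000000001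
  par := .leaf 0x200000910000090000008200000600000050000004200000310000030000002100000000000000000000
  stp := .leaf 0x502005000000a00000601002100000700000102006100000600000001002100000200000003002100000100000901002100000a000003010021000004000000000002000009000000000001000009000000000000000008000000000002000006000000000000000005000000000000000004000000000002000003000000000001000003000000000000000002000000000001000000000000000000000000
  rels := [[0, 0], [1, 1, 1], [0, 1, 0, 1, 0, 1, 0, 1, 0, 1]]
  subs := [[0, 1]]

theorem valid : cert.Valid := ⟨by decide, by decide +kernel, by decide +kernel, by decide +kernel⟩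

theorem rows : cert.rowsOK 0 cert.n = true := by decide +kernel

/-- The alternating group of degree five on two generators with three relations. -/
theorem small_alt_five : AltPres.Pres2 (alternatingGroup (Fin 5)) 3 := by
  let x0 : alternatingGroup (Fin 5) := ⟨swap 0 1 * swap 2 3, Perm.mem_alternatingGroup.2 (by decide)⟩
  let x1 : alternatingGroup (Fin 5) := ⟨swap 1 2 * swap 2 4, Perm.mem_alternatingGroup.2 (by decide)⟩
  refine AltPres.pres2_of_bound [FreeGroup.of 0 * FreeGroup.of 0, FreeGroup.of 1 * FreeGroup.of 1 * FreeGroup.of 1,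
    (FreeGroup.of 0 * FreeGroup.of 1) ^ 5] (by simp) ![x0, x1]
    (by simp [x0, x1]; decide) ?_ fun G _ f hf hcl => ?_
  · intro t
    have key : ∀ t : alternatingGroup (Fin 5), ∃ i : Fin 2, ∃ j : Fin 3, ∃ k : Fin 2, ∃ l : Fin 3, ∃ m : Fin 5, ∃ o : Fin 2, ∃ r : Fin 3,
        ∃ u : Fin 2, ∃ v : Fin 3, x0 ^ u.val * x1 ^ v.val * x0 ^ i.val * x1 ^ j.val * x0 ^ k.val * x1 ^ l.val * x0 ^ o.val * x1 ^ r.val * (x0 * x1) ^ m.val = t := by decide +kernel
    obtain ⟨i, j, k, l, m, o, r, u, v, rfl⟩ := key t
    have h0 : x0 ∈ Subgroup.closure (Set.range ![x0, x1]) := Subgroup.subset_closure ⟨0, rfl⟩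
    have h1 : x1 ∈ Subgroup.closure (Set.range ![x0, x1]) := Subgroup.subset_closure ⟨1, rfl⟩
    exact mul_mem (mul_mem (mul_mem (mul_mem (mul_mem (mul_mem (mul_mem (mul_mem (pow_mem h0 _) (pow_mem h1 _))
      (pow_mem h0 _)) (pow_mem h1 _)) (pow_mem h0 _))
      (pow_mem h1 _)) (pow_mem h0 _)) (pow_mem h1 _)) (pow_mem (mul_mem h0 h1) _)
  have h0 := hf (FreeGroup.of 0 * FreeGroup.of 0) (by simp)
  have h1 := hf (FreeGroup.of 1 * FreeGroup.of 1 * FreeGroup.of 1) (by simp)
  have h01 := hf ((FreeGroup.of 0 * FreeGroup.of 1) ^ 5) (by simp)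
  simp only [map_mul, map_pow, FreeGroup.lift_apply_of] at h0 h1 h01
  let im : ℕ → G := fun l => if l = 0 then f 0 else if l = 1 then f 1 else (f 1)⁻¹
  let K : Subgroup G := Subgroup.zpowers (f 0 * f 1)
  have hfo : IsOfFinOrder (f 0 * f 1) := isOfFinOrder_iff_pow_eq_one.2 ⟨5, by norm_num, h01⟩
  haveI : Finite K := hfo.finite_zpowers.to_subtype
  have hK : Nat.card K ≤ 5 := by
    rw [Nat.card_zpowers]
    exact Nat.le_of_dvd (by norm_num) (orderOf_dvd_of_pow_eq_one h01)
  have hS : cert.Sound im K := by
    refine ⟨fun l hl => ?_, by decide, ?_, ?_⟩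
    · rcases l with _ | _ | _ | l
      · exact (inv_eq_of_mul_eq_one_right h0).symm
      · rfl
      · exact (inv_inv _).symm
      · change l + 3 < 3 at hl; omega
    · intro r hr
      simp only [cert, List.mem_cons, List.not_mem_nil, or_false] at hr
      rcases hr with rfl | rfl | rfl
      · simpa [wval, im] using h0
      · simpa [wval, im, mul_assoc] using h1
      · simpa [wval, im, pow_succ, mul_assoc] using h01
    · intro r hr
      simp only [cert, List.mem_cons, List.not_mem_nil, or_false] at hr
      subst hr
      simp [wval, im, K]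
  obtain ⟨hfin, hc⟩ := card_le cert im K valid hS rows (L := ⊤) (by
    rw [← hcl]
    refine Subgroup.closure_mono ?_
    rintro x (rfl | rfl)
    · exact ⟨0, show 0 < 3 by norm_num, rfl⟩
    · exact ⟨1, show 1 < 3 by norm_num, rfl⟩)
  rw [Subgroup.card_top] at hc
  refine ⟨Finite.of_equiv _ Subgroup.topEquiv.toEquiv, hc.trans ?_⟩
  rw [Nat.card_eq_fintype_card (α := alternatingGroup (Fin 5)),
    show Fintype.card (alternatingGroup (Fin 5)) = 60 by decide +kernel]
  exact (Nat.mul_le_mul_left 12 hK)

end Cfsg.Lib.SUPres.Five
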