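import Cfsg.Agent.Pres.SU.Rels

/-! # Presentations over fields with at least sixteen elements -/

set_option autoImplicit false
set_option linter.unusedSectionVars false
set_option linter.unusedSimpArgs false
set_option linter.style.haveILetI false

namespace Cfsg.Lib.SUPres

open Cfsg.Lib.Known.Phan
open Cfsg.Lib.SLnPres (PresN)

universe u

variable {F : Type u} [Field F] [Fintype F] {q : ℕ}

theorem presN_alt (N : ℕ) (hN : 4 ≤ N) : PresN (alternatingGroup (Fin N)) 3 (if N = 4 then 4 else 7) := by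
  by_cases h : N = 4
  · subst h
    rw [if_pos rfl]
    obtain ⟨R, hR, ⟨e⟩⟩ := AltPres.small_alt_four
    exact (PresN.pad (T := alternatingGroup (Fin 4)) ⟨R, hR, ⟨e⟩⟩ (show 2 ≤ 3 by norm_num)).mono le_rfl
  · rw [if_neg h]
    obtain ⟨R, e, hR, -⟩ := AltPres.pres3_alt_fin N (by omega)
    exact ⟨R, hR, ⟨e⟩⟩

/-- The general presentation. -/
theorem su_big (hF : Fintype.card F = q ^ 2) (hq : 4 ≤ q) (N : ℕ) (hN : 4 ≤ N) :
    PresN (Cfsg.SU N F q) 6 (if N = 4 then 30 else if N = 5 then 35 else 37) := by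
  haveI : Fact (Fintype.card F = q ^ 2) := ⟨hF⟩
  obtain ⟨L, hL, hsound, hout⟩ := exists_glue (F := F) (q := q) hN
  refine PresN.mono (presN_of_words (presN_alt N hN) (su_three hF (by omega)) (permSU (F := F) (q := q))
    (blk (w3' hN)) L hsound fun G _ ι f Φ hι hf hgen hr => ?_) ?_
  · obtain ⟨D, -, -, rfl⟩ := hout G ι f Φ hι hf hgen hr
    exact D.bijective (by omega) (Or.inl hq)
  · split_ifs at hL ⊢ <;> omega

theorem psu_of_su (hF : Fintype.card F = q ^ 2) {n r : ℕ} (hn : 2 ≤ n) {a : ℕ}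
    (h : PresN (Cfsg.SU n F q) a r) : PresN (Cfsg.PSU n F q) a (r + 1) := by
  obtain ⟨z, hz⟩ := center_SU_cyclic hF hn
  exact h.quotient _ z hz

end Cfsg.Lib.SUPres
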