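import Cfsg.Agent.Pres.SU.Comm

/-! # The unipotent radical from the relations -/

set_option autoImplicit false
set_option linter.unusedSectionVars false
set_option linter.unusedSimpArgs false
set_option linter.style.haveILetI false

namespace Cfsg.Lib.SUPres

open Polynomial
open Cfsg.Lib.SL2Pres (cj wd allClosure)
open Cfsg.Lib.Classical (fixedField)
open Cfsg.Lib.SpPres (RootHom)

variable {F : Type*} [Field F] {C : Conj F}

namespace Par

variable (P : Par C)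

theorem zM_conj (c : fixedField C.s) : tM C P.ω * uM C (P.zM c) * (tM C P.ω)⁻¹ = uM C (P.zM (P.σK * c)) := by
  rw [tM_uM]
  congr 1
  refine Hp.ext' ?_ ?_
  · show _ * (0 : F) = 0
    rw [mul_zero]
  · show _ = ((P.σK * c : fixedField C.s) : F) * P.δ.y
    push_cast
    simp only [Hp.sc, zM, σK]
    ring

theorem span : P.Span := fun x => by
  have hK : ∀ c : fixedField C.s, ∃ f : ℤ[X], aeval P.ρ f = (c : F) := fun c => by
    by_cases hc : c = 0
    · exact ⟨0, by simp [hc]⟩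
    obtain ⟨k, rfl⟩ := P.gen_K hc
    refine ⟨X ^ ((P.q + 1) * k), ?_⟩
    rw [aeval_X_pow, pow_mul, P.ρ_pow]; norm_cast
  have hne : P.ρ - C.s P.ρ ≠ 0 := P.δ_ne
  set B := (x - C.s x) / (P.ρ - C.s P.ρ) with hB
  have hB' : C.s B = B := by
    rw [hB, map_div₀, map_sub, map_sub, C.invol, C.invol, ← neg_sub x, ← neg_sub P.ρ, neg_div_neg_eq]
  have hBmul : B * (P.ρ - C.s P.ρ) = x - C.s x := div_mul_cancel₀ _ hne
  have hA : C.s (x - B * P.ρ) = x - B * P.ρ := by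
    rw [map_sub, map_mul, hB']; linear_combination hBmul
  obtain ⟨f, hf⟩ := hK ⟨B, hB'⟩
  obtain ⟨g, hg⟩ := hK ⟨_, hA⟩
  exact ⟨g + f * X, by rw [map_add, map_mul, hf, hg, aeval_X]; ring⟩

/-- The relations sought for the centrality of the commutator. -/
def ZRels (n : ℕ) : Prop :=
  ∃ L : List (FreeGroup (Fin 3)), L.length ≤ n ∧ (∀ r ∈ L, P.ev r = 1) ∧
    ∀ (G : Type) [Group G] (g : Fin 3 → G), g 1 ^ (P.q ^ 2 - 1) = 1 → RootHom P.σK (g 1) (zel (g 1) (g 0)) →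
      (∀ r ∈ L, FreeGroup.lift g r = 1) → ZC (g 1) (g 0)

/-- The relations for the radical. -/
theorem exists_borel [Finite F] {n : ℕ} (hz : P.ZRels n) :
    ∃ L : List (FreeGroup (Fin 3)), L.length ≤ n + 10 ∧ (∀ r ∈ L, P.ev r = 1) ∧
      ∀ (G : Type) [Group G] (g : Fin 3 → G) (Φ : G →* SJ C), (∀ i, Φ (g i) = P.gv i) →
        g 1 ^ (P.q ^ 2 - 1) = 1 → (∀ r ∈ L, FreeGroup.lift g r = 1) →
        ∃ ψ : Hp C →* G, (∀ h, Φ (ψ h) = uM C h) ∧ ψ P.u₀ = g 0 ∧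
          (∀ h, g 1 * ψ h * (g 1)⁻¹ = ψ (Hp.sc P.ω h)) ∧
          ∀ (W : FreeGroup (Fin 3)) (h : Hp C), P.ev W = uM C h → FreeGroup.lift g W ∈ allClosure (g 1) (g 0) →
            FreeGroup.lift g W = ψ h := by
  haveI : Fintype F := Fintype.ofFinite F
  obtain ⟨p, hp⟩ := CharP.exists F
  haveI := hp
  haveI : Fact p.Prime := ⟨CharP.char_is_prime F p⟩
  haveI : Fintype (fixedField C.s) := Fintype.ofFinite _
  obtain ⟨Lm, hLm, sm, om⟩ := P.exists_zmodule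
  obtain ⟨Lz, hLz, sz, oz⟩ := hz
  obtain ⟨Lc, hLc, sc, oc⟩ := P.exists_mc
  obtain ⟨Pol, hPol0, hPol⟩ := SL2Pres.exists_int_poly p P.ρ
  obtain ⟨rp, erp, orp⟩ := P.exists_rel (L := wu ^ p) (R := 1) (x := 0)
    ⟨P.u₀ ^ p, by rw [map_pow, P.ev_u, map_pow], by
      rw [← zpow_natCast, zpow_x, Int.cast_natCast, CharP.cast_eq_zero, zero_mul]⟩
    ⟨1, by simp, Hp.one_x⟩
  obtain ⟨rP, erP, orP⟩ := P.exists_rel (L := wd wt wu Pol) (R := 1) (x := 0)
    (by
      obtain ⟨h', e, ex⟩ := P.exists_wd_value P.u₀ Pol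
      exact ⟨h', by rw [SL2Pres.wd_map, P.ev_t, P.ev_u, e], by rw [ex, hPol0, zero_mul]⟩)
    ⟨1, by simp, Hp.one_x⟩
  refine ⟨Lm ++ Lz ++ Lc ++ [rp, rP], by simp; omega, ?_, fun G _ g Φ hΦ hN hr => ?_⟩
  · simp only [List.forall_mem_append, List.forall_mem_cons, List.not_mem_nil, false_imp_iff, implies_true, and_true]
    exact ⟨⟨⟨sm, sz⟩, sc⟩, erp, erP⟩
  simp only [List.forall_mem_append, List.forall_mem_cons, List.not_mem_nil, false_imp_iff, implies_true, and_true] at hr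
  obtain ⟨⟨⟨rm, rz⟩, rc⟩, hrp, hrP⟩ := hr
  have hev : ∀ W, Φ (FreeGroup.lift g W) = P.ev W := DFunLike.congr_fun
    (show Φ.comp (FreeGroup.lift g) = P.ev by ext i; simp [ev, hΦ])
  have hz' := om G g rm
  have hzc := oz G g hN hz' rz
  have hmc := oc G g hN hzc rc
  have hup := orp G g hrp
  have hPu := orP G g hrP
  simp only [map_one, inv_one, one_mul, map_pow, SL2Pres.wd_map, FreeGroup.lift_apply_of] at hup hPu
  have hg0 : Φ (g 0) = uM C P.u₀ := hΦ 0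
  have hg1 : Φ (g 1) = tM C P.ω := hΦ 1
  set t := g 1
  set u := g 0
  haveI := hzc.normal
  set π := QuotientGroup.mk' ((Zg t u).subgroupOf (Kg t u))
  set T := π ⟨t, t_mem t u⟩ with hT
  set U := π ⟨u, u_mem t u⟩ with hU
  have hmem : ∀ i, cj t u i ∈ Kg t u := fun i => allClosure_le t u (cj_mem t u i)
  have hcj : ∀ i, cj T U i = π ⟨cj t u i, hmem i⟩ := fun i => by
    rw [hT, hU, ← SL2Pres.cj_map]
    congr 1
  have hcomm : ∀ i j, Commute (cj T U i) (cj T U j) := fun i j => by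
    show _ = _
    rw [hcj, hcj, ← map_mul, ← map_mul]
    exact quot_eq (hmc i j)
  have hUp : U ^ p = 1 := by
    rw [hU, ← map_pow, ← map_one π]
    exact quot_eq (by simpa using hup)
  have hTUP : wd T U Pol = 1 := by
    rw [hT, hU, ← SL2Pres.wd_map, ← map_one π]
    refine quot_eq ?_
    have e := SL2Pres.wd_map (Kg t u).subtype ⟨t, t_mem t u⟩ ⟨u, u_mem t u⟩ Pol
    simp only [Subgroup.coe_subtype] at e
    simpa [e] using hPu
  obtain ⟨φ, hadd, hone, hconj, -⟩ := SL2Pres.exists_root_hom p P.ρ P.span Pol hPol hcomm hUp hTUP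
  obtain ⟨φz, hzadd, hzone, -, hZ, hzwd⟩ := P.exists_Zg_eq hz' hN
  have key : ∀ y ∈ allClosure t u, ∃ h : Hp C, ∃ hy : y ∈ Kg t u, Φ y = uM C h ∧ π ⟨y, hy⟩ = φ h.x := by
    intro y hy
    induction hy using Subgroup.closure_induction with
    | mem y hy =>
      obtain ⟨i, rfl⟩ := hy
      obtain ⟨m, hm⟩ := exists_nat_cj P.order_pos hN u i
      refine ⟨Hp.sc (P.ω ^ (m : ℤ)) P.u₀, hmem i, ?_, ?_⟩
      · rw [hm, SL2Pres.cj_map, hg1, hg0, P.cj_uM]
      · have e : (⟨cj t u i, hmem i⟩ : Kg t u) = ⟨cj t u m, hmem m⟩ := Subtype.ext hm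
        rw [e, ← hcj, P.cj_x, P.hu₀, mul_one, ← hone, SpPres.cj_root hconj]
    | one => exact ⟨1, one_mem _, by simp, by rw [Hp.one_x, SL2Pres.root_zero hadd]; exact map_one π⟩
    | mul a b _ _ ha hb =>
      obtain ⟨h, hA, e1, x1⟩ := ha
      obtain ⟨k, hB, e2, x2⟩ := hb
      exact ⟨h * k, mul_mem hA hB, by rw [map_mul, e1, e2, map_mul], by
        rw [Hp.mul_x, hadd, ← x1, ← x2, ← map_mul]; rfl⟩
    | inv a _ ha =>
      obtain ⟨h, hA, e1, x1⟩ := ha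
      exact ⟨h⁻¹, inv_mem hA, by rw [map_inv, e1, map_inv], by
        rw [Hp.inv_x, SL2Pres.root_neg hadd, ← x1, ← map_inv]; rfl⟩
  have hinj : ∀ y ∈ allClosure t u, Φ y = 1 → y = 1 := by
    intro y hy hy1
    obtain ⟨h, hk, e1, x1⟩ := key y hy
    rw [hy1, ← map_one (uM C)] at e1
    obtain rfl := uM_injective C e1
    rw [Hp.one_x, SL2Pres.root_zero hadd] at x1
    have hyz : y ∈ Zg t u := Subgroup.mem_subgroupOf.1 ((QuotientGroup.eq_one_iff _).1 x1)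
    obtain ⟨c, rfl⟩ := hZ y hyz
    obtain ⟨f, hf⟩ := SL3Pres.gen_surjective (fun c hc => P.gen_K hc) c
    have e : Φ (φz c) = uM C (P.zM c) := by
      rw [← hf, hzwd, SL2Pres.wd_map, hg1, zel_map, hg1, hg0, ← P.ev_t, ← P.ev_u, ← zel_map, P.ev_zel, P.ev_t,
        ← P.zM_one]
      exact SL2Pres.wd_root (ψ := fun c => uM C (P.zM c)) (fun x y => by rw [← map_mul, ← P.zM_add])
        P.zM_conj f
    rw [hy1, ← map_one (uM C)] at e
    have hc : (c : F) * P.δ.y = 0 := (congrArg Hp.y (uM_injective C e)).symm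
    have hc0 : c = 0 := Subtype.ext ((mul_eq_zero.1 hc).resolve_right P.δ_ne)
    rw [hc0, SL2Pres.root_zero hzadd]
  have huniq : ∀ y ∈ allClosure t u, ∀ y' ∈ allClosure t u, Φ y = Φ y' → y = y' := fun y hy y' hy' e =>
    eq_of_mul_inv_eq_one (hinj _ (mul_mem hy (inv_mem hy')) (by rw [map_mul, map_inv, e, mul_inv_cancel]))
  choose W hW hWm using fun h => P.exists_word P.span h
  have hWΦ : ∀ h, Φ (FreeGroup.lift g (W h)) = uM C h := fun h => (hev _).trans (hW h)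
  let ψ : Hp C →* G := MonoidHom.mk' (fun h => FreeGroup.lift g (W h)) fun a b =>
    huniq _ (hWm _ G g) _ (mul_mem (hWm _ G g) (hWm _ G g)) (by rw [map_mul, hWΦ, hWΦ, hWΦ, map_mul])
  have hu : u ∈ allClosure t u := Subgroup.subset_closure ⟨0, SL2Pres.cj_zero t u⟩
  refine ⟨ψ, hWΦ, huniq _ (hWm _ G g) _ hu ((hWΦ _).trans hg0.symm), fun h => ?_, fun V h e hV => ?_⟩
  · refine huniq _ (SL2Pres.allClosure_conj (hWm _ G g)) _ (hWm _ G g) ?_
    show Φ (t * FreeGroup.lift g (W h) * t⁻¹) = Φ (FreeGroup.lift g (W (Hp.sc P.ω h)))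
    rw [map_mul, map_mul, map_inv, hWΦ, hWΦ, hg1, tM_uM]
  · exact huniq _ hV _ (hWm _ G g) ((hev V).trans (e.trans (hWΦ h).symm))

end Par

end Cfsg.Lib.SUPres
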