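import Cfsg.Agent.Pres.SU.ZComm

/-! # The conjugates commute modulo the centre -/

set_option autoImplicit false
set_option linter.unusedSectionVars false
set_option linter.unusedSimpArgs false
set_option linter.style.haveILetI false

namespace Cfsg.Lib.SUPres

open Polynomial
open Cfsg.Lib.SL2Pres (cj wd allClosure multClosure)
open Cfsg.Lib.Classical (fixedField)
open Cfsg.Lib.SpPres (RootHom)

section Generic

variable {Q : Type*} [Group Q] {t u : Q}

theorem commute_cj_iff {i j : ℤ} : Commute (cj t u i) (cj t u j) ↔ Commute u (cj t u (j - i)) := by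
  constructor <;> intro h
  · have := SL2Pres.commute_cj_shift h (-i)
    rwa [neg_add_cancel, SL2Pres.cj_zero, ← sub_eq_neg_add] at this
  · have := SL2Pres.commute_cj_shift (show Commute (cj t u 0) (cj t u (j - i)) by rwa [SL2Pres.cj_zero]) i
    rwa [add_zero, add_sub_cancel] at this

theorem offset_steps {a b c : ℤ} (hl : cj t u b = u * cj t u a) (h0 : Commute u (cj t u c))
    (h1 : Commute u (cj t u (c + a))) : ∀ d : ℕ, Commute u (cj t u (c + a * d)) := by
  suffices h : ∀ d : ℕ, Commute u (cj t u (c + a * d)) ∧ Commute u (cj t u (c + a * (d + 1 : ℕ))) from fun d => (h d).1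
  intro d
  induction d with
  | zero => exact ⟨by simpa using h0, by simpa using h1⟩
  | succ d ih =>
    refine ⟨ih.2, ?_⟩
    set e : ℤ := c + a * (d + 1 : ℕ) with he
    have e2 : c + a * ((d + 1 + 1 : ℕ) : ℤ) = e + a := by rw [he]; push_cast; ring
    rw [e2]
    have hb : Commute (cj t u b) (cj t u (e + b)) := by
      rw [commute_cj_iff, add_sub_cancel_right]; exact ih.2
    have hexp : cj t u (e + b) = cj t u e * cj t u (e + a) := by
      rw [SL2Pres.cj_add, hl, SL2Pres.cj_add t u e a]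
      show _ = t ^ e * u * (t ^ e)⁻¹ * _
      group
    rw [hl, hexp] at hb
    have x1 : Commute (cj t u a) (cj t u e) := by
      rw [commute_cj_iff, he, show c + a * ((d + 1 : ℕ) : ℤ) - a = c + a * d by push_cast; ring]
      exact ih.1
    have y1 : Commute (cj t u a) (cj t u (e + a)) := by
      rw [commute_cj_iff, add_sub_cancel_right]; exact ih.2
    have x2 : Commute (u * cj t u a) (cj t u e) := ih.2.mul_left x1
    have y2 : Commute (u * cj t u a) (cj t u (e + a)) := by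
      have := x2.inv_right.mul_right hb
      rwa [inv_mul_cancel_left] at this
    have := y2.mul_left y1.inv_left
    rwa [mul_inv_cancel_right] at this

theorem all_commute {a m : ℕ} (ha0 : 0 < a) (hm : 0 < m) (hN : t ^ (a * m) = 1) (hs : ∀ d : ℕ, Commute u (cj t u (a * d : ℤ)))
    (ho : ∀ d : ℕ, Commute u (cj t u (1 + a * d)))
    (h2 : cj t u 2 ∈ Subgroup.closure (Set.range (fun i : ℤ => cj t u (a * i)) ∪ Set.range fun i : ℤ => cj t u (1 + a * i))) :
    ∀ i j : ℤ, Commute (cj t u i) (cj t u j) := by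
  have red : ∀ c d : ℤ, ∃ n : ℕ, cj t u (c + a * d) = cj t u (c + a * n) := fun c d => by
    refine ⟨(d % (m : ℤ)).toNat, cj_period hN u _ _ ?_⟩
    rw [Int.toNat_of_nonneg (Int.emod_nonneg _ (by omega)),
      show c + (a : ℤ) * d - (c + a * (d % (m : ℤ))) = a * (d - d % (m : ℤ)) by ring, Nat.cast_mul]
    exact mul_dvd_mul_left _ (Int.mod_modEq d m).dvd
  have hs' : ∀ d : ℤ, Commute u (cj t u (a * d)) := fun d => by
    obtain ⟨n, hn⟩ := red 0 d
    rw [zero_add, zero_add] at hn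
    rw [hn]; exact hs n
  have ho' : ∀ d : ℤ, Commute u (cj t u (1 + a * d)) := fun d => by
    obtain ⟨n, hn⟩ := red 1 d
    rw [hn]; exact ho n
  set S := Subgroup.closure (Set.range (fun i : ℤ => cj t u (a * i)) ∪ Set.range fun i : ℤ => cj t u (1 + a * i))
  haveI hS : IsMulCommutative S := Subgroup.isMulCommutative_closure fun x hx y hy => by
    rcases hx with ⟨i, rfl⟩ | ⟨i, rfl⟩ <;> rcases hy with ⟨j, rfl⟩ | ⟨j, rfl⟩ <;> dsimp only
    · exact (commute_cj_iff.2 (by rw [← mul_sub]; exact hs' _)).eq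
    · exact (commute_cj_iff.2 (by rw [show 1 + (a : ℤ) * j - a * i = 1 + a * (j - i) by ring]; exact ho' _)).eq
    · exact (commute_cj_iff.2 (by rw [show 1 + (a : ℤ) * i - a * j = 1 + a * (i - j) by ring]; exact ho' _)).symm.eq
    · exact (commute_cj_iff.2 (by rw [show 1 + (a : ℤ) * j - (1 + a * i) = a * (j - i) by ring]; exact hs' _)).eq
  have ha : ∀ (i : ℤ), ∀ y ∈ S, t ^ ((a : ℤ) * i) * y * (t ^ ((a : ℤ) * i))⁻¹ ∈ S := fun i y hy => by
    induction hy using Subgroup.closure_induction with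
    | mem y hy =>
      rcases hy with ⟨j, rfl⟩ | ⟨j, rfl⟩ <;> dsimp only <;> rw [← SL2Pres.cj_add]
      · exact Subgroup.subset_closure (Or.inl ⟨i + j, by dsimp only; rw [mul_add]⟩)
      · exact Subgroup.subset_closure (Or.inr ⟨i + j, by dsimp only; rw [mul_add]; ring_nf⟩)
    | one => simp
    | mul x y _ _ hx hy => simpa using mul_mem hx hy
    | inv x _ hx => simpa [mul_assoc] using inv_mem hx
  have h1 : ∀ y ∈ S, t * y * t⁻¹ ∈ S := fun y hy => by
    induction hy using Subgroup.closure_induction with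
    | mem y hy =>
      rcases hy with ⟨j, rfl⟩ | ⟨j, rfl⟩ <;> dsimp only
      · refine Subgroup.subset_closure (Or.inr ⟨j, ?_⟩)
        dsimp only
        rw [SL2Pres.cj_add, zpow_one]
      · have e := ha j _ h2
        rw [← SL2Pres.cj_add] at e
        rwa [show (a : ℤ) * j + 2 = 1 + (1 + a * j) by ring, SL2Pres.cj_add t u 1, zpow_one] at e
    | one => simp
    | mul x y _ _ hx hy => simpa using mul_mem hx hy
    | inv x _ hx => simpa [mul_assoc] using inv_mem hx
  have hall : ∀ n : ℕ, cj t u n ∈ S := by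
    intro n
    induction n with
    | zero => exact Subgroup.subset_closure (Or.inl ⟨0, by simp⟩)
    | succ n ih =>
      have := h1 _ ih
      rwa [show ((n + 1 : ℕ) : ℤ) = 1 + n by push_cast; ring, SL2Pres.cj_add, zpow_one]
  intro i j
  have hmem : ∀ i : ℤ, cj t u i ∈ S := fun i => by
    obtain ⟨n, hn⟩ := exists_nat_cj (Nat.mul_pos ha0 hm) hN u i
    rw [hn]; exact hall n
  exact congrArg Subtype.val (hS.is_comm.comm ⟨_, hmem i⟩ ⟨_, hmem j⟩)

end Generic

variable {F : Type*} [Field F] {C : Conj F}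

/-- The subgroup generated by two elements. -/
abbrev Kg {G : Type*} [Group G] (t u : G) : Subgroup G := Subgroup.closure {t, u}

theorem t_mem {G : Type*} [Group G] (t u : G) : t ∈ Kg t u := Subgroup.subset_closure (Or.inl rfl)

theorem u_mem {G : Type*} [Group G] (t u : G) : u ∈ Kg t u := Subgroup.subset_closure (Or.inr rfl)

theorem allClosure_le {G : Type*} [Group G] (t u : G) : allClosure t u ≤ Kg t u :=
  (Subgroup.closure_le _).2 fun _ ⟨i, hi⟩ =>
    hi ▸ mul_mem (mul_mem (zpow_mem (t_mem t u) i) (u_mem t u)) (inv_mem (zpow_mem (t_mem t u) i))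

theorem ZC.normal {G : Type*} [Group G] {t u : G} (h : ZC t u) : ((Zg t u).subgroupOf (Kg t u)).Normal := by
  have key : ∀ k ∈ Kg t u, ∀ z ∈ Zg t u, k * z * k⁻¹ ∈ Zg t u ∧ k⁻¹ * z * k ∈ Zg t u := by
    intro k hk
    induction hk using Subgroup.closure_induction with
    | mem k hk =>
      intro z hz
      rcases hk with rfl | rfl
      · exact ⟨by simpa [Zg, cj] using allClosure_mono (t := k) (u := zel k u) (v := z) hz 1,
          by simpa [Zg, cj] using allClosure_mono (t := k) (u := zel k u) (v := z) hz (-1)⟩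
      · have hu : k ∈ allClosure t k := Subgroup.subset_closure ⟨0, SL2Pres.cj_zero t k⟩
        have e := (h.commute hz hu).eq
        exact ⟨by rwa [← e, mul_inv_cancel_right], by rwa [mul_assoc, e, inv_mul_cancel_left]⟩
    | one => intro z hz; simpa using hz
    | mul a b _ _ ha hb =>
      intro z hz
      exact ⟨by simpa [mul_assoc] using (ha _ (hb z hz).1).1, by simpa [mul_assoc] using (hb _ (ha z hz).2).2⟩
    | inv a _ ha =>
      intro z hz
      exact ⟨by simpa using (ha z hz).2, by simpa using (ha z hz).1⟩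
  exact ⟨fun z hz k => (key _ k.2 _ hz).1⟩

theorem quot_eq {G : Type*} [Group G] {t u : G} [((Zg t u).subgroupOf (Kg t u)).Normal] {a b : Kg t u}
    (h : (b : G)⁻¹ * a ∈ Zg t u) :
    QuotientGroup.mk' ((Zg t u).subgroupOf (Kg t u)) a = QuotientGroup.mk' ((Zg t u).subgroupOf (Kg t u)) b := by
  symm
  exact QuotientGroup.eq.2 h

/-- Everything commutes modulo the centre. -/
def MC {G : Type*} [Group G] (t u : G) : Prop := ∀ i j : ℤ, (cj t u j * cj t u i)⁻¹ * (cj t u i * cj t u j) ∈ Zg t u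

namespace Par

variable (P : Par C)

theorem s_mul_ρ : P.ρ * C.s P.ρ = (P.σK : F) := by
  have hw := P.ω.ne_zero
  have hs := C.ne_zero hw
  simp only [ρ, σK, map_div₀, map_pow, C.invol]
  field_simp

theorem ρ_pow : P.ρ ^ (P.q + 1) = (P.σK : F) := by rw [pow_succ', ← P.s_eq, P.s_mul_ρ]

theorem cj_x {i : ℕ} {h : Hp C} : (Hp.sc (P.ω ^ (i : ℤ)) h).x = P.ρ ^ i * h.x := by
  rw [zpow_natCast, P.sc_x]

theorem ev_cju (i : ℕ) : ∃ h : Hp C, P.ev (cj wt wu i) = uM C h ∧ h.x = P.ρ ^ i :=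
  ⟨_, P.ev_cj P.ev_u i, by rw [P.cj_x, P.hu₀, mul_one]⟩

/-- A product of two words. -/
theorem ev_mul_x {A B : FreeGroup (Fin 3)} {x y : F} (hA : ∃ h : Hp C, P.ev A = uM C h ∧ h.x = x)
    (hB : ∃ h : Hp C, P.ev B = uM C h ∧ h.x = y) : ∃ h : Hp C, P.ev (A * B) = uM C h ∧ h.x = x + y := by
  obtain ⟨a, ea, xa⟩ := hA
  obtain ⟨b, eb, xb⟩ := hB
  exact ⟨a * b, by rw [map_mul, ea, eb, ← map_mul], by rw [Hp.mul_x, xa, xb]⟩

theorem ev_inv_x {A : FreeGroup (Fin 3)} {x : F} (hA : ∃ h : Hp C, P.ev A = uM C h ∧ h.x = x) :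
    ∃ h : Hp C, P.ev A⁻¹ = uM C h ∧ h.x = -x := by
  obtain ⟨a, ea, xa⟩ := hA
  exact ⟨a⁻¹, by rw [map_inv, ea, ← map_inv], by rw [Hp.inv_x, xa]⟩

/-- One relation for two words with the same first coordinate. -/
theorem exists_rel {L R : FreeGroup (Fin 3)} {x : F} (hL : ∃ h : Hp C, P.ev L = uM C h ∧ h.x = x)
    (hR : ∃ h : Hp C, P.ev R = uM C h ∧ h.x = x) : ∃ r : FreeGroup (Fin 3), P.ev r = 1 ∧
      ∀ (G : Type) [Group G] (g : Fin 3 → G), FreeGroup.lift g r = 1 →
        (FreeGroup.lift g R)⁻¹ * FreeGroup.lift g L ∈ Zg (g 1) (g 0) := by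
  obtain ⟨a, ea, xa⟩ := hL
  obtain ⟨b, eb, xb⟩ := hR
  exact P.exists_fix ea eb (xa.trans xb.symm)

/-- At most four relations make the conjugates commute modulo the centre. -/
theorem exists_mc :
    ∃ L : List (FreeGroup (Fin 3)), L.length ≤ 4 ∧ (∀ r ∈ L, P.ev r = 1) ∧
      ∀ (G : Type) [Group G] (g : Fin 3 → G), g 1 ^ (P.q ^ 2 - 1) = 1 → ZC (g 1) (g 0) →
        (∀ r ∈ L, FreeGroup.lift g r = 1) → MC (g 1) (g 0) := by
  have h3 := P.three_le
  set a := P.q + 1 with ha
  have hu : ∃ h : Hp C, P.ev wu = uM C h ∧ h.x = 1 := ⟨_, P.ev_u, P.hu₀⟩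
  have hxa : P.ρ ^ a = (P.σK : F) := P.ρ_pow
  have hA := P.ev_cju a
  rw [hxa] at hA
  have hB := P.ev_cju (1 + a)
  have hsq := P.ev_cju 2
  obtain ⟨r1, e1, o1⟩ := P.exists_rel (P.ev_mul_x hu hA)
    (show ∃ h : Hp C, P.ev (cj wt wu a * wu) = uM C h ∧ h.x = 1 + (P.σK : F) by
      rw [add_comm]; exact P.ev_mul_x hA hu)
  obtain ⟨r4, e4, o4⟩ := P.exists_rel (P.ev_mul_x hu hB)
    (show ∃ h : Hp C, P.ev (cj wt wu (1 + a : ℕ) * wu) = uM C h ∧ h.x = 1 + P.ρ ^ (1 + a) by
      rw [add_comm (1 : F)]; exact P.ev_mul_x hB hu)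
  obtain ⟨Bl, hBl, hBl'⟩ : ∃ W : FreeGroup (Fin 3), (∃ h : Hp C, P.ev W = uM C h ∧ h.x = 1 + (P.σK : F)) ∧
      ∀ (G : Type) [Group G] (g : Fin 3 → G), FreeGroup.lift g W = 1 ∨
        ∃ b : ℤ, FreeGroup.lift g W = cj (g 1) (g 0) b := by
    by_cases h : 1 + P.σK = 0
    · refine ⟨1, ⟨1, by simp, ?_⟩, fun G _ g => Or.inl (map_one _)⟩
      have := congrArg Subtype.val h
      push_cast at this
      exact this.symm
    · obtain ⟨k, hk⟩ := P.gen_K h
      have hW := P.ev_cju (a * k)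
      rw [pow_mul, hxa, show (P.σK : F) ^ k = 1 + (P.σK : F) from congrArg Subtype.val hk] at hW
      exact ⟨_, hW, fun G _ g => Or.inr ⟨_, by rw [SL2Pres.cj_map, FreeGroup.lift_apply_of, FreeGroup.lift_apply_of]⟩⟩
  obtain ⟨r2, e2, o2⟩ := P.exists_rel hBl (P.ev_mul_x hu hA)
  obtain ⟨Sw, hSw, hSw'⟩ : ∃ W : FreeGroup (Fin 3), (∃ h : Hp C, P.ev W = uM C h ∧ h.x = P.ρ ^ 2) ∧
      ∀ (G : Type) [Group G] (g : Fin 3 → G), FreeGroup.lift g W = (cj (g 1) (g 0) a)⁻¹ ∨
        ∃ k : ℕ, FreeGroup.lift g W = (cj (g 1) (g 0) a)⁻¹ * cj (g 1) (g 0) (1 + a * k : ℕ) := by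
    have hτ : P.ρ + C.s P.ρ ∈ fixedField C.s := C.isConj.trace_mem _
    have hρ2 : P.ρ ^ 2 = -(P.σK : F) + (P.ρ + C.s P.ρ) * P.ρ := by linear_combination -P.s_mul_ρ
    by_cases h : (⟨_, hτ⟩ : fixedField C.s) = 0
    · have h' : P.ρ + C.s P.ρ = 0 := congrArg Subtype.val h
      refine ⟨(cj wt wu a)⁻¹, ?_, fun G _ g => Or.inl ?_⟩
      · rw [hρ2, h', zero_mul, add_zero]; exact P.ev_inv_x hA
      · rw [map_inv, SL2Pres.cj_map, FreeGroup.lift_apply_of, FreeGroup.lift_apply_of]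
    · obtain ⟨k, hk⟩ := P.gen_K h
      have hk' : (P.σK : F) ^ k = P.ρ + C.s P.ρ := congrArg Subtype.val hk
      refine ⟨(cj wt wu a)⁻¹ * cj wt wu (1 + a * k : ℕ), ?_, fun G _ g => Or.inr ⟨k, ?_⟩⟩
      · rw [hρ2, ← hk']
        have := P.ev_mul_x (P.ev_inv_x hA) (P.ev_cju (1 + a * k))
        rwa [pow_add, pow_mul, hxa, pow_one, mul_comm P.ρ] at this
      · rw [map_mul, map_inv, SL2Pres.cj_map, SL2Pres.cj_map, FreeGroup.lift_apply_of, FreeGroup.lift_apply_of]
  obtain ⟨r5, e5, o5⟩ := P.exists_rel hsq hSw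
  refine ⟨[r1, r2, r4, r5], by simp, by simp [e1, e2, e4, e5], fun G _ g hN hzc hg => ?_⟩
  simp only [List.forall_mem_cons, List.not_mem_nil, false_imp_iff, implies_true, and_true] at hg
  obtain ⟨g1, g2, g4, g5⟩ := hg
  have o1 := o1 G g g1
  have o2 := o2 G g g2
  have o4 := o4 G g g4
  have o5 := o5 G g g5
  have hBl'' := hBl' G g
  have hSw'' := hSw' G g
  simp only [map_mul, SL2Pres.cj_map, FreeGroup.lift_apply_of] at o1 o2 o4 o5
  generalize FreeGroup.lift g Bl = Bv at o2 hBl''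
  generalize FreeGroup.lift g Sw = Sv at o5 hSw''
  set t := g 1
  set u := g 0
  haveI := hzc.normal
  set π := QuotientGroup.mk' ((Zg t u).subgroupOf (Kg t u))
  set T := π ⟨t, t_mem t u⟩ with hT
  set U := π ⟨u, u_mem t u⟩ with hU
  have hmem : ∀ i, cj t u i ∈ Kg t u := fun i => allClosure_le t u (cj_mem t u i)
  have hcj : ∀ i, cj T U i = π ⟨cj t u i, hmem i⟩ := fun i => by
    rw [hT, hU, ← SL2Pres.cj_map]
    congr 1
  have c1 : Commute U (cj T U a) := by
    show _ = _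
    rw [hcj, hU, ← map_mul, ← map_mul]
    exact quot_eq o1
  have c4 : Commute U (cj T U (1 + a)) := by
    show _ = _
    rw [hcj, hU, ← map_mul, ← map_mul]
    exact quot_eq (by push_cast at o4 ⊢; exact o4)
  have c0 : Commute U (cj T U 1) := by
    show _ = _
    rw [hcj, hU, ← map_mul, ← map_mul]
    refine quot_eq ?_
    show (cj t u 1 * u)⁻¹ * (u * cj t u 1) ∈ Zg t u
    have hz : zel t u ∈ Zg t u := Subgroup.subset_closure ⟨0, SL2Pres.cj_zero _ _⟩
    have e : (cj t u 1 * u)⁻¹ * (u * cj t u 1) = (cj t u 1 * u)⁻¹ * zel t u * (cj t u 1 * u) := by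
      rw [zel]; group
    rw [e]
    have hy : cj t u 1 * u ∈ allClosure t u :=
      mul_mem (cj_mem t u 1) (Subgroup.subset_closure ⟨0, SL2Pres.cj_zero _ _⟩)
    rw [mul_assoc, (hzc.commute hz hy).eq, inv_mul_cancel_left]
    exact hz
  have hline : (∀ d : ℕ, Commute U (cj T U (a * d : ℤ))) ∧ ∀ d : ℕ, Commute U (cj T U (1 + a * d)) := by
    rcases hBl'' with hb | ⟨b, hb⟩ <;> subst hb
    · have e : cj T U a = U⁻¹ := by
        refine (inv_eq_of_mul_eq_one_right ?_).symm
        rw [hcj, hU, ← map_mul, ← map_one π]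
        refine quot_eq ?_
        have := inv_mem o2
        simpa using this
      have hstep : ∀ c : ℤ, cj T U (c + a) = (cj T U c)⁻¹ := fun c => by
        rw [SL2Pres.cj_add, e, cj]; group
      constructor
      · intro d
        induction d with
        | zero => simp [SL2Pres.cj_zero]
        | succ d ih =>
          rw [show (a : ℤ) * ((d + 1 : ℕ) : ℤ) = a * d + a by push_cast; ring, hstep]
          exact ih.inv_right
      · intro d
        induction d with
        | zero => simpa using c0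
        | succ d ih =>
          rw [show 1 + (a : ℤ) * ((d + 1 : ℕ) : ℤ) = 1 + a * d + a by push_cast; ring, hstep]
          exact ih.inv_right
    · have e : cj T U b = U * cj T U a := by
        rw [hcj, hcj, hU, ← map_mul]
        exact quot_eq o2
      exact ⟨SL2Pres.commute_steps c1 e, offset_steps e c0 c4⟩
  have hN' : T ^ (a * (P.q - 1)) = 1 := by
    rw [hT, ← map_pow]
    have : (⟨t, t_mem t u⟩ : Kg t u) ^ (a * (P.q - 1)) = 1 := Subtype.ext (by
      push_cast
      rw [ha, ← Nat.sq_sub_sq, one_pow, hN])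
    rw [this, map_one]
  have hall := all_commute (by omega) (by omega) hN' hline.1 hline.2 (by
    have hA' : cj T U a ∈ Subgroup.closure (Set.range (fun i : ℤ => cj T U (a * i)) ∪
        Set.range fun i : ℤ => cj T U (1 + a * i)) := Subgroup.subset_closure (Or.inl ⟨1, by simp⟩)
    rcases hSw'' with hs | ⟨k, hs⟩ <;> subst hs
    · have e : cj T U 2 = (cj T U a)⁻¹ := by
        rw [hcj, hcj, ← map_inv]; exact quot_eq (by simpa using o5)
      rw [e]
      exact inv_mem hA'
    · have e : cj T U 2 = (cj T U a)⁻¹ * cj T U (1 + a * k) := by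
        rw [hcj, hcj, hcj, ← map_inv, ← map_mul]
        exact quot_eq (by push_cast at o5 ⊢; exact o5)
      rw [e]
      exact mul_mem (inv_mem hA') (Subgroup.subset_closure (Or.inr ⟨k, rfl⟩)))
  intro i j
  have := (hall i j).eq
  rw [hcj, hcj, ← map_mul, ← map_mul] at this
  have h : (QuotientGroup.mk (⟨cj t u j, hmem j⟩ * ⟨cj t u i, hmem i⟩) : _ ⧸ (Zg t u).subgroupOf (Kg t u)) =
      QuotientGroup.mk (⟨cj t u i, hmem i⟩ * ⟨cj t u j, hmem j⟩) := this.symm
  exact Subgroup.mem_subgroupOf.1 (QuotientGroup.eq.1 h)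

end Par

end Cfsg.Lib.SUPres
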