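import Cfsg.Agent.Pres.SU.Borel

/-! # Which relations make the commutator central -/

set_option autoImplicit false
set_option linter.unusedSectionVars false
set_option linter.unusedSimpArgs false
set_option linter.style.haveILetI false

namespace Cfsg.Lib.SUPres

open Polynomial
open Cfsg.Lib.Classical (fixedField)

variable {F : Type*} [Field F] [Fintype F] {C : Conj F}

namespace Par

variable (P : Par C)

theorem card_F : Fintype.card F = P.q ^ 2 := by
  classical
  have h1 : orderOf P.ω = Fintype.card Fˣ := by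
    rw [← Nat.card_eq_fintype_card]
    refine orderOf_eq_card_of_forall_mem_zpowers fun a => ?_
    obtain ⟨k, hk⟩ := P.gen a
    exact ⟨k, (zpow_natCast P.ω k).trans hk⟩
  have h2 := Fintype.card_units (α := F)
  have h3 := P.ord
  have h4 := Fintype.one_lt_card (α := F)
  have h5 := P.order_pos
  omega

theorem ρ_pow_sub : P.ρ ^ (P.q - 1) = (P.ω : F) ^ (3 * (P.q - 1)) := by
  have h3 := P.three_le
  refine mul_right_cancel₀ P.ρ_ne ?_
  rw [← pow_succ, show P.q - 1 + 1 = P.q by omega, ← P.s_eq]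
  have hw := P.ω.ne_zero
  have hs := C.ne_zero hw
  simp only [ρ, map_div₀, map_pow, C.invol]
  rw [mul_div_assoc', div_eq_div_iff hw hs, ← pow_succ, P.s_eq, ← pow_mul, ← pow_add, ← pow_succ]
  congr 1
  omega

/-- Outside two small fields the power of the scaling generates. -/
theorem exists_poly_ρ (h5 : P.q ≠ 5) (h8 : P.q ≠ 8) : ∃ f : ℤ[X], aeval (P.ρ ^ (P.q - 1)) f = P.ρ := by
  classical
  set x := P.ρ ^ (P.q - 1) with hx
  have h3 := P.three_le
  let S : Subfield F :=
    { (aeval x : ℤ[X] →ₐ[ℤ] F).toRingHom.range with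
      inv_mem' := fun a ha => by
        show a⁻¹ ∈ (aeval x : ℤ[X] →ₐ[ℤ] F).toRingHom.range
        by_cases h0 : a = 0
        · rw [h0, inv_zero]; exact zero_mem _
        have e : a⁻¹ = a ^ (Fintype.card F - 2) := by
          refine inv_eq_of_mul_eq_one_right ?_
          have := Fintype.one_lt_card (α := F)
          rw [← pow_succ', show Fintype.card F - 2 + 1 = Fintype.card F - 1 by omega,
            FiniteField.pow_card_sub_one_eq_one a h0]
        rw [e]
        exact pow_mem ha _ }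
  by_cases htop : P.ρ ∈ S
  · exact htop
  exfalso
  haveI : Fintype S := Fintype.ofFinite _
  have hxS : x ∈ S := ⟨X, aeval_X x⟩
  have hdim : 2 ≤ Module.finrank S F := by
    by_contra hc
    have h1 : Module.finrank S F = 1 := by
      have : 0 < Module.finrank S F := Module.finrank_pos
      omega
    have hcard : Fintype.card F = Fintype.card S := by
      rw [Module.card_eq_pow_finrank (K := S) (V := F), h1, pow_one]
    obtain ⟨y, hy⟩ := ((Fintype.bijective_iff_injective_and_card ((↑) : S → F)).2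
      ⟨Subtype.val_injective, hcard.symm⟩).2 P.ρ
    exact htop (hy ▸ y.2)
  set s := Fintype.card S with hs
  have hs2 : 2 ≤ s := Fintype.one_lt_card
  have hpow := Module.card_eq_pow_finrank (K := S) (V := F)
  rw [P.card_F] at hpow
  have hle : s ≤ P.q := by
    refine (Nat.pow_le_pow_iff_left two_ne_zero).1 ?_
    rw [hpow]
    exact Nat.pow_le_pow_right (by omega) hdim
  obtain ⟨p, hp⟩ := CharP.exists F
  haveI := hp
  have hpr : p.Prime := CharP.char_is_prime F p
  have hdvd : s ∣ P.q := by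
    obtain ⟨n, -, hn⟩ := FiniteField.card F p
    rw [P.card_F] at hn
    obtain ⟨k, -, hk⟩ := (Nat.dvd_prime_pow hpr).1 (hn ▸ dvd_pow_self P.q two_ne_zero)
    obtain ⟨m, -, hm⟩ := (Nat.dvd_prime_pow hpr).1
      (hn ▸ hpow ▸ dvd_pow_self s (by omega : Module.finrank S F ≠ 0))
    rw [hk, hm] at hle ⊢
    exact pow_dvd_pow p ((Nat.pow_le_pow_iff_right hpr.one_lt).1 hle)
  have hxs : x ^ (s - 1) = 1 := by
    have h0 : x ≠ 0 := pow_ne_zero _ P.ρ_ne
    have e := FiniteField.pow_card_sub_one_eq_one (⟨x, hxS⟩ : S) (fun h => h0 (congrArg Subtype.val h))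
    exact congrArg Subtype.val e
  rw [hx, P.ρ_pow_sub, ← pow_mul] at hxs
  have hord : P.q ^ 2 - 1 ∣ 3 * (P.q - 1) * (s - 1) := by
    rw [← P.ord]
    exact orderOf_dvd_of_pow_eq_one (Units.ext (by simpa using hxs))
  obtain ⟨j, hj⟩ := hord
  obtain ⟨c, hc⟩ := hdvd
  obtain ⟨a, ha⟩ : ∃ a, P.q = a + 1 := ⟨P.q - 1, by omega⟩
  obtain ⟨b, hb⟩ : ∃ b, s = b + 1 := ⟨s - 1, by omega⟩
  rw [show P.q ^ 2 - 1 = (P.q + 1) * (P.q - 1) by rw [← Nat.sq_sub_sq, one_pow], ha, hb, Nat.add_sub_cancel,
    Nat.add_sub_cancel] at hj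
  have e : 3 * b = (a + 2) * j := by
    refine Nat.eq_of_mul_eq_mul_left (show 0 < a by omega) ?_
    linarith
  have hba : b ≤ a := by omega
  have hj3 : j < 3 := by
    by_contra hcon
    have : (a + 2) * 3 ≤ (a + 2) * j := Nat.mul_le_mul_left _ (by omega)
    omega
  rw [ha, hb] at hc
  interval_cases j
  · omega
  · have h1 : a + 1 = (b + 1) * c := hc
    have h4 : (b + 1) * c + 4 = 3 * (b + 1) := by omega
    have : b + 1 ∣ 4 := (Nat.dvd_add_right (dvd_mul_right (b + 1) c)).1 (h4 ▸ dvd_mul_left (b + 1) 3)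
    have hb4 : b < 4 := Nat.le_of_dvd (by norm_num) this
    interval_cases b <;> omega
  · have h4 : 2 * ((b + 1) * c) + 5 = 3 * (b + 1) := by omega
    have : b + 1 ∣ 5 :=
      (Nat.dvd_add_right (Dvd.dvd.mul_left (dvd_mul_right (b + 1) c) 2)).1 (h4 ▸ dvd_mul_left (b + 1) 3)
    have hb5 : b < 5 := Nat.le_of_dvd (by norm_num) this
    interval_cases b <;> omega

theorem card_K : Nat.card (fixedField C.s) = P.q := by
  have := C.isConj.card_eq_sq
  rw [Nat.card_eq_fintype_card (α := F), P.card_F] at this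
  exact (Nat.pow_left_injective two_ne_zero this).symm

theorem σK_pow_ne_one {i : ℕ} (hi : 0 < i) (hi' : i < P.q - 1) : P.σK ^ i ≠ 1 := fun h => by
  have e : (P.ω : F) ^ ((P.q + 1) * i) = (P.ω : F) ^ 0 := by
    rw [pow_zero, pow_mul, pow_succ', ← P.s_eq]
    exact congrArg Subtype.val h
  have h1 := (P.pow_eq_pow e).symm
  rw [Nat.modEq_iff_dvd' (by omega), Nat.sub_zero] at h1
  have h2 := Nat.le_of_dvd (Nat.mul_pos (by omega) hi) h1
  have h3 : (P.q + 1) * i + (P.q + 1) ≤ (P.q + 1) * (P.q - 1) := by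
    rw [← Nat.mul_succ]; exact Nat.mul_le_mul_left _ hi'
  rw [show P.q ^ 2 - 1 = (P.q + 1) * (P.q - 1) by rw [← Nat.sq_sub_sq, one_pow]] at h2
  omega

theorem span_prime (hq : P.q.Prime) :
    ∀ c : fixedField C.s, c ∈ AddSubgroup.closure (Set.range fun i : Fin 1 => P.σK ^ (i : ℕ)) := by
  haveI : Fact (Nat.card (fixedField C.s)).Prime := ⟨by rw [P.card_K]; exact hq⟩
  intro c
  set A := AddSubgroup.closure (Set.range fun i : Fin 1 => P.σK ^ (i : ℕ))
  rcases A.eq_bot_or_eq_top_of_prime_card with h | h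
  · have h1 : (1 : fixedField C.s) ∈ A := AddSubgroup.subset_closure ⟨0, pow_zero _⟩
    rw [h, AddSubgroup.mem_bot] at h1
    exact absurd h1 one_ne_zero
  · rw [h]; trivial

theorem span_eight (hq : P.q = 8) :
    ∀ c : fixedField C.s, c ∈ AddSubgroup.closure (Set.range fun i : Fin 3 => P.σK ^ (i : ℕ)) := by
  classical
  intro c
  set A := AddSubgroup.closure (Set.range fun i : Fin 3 => P.σK ^ (i : ℕ)) with hA
  obtain ⟨s, hs⟩ : ∃ s, s = P.σK := ⟨_, rfl⟩
  rw [← hs] at hA
  have n1 : s ≠ 1 := by simpa [hs] using P.σK_pow_ne_one (i := 1) (by omega) (by omega)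
  have n2 : s ^ 2 ≠ 1 := hs ▸ P.σK_pow_ne_one (by omega) (by omega)
  have n3 : s ^ 3 ≠ 1 := hs ▸ P.σK_pow_ne_one (by omega) (by omega)
  have h0 : s ≠ 0 := fun h => by
    have h1 := P.σK_pow
    rw [hq, ← hs, h, zero_pow (by norm_num)] at h1
    exact zero_ne_one h1
  have m : ∀ i : Fin 3, s ^ (i : ℕ) ∈ A := fun i => AddSubgroup.subset_closure ⟨i, by rw [hs]⟩
  have m0 : (1 : fixedField C.s) ∈ A := by simpa using m 0
  have m1 : s ∈ A := by simpa using m 1
  have m2 : s ^ 2 ∈ A := by simpa using m 2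
  have two : (1 : fixedField C.s) + 1 = 0 := by
    have h8 : ((8 : ℕ) : fixedField C.s) = 0 := by
      haveI : Fintype (fixedField C.s) := Fintype.ofFinite _
      have := Nat.cast_card_eq_zero (fixedField C.s)
      rwa [← Nat.card_eq_fintype_card, P.card_K, hq] at this
    have : ((1 : fixedField C.s) + 1) ^ 3 = 0 := by rw [← h8]; push_cast; ring
    exact pow_eq_zero_iff (by norm_num) |>.1 this
  let T : Finset (fixedField C.s) := {0, 1, s, s ^ 2, 1 + s}
  have hT : T.card = 5 := by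
    have a1 : (0 : fixedField C.s) ≠ s ^ 2 := (pow_ne_zero 2 h0).symm
    have a2 : (0 : fixedField C.s) ≠ 1 + s := fun h => n1 (by linear_combination -two - h)
    have a3 : s ≠ s ^ 2 := fun h => n1 (mul_left_cancel₀ h0 (by linear_combination -h))
    have a4 : s ≠ 1 + s := fun h => one_ne_zero (by linear_combination -h)
    have a5 : s ^ 2 ≠ 1 + s := fun h => n3 (by linear_combination (s + 1) * h + s * two)
    have a6 : (1 : fixedField C.s) ≠ 1 + s := fun h => h0 (by linear_combination -h)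
    simp [T, zero_ne_one, Ne.symm n1, Ne.symm n2, Ne.symm h0, a1, a2, a3, a4, a5, a6]
  have h5 : 5 ≤ Nat.card A := by
    rw [← hT]
    haveI : Fintype A := Fintype.ofFinite _
    rw [Nat.card_eq_fintype_card, ← Fintype.card_coe]
    refine Fintype.card_le_of_injective (fun x => ⟨x.1, ?_⟩) fun a b h => Subtype.ext (congrArg Subtype.val h : _)
    have hx := x.2
    simp only [T, Finset.mem_insert, Finset.mem_singleton] at hx
    rcases hx with h | h | h | h | h <;> rw [h]
    exacts [zero_mem A, m0, m1, m2, add_mem m0 m1]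
  have hd := A.card_addSubgroup_dvd_card
  rw [P.card_K, hq] at hd
  have h8 : Nat.card A = 8 := by
    have := Nat.le_of_dvd (by norm_num) hd
    interval_cases (Nat.card A) <;> omega
  have : A = ⊤ := AddSubgroup.eq_top_of_card_eq A (by rw [h8, P.card_K, hq])
  rw [this]; trivial

/-- At most three relations make the commutator central. -/
theorem exists_zrels : ∃ n, (n ≤ 2 ∨ P.q = 8 ∧ n = 3) ∧ P.ZRels n := by
  by_cases h8 : P.q = 8
  · exact ⟨3, Or.inr ⟨h8, rfl⟩, P.exists_zcomm_span 3 (P.span_eight h8)⟩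
  by_cases h5 : P.q = 5
  · exact ⟨1, Or.inl one_le_two, P.exists_zcomm_span 1 (P.span_prime (by rw [h5]; norm_num))⟩
  exact ⟨2, Or.inl le_rfl, P.exists_zcomm_two (P.exists_poly_ρ h5 h8)⟩

end Par

end Cfsg.Lib.SUPres
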