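import Cfsg.Agent.Pres.SU.FourData

/-! The checks of the table of index 5184. -/

set_option autoImplicit false
set_option Elab.async false

namespace Cfsg.Lib.SUPres.FourTab

open Cfsg.Lib.CosetTable

theorem join_rowsOK (a b k c e : ℕ) (hk : a + b = k) (he : b + c = e) (h1 : cert.rowsOK a b = true)
    (h2 : cert.rowsOK k c = true) : cert.rowsOK a e = true := by
  subst hk he; exact rowsOK_cat cert h1 h2

theorem join_entsOK (a b k c e : ℕ) (hk : a + b = k) (he : b + c = e) (h1 : cert.entsOK a b = true)
    (h2 : cert.entsOK k c = true) : cert.entsOK a e = true := by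
  subst hk he; exact entsOK_cat cert h1 h2

theorem join_stepsOK (a b k c e : ℕ) (hk : a + b = k) (he : b + c = e) (h1 : cert.stepsOK a b = true)
    (h2 : cert.stepsOK k c = true) : cert.stepsOK a e = true := by
  subst hk he; exact stepsOK_cat cert h1 h2

theorem stepsOK_0 : cert.stepsOK 0 500 = true := by decide +kernel

theorem stepsOK_1 : cert.stepsOK 500 500 = true := by decide +kernel

theorem stepsOK_2 : cert.stepsOK 1000 500 = true := by decide +kernel

theorem stepsOK_3 : cert.stepsOK 1500 500 = true := by decide +kernel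

theorem stepsOK_4 : cert.stepsOK 2000 500 = true := by decide +kernel

theorem stepsOK_5 : cert.stepsOK 2500 500 = true := by decide +kernel

theorem stepsOK_6 : cert.stepsOK 3000 500 = true := by decide +kernel

theorem stepsOK_7 : cert.stepsOK 3500 500 = true := by decide +kernel

theorem stepsOK_8 : cert.stepsOK 4000 500 = true := by decide +kernel

theorem stepsOK_9 : cert.stepsOK 4500 500 = true := by decide +kernel

theorem stepsOK_10 : cert.stepsOK 5000 500 = true := by decide +kernel

theorem stepsOK_11 : cert.stepsOK 5500 500 = true := by decide +kernel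

theorem stepsOK_12 : cert.stepsOK 6000 500 = true := by decide +kernel

theorem stepsOK_13 : cert.stepsOK 6500 500 = true := by decide +kernel

theorem stepsOK_14 : cert.stepsOK 7000 500 = true := by decide +kernel

theorem stepsOK_15 : cert.stepsOK 7500 276 = true := by decide +kernel

theorem stepsOK_all : cert.stepsOK 0 7776 = true :=
  (join_stepsOK 0 7500 7500 276 7776 rfl rfl (join_stepsOK 0 7000 7000 500 7500 rfl rfl (join_stepsOK 0 6500 6500 500 7000 rfl rfl (join_stepsOK 0 6000 6000 500 6500 rfl rfl (join_stepsOK 0 5500 5500 500 6000 rfl rfl (join_stepsOK 0 5000 5000 500 5500 rfl rfl (join_stepsOK 0 4500 4500 500 5000 rfl rfl (join_stepsOK 0 4000 4000 500 4500 rfl rfl (join_stepsOK 0 3500 3500 500 4000 rfl rfl (join_stepsOK 0 3000 3000 500 3500 rfl rfl (join_stepsOK 0 2500 2500 500 3000 rfl rfl (join_stepsOK 0 2000 2000 500 2500 rfl rfl (join_stepsOK 0 1500 1500 500 2000 rfl rfl (join_stepsOK 0 1000 1000 500 1500 rfl rfl (join_stepsOK 0 500 500 500 1000 rfl rfl stepsOK_0 stepsOK_1) stepsOK_2) stepsOK_3) stepsOK_4) stepsOK_5)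 stepsOK_6) stepsOK_7) stepsOK_8) stepsOK_9) stepsOK_10) stepsOK_11) stepsOK_12) stepsOK_13) stepsOK_14) stepsOK_15)

theorem entsOK_0 : cert.entsOK 0 250 = true := by decide +kernel

theorem entsOK_1 : cert.entsOK 250 250 = true := by decide +kernel

theorem entsOK_2 : cert.entsOK 500 250 = true := by decide +kernel

theorem entsOK_3 : cert.entsOK 750 250 = true := by decide +kernel

theorem entsOK_4 : cert.entsOK 1000 250 = true := by decide +kernel

theorem entsOK_5 : cert.entsOK 1250 250 = true := by decide +kernel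

theorem entsOK_6 : cert.entsOK 1500 250 = true := by decide +kernel

theorem entsOK_7 : cert.entsOK 1750 250 = true := by decide +kernel

theorem entsOK_8 : cert.entsOK 2000 250 = true := by decide +kernel

theorem entsOK_9 : cert.entsOK 2250 250 = true := by decide +kernel

theorem entsOK_10 : cert.entsOK 2500 250 = true := by decide +kernel

theorem entsOK_11 : cert.entsOK 2750 250 = true := by decide +kernel

theorem entsOK_12 : cert.entsOK 3000 250 = true := by decide +kernel

theorem entsOK_13 : cert.entsOK 3250 250 = true := by decide +kernel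

theorem entsOK_14 : cert.entsOK 3500 250 = true := by decide +kernel

theorem entsOK_15 : cert.entsOK 3750 250 = true := by decide +kernel

theorem entsOK_16 : cert.entsOK 4000 250 = true := by decide +kernel

theorem entsOK_17 : cert.entsOK 4250 250 = true := by decide +kernel

theorem entsOK_18 : cert.entsOK 4500 250 = true := by decide +kernel

theorem entsOK_19 : cert.entsOK 4750 250 = true := by decide +kernel

theorem entsOK_20 : cert.entsOK 5000 184 = true := by decide +kernel

theorem entsOK_all : cert.entsOK 0 5184 = true :=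
  (join_entsOK 0 5000 5000 184 5184 rfl rfl (join_entsOK 0 4750 4750 250 5000 rfl rfl (join_entsOK 0 4500 4500 250 4750 rfl rfl (join_entsOK 0 4250 4250 250 4500 rfl rfl (join_entsOK 0 4000 4000 250 4250 rfl rfl (join_entsOK 0 3750 3750 250 4000 rfl rfl (join_entsOK 0 3500 3500 250 3750 rfl rfl (join_entsOK 0 3250 3250 250 3500 rfl rfl (join_entsOK 0 3000 3000 250 3250 rfl rfl (join_entsOK 0 2750 2750 250 3000 rfl rfl (join_entsOK 0 2500 2500 250 2750 rfl rfl (join_entsOK 0 2250 2250 250 2500 rfl rfl (join_entsOK 0 2000 2000 250 2250 rfl rfl (join_entsOK 0 1750 1750 250 2000 rfl rfl (join_entsOK 0 1500 1500 250 1750 rfl rfl (join_entsOK 0 1250 1250 250 1500 rfl rfl (join_entsOK 0 1000 1000 250 1250 rfl rfl (join_entsOK 0 750 750 250 1000 rfl rfl (join_entsOK 0 500 500 250 750 rfl rfl (join_entsOK 0 250 250 250 500 rfl rfl entsOK_0 entsOK_1) entsOK_2) entsOK_3) entsOK_4) entsOK_5) entsOK_6) entsOK_7) entsOK_8) entsOK_9) entsOK_10) entsOK_11) entsOK_12) entsOK_13) entsOK_14) entsOK_15) entsOK_16) entsOK_17) entsOK_18) entsOK_19) entsOK_20)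

theorem rowsOK_0 : cert.rowsOK 0 500 = true := by decide +kernel

theorem rowsOK_1 : cert.rowsOK 500 500 = true := by decide +kernel

theorem rowsOK_2 : cert.rowsOK 1000 500 = true := by decide +kernel

theorem rowsOK_3 : cert.rowsOK 1500 500 = true := by decide +kernel

theorem rowsOK_4 : cert.rowsOK 2000 500 = true := by decide +kernel

theorem rowsOK_5 : cert.rowsOK 2500 500 = true := by decide +kernel

theorem rowsOK_6 : cert.rowsOK 3000 500 = true := by decide +kernel

theorem rowsOK_7 : cert.rowsOK 3500 500 = true := by decide +kernel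

theorem rowsOK_8 : cert.rowsOK 4000 500 = true := by decide +kernel

theorem rowsOK_9 : cert.rowsOK 4500 500 = true := by decide +kernel

theorem rowsOK_10 : cert.rowsOK 5000 184 = true := by decide +kernel

theorem rowsOK_all : cert.rowsOK 0 5184 = true :=
  (join_rowsOK 0 5000 5000 184 5184 rfl rfl (join_rowsOK 0 4500 4500 500 5000 rfl rfl (join_rowsOK 0 4000 4000 500 4500 rfl rfl (join_rowsOK 0 3500 3500 500 4000 rfl rfl (join_rowsOK 0 3000 3000 500 3500 rfl rfl (join_rowsOK 0 2500 2500 500 3000 rfl rfl (join_rowsOK 0 2000 2000 500 2500 rfl rfl (join_rowsOK 0 1500 1500 500 2000 rfl rfl (join_rowsOK 0 1000 1000 500 1500 rfl rfl (join_rowsOK 0 500 500 500 1000 rfl rfl rowsOK_0 rowsOK_1) rowsOK_2) rowsOK_3) rowsOK_4) rowsOK_5) rowsOK_6) rowsOK_7) rowsOK_8) rowsOK_9) rowsOK_10)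

theorem valid : cert.Valid :=
  ⟨by decide, by decide +kernel, stepsOK_all, entsOK_all⟩

end Cfsg.Lib.SUPres.FourTab
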