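import Cfsg.Agent.Pres.SU.Perm
import Cfsg.Agent.Known.Phan.Nine

/-! # Recognition from one rank two subgroup and the alternating group -/

set_option autoImplicit false
set_option linter.unusedSectionVars false
set_option linter.unusedSimpArgs false
set_option linter.style.haveILetI false

namespace Cfsg.Lib.SUPres

open Equiv
open Cfsg.Lib.Known.Phan

universe u

theorem exists_frame3 {N : ℕ} (hN : 4 ≤ N) {a b c : Fin N} (hab : a ≠ b) (hbc : b ≠ c) (hac : a ≠ c) :
    ∃ (π : alternatingGroup (Fin N)) (ρ : Perm (Fin 3)),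
      ∀ k, (π : Perm (Fin N)) (win 3 0 (show 0 + 3 ≤ N by omega) (ρ k)) = ![a, b, c] k := by
  obtain ⟨π, hπ⟩ := SLnPres.exists_perm_map (f := fun k => win 3 0 (show 0 + 3 ≤ N by omega) k) (g := ![a, b, c])
    (win 3 0 (show 0 + 3 ≤ N by omega)).injective (SLnPres.vec3_inj hab hbc hac)
  set w := win 3 0 (show 0 + 3 ≤ N by omega) with hw
  rcases SLnPres.even_or_swap π (a := w 1) (b := w 2) (w.injective.ne (by decide)) with h | h
  · exact ⟨⟨π, h⟩, 1, hπ⟩
  · refine ⟨⟨_, h⟩, swap 1 2, fun k => ?_⟩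
    show π (swap (w 1) (w 2) (w (swap 1 2 k))) = _
    rw [w.injective.swap_apply, swap_apply_self, hπ]

theorem exists_even_extend {N k : ℕ} {f g : Fin k → Fin N} (hf : Function.Injective f) (hg : Function.Injective g)
    {i j : Fin k} (hij : i ≠ j) : ∃ π : alternatingGroup (Fin N),
      ((∀ x, (π : Perm (Fin N)) (f x) = g x) ∨ ∀ x, (π : Perm (Fin N)) (f x) = g (swap i j x)) := by
  obtain ⟨π, hπ⟩ := SLnPres.exists_perm_map hf hg
  rcases SLnPres.even_or_swap π (hf.ne hij) with h | h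
  · exact ⟨⟨π, h⟩, Or.inl hπ⟩
  · refine ⟨⟨_, h⟩, Or.inr fun x => ?_⟩
    show π (swap (f i) (f j) (f x)) = _
    rw [hf.swap_apply, hπ]

theorem win_range_four {N : ℕ} (hN : 4 ≤ N) (j : ℕ) (hj : j + 2 ≤ N) :
    Set.range (win 2 j hj) = {x : Fin N | (x : ℕ) = j ∨ (x : ℕ) = j + 1} := by
  ext x
  constructor
  · rintro ⟨i, rfl⟩
    show j + (i : ℕ) = j ∨ j + (i : ℕ) = j + 1
    have := i.isLt
    omega
  · rintro (h | h)
    · exact ⟨0, Fin.ext (show j + 0 = (x : ℕ) by omega)⟩
    · exact ⟨1, Fin.ext (show j + 1 = (x : ℕ) by omega)⟩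

/-- The first edge. -/
def edge0 (N : ℕ) : Set (Fin N) := {x | (x : ℕ) = 0 ∨ (x : ℕ) = 1}

theorem edge0_eq {N : ℕ} (hN : 4 ≤ N) :
    edge0 N = Set.range (κ01.trans (win 3 0 (show 0 + 3 ≤ N by omega))) := by
  rw [κ01_eq_win, win_trans]
  exact (win_range_four hN 0 (by omega)).symm

section Cycles

/-- The cycle on three consecutive points. -/
theorem closure_consecutive {N : ℕ} (hN : 3 ≤ N) (K : Subgroup (alternatingGroup (Fin N)))
    (h : ∀ i (hi : i + 3 ≤ N), ∃ γ ∈ K, (∀ x : Fin N, ((x : ℕ) < i ∨ i + 3 ≤ (x : ℕ)) → (γ : Perm (Fin N)) x = x) ∧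
      (∀ x : Fin N, i ≤ (x : ℕ) → (x : ℕ) < i + 3 → (γ : Perm (Fin N)) x ≠ x)) : K = ⊤ := by
  suffices key : ∀ m, 3 ≤ m → m ≤ N → ∀ π : alternatingGroup (Fin N),
      (∀ x : Fin N, m ≤ (x : ℕ) → (π : Perm (Fin N)) x = x) → π ∈ K by
    refine eq_top_iff.2 fun π _ => key N hN le_rfl π fun x hx => absurd x.isLt (by omega)
  intro m
  induction m with
  | zero => intro h3; omega
  | succ m ih =>
    intro h3 hmN π hπ
    rcases Nat.lt_or_ge m 3 with hm | hm
    · have hm2 : m = 2 := by omega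
      subst hm2
      obtain ⟨γ, hγ, hfix, hmov⟩ := h 0 (by omega)
      let a : Fin N := ⟨0, by omega⟩
      let b : Fin N := ⟨1, by omega⟩
      let c : Fin N := ⟨2, by omega⟩
      have hin : ∀ (σ : alternatingGroup (Fin N)), (∀ x : Fin N, 3 ≤ (x : ℕ) → (σ : Perm (Fin N)) x = x) →
          (σ : Perm (Fin N)) a = a → σ = 1 := by
        intro σ hσ ha
        refine Subtype.ext (Equiv.ext fun x => ?_)
        have hsupp : (σ : Perm (Fin N)).support ⊆ {b, c} := fun y hy => by
          rw [Perm.mem_support] at hy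
          have h1 : (y : ℕ) < 3 := by
            by_contra hc; exact hy (hσ y (by omega))
          have h2 : (y : ℕ) ≠ 0 := fun hc => hy (by rw [show y = a from Fin.ext hc, ha])
          simp only [Finset.mem_insert, Finset.mem_singleton, Fin.ext_iff, b, c]
          omega
        have hcard := Finset.card_le_card hsupp
        rw [Finset.card_pair (by simp [b, c, Fin.ext_iff])] at hcard
        rcases Nat.lt_or_ge (σ : Perm (Fin N)).support.card 2 with hlt | hge
        · have : (σ : Perm (Fin N)) = 1 := by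
            rw [← Perm.card_support_le_one]; omega
          rw [this]; rfl
        · have hsw := Perm.card_support_eq_two.1 (le_antisymm hcard hge)
          have := hsw.sign_eq
          rw [Perm.mem_alternatingGroup.1 σ.2] at this
          exact absurd this (by decide)
      have hpow : ∃ σ ∈ K, (∀ x : Fin N, 3 ≤ (x : ℕ) → (σ : Perm (Fin N)) x = x) ∧
          (σ : Perm (Fin N)) ((π : Perm (Fin N)) a) = a := by
        have hlt : ∀ (σ : alternatingGroup (Fin N)), (∀ x : Fin N, 3 ≤ (x : ℕ) → (σ : Perm (Fin N)) x = x) →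
            ∀ x : Fin N, (x : ℕ) < 3 → ((σ : Perm (Fin N)) x : ℕ) < 3 := fun σ hσ x hx => by
          by_contra hc
          have := (σ : Perm (Fin N)).injective (hσ _ (le_of_not_gt hc))
          omega
        have hγ3 : ∀ x : Fin N, 3 ≤ (x : ℕ) → (γ : Perm (Fin N)) x = x := fun x hx => hfix x (Or.inr (by omega))
        have hπa := hlt π hπ a (by show (0 : ℕ) < 3; norm_num)
        by_cases e0 : (π : Perm (Fin N)) a = a
        · exact ⟨1, K.one_mem, fun x _ => rfl, by rw [e0]; rfl⟩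
        by_cases e1 : (γ : Perm (Fin N)) ((π : Perm (Fin N)) a) = a
        · exact ⟨γ, hγ, hγ3, e1⟩
        refine ⟨γ * γ, K.mul_mem hγ hγ, fun x hx => by
          show (γ : Perm (Fin N)) ((γ : Perm (Fin N)) x) = x
          rw [hγ3 x hx, hγ3 x hx], ?_⟩
        show (γ : Perm (Fin N)) ((γ : Perm (Fin N)) ((π : Perm (Fin N)) a)) = a
        have d1 := hlt γ hγ3 _ hπa
        have d2 := hlt γ hγ3 _ d1
        have m1 := hmov ((π : Perm (Fin N)) a) (Nat.zero_le _) (by omega)
        have m2 := hmov ((γ : Perm (Fin N)) ((π : Perm (Fin N)) a)) (Nat.zero_le _) (by omega)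
        have m3 := hmov a (Nat.zero_le _) (by show (0 : ℕ) < 0 + 3; norm_num)
        have hinj : ∀ x y, (γ : Perm (Fin N)) x = (γ : Perm (Fin N)) y → x = y := fun x y e => (γ : Perm (Fin N)).injective e
        by_contra hne
        -- three points and the image of the middle one avoids all of them
        have hne2 : (γ : Perm (Fin N)) ((γ : Perm (Fin N)) ((π : Perm (Fin N)) a)) ≠ (π : Perm (Fin N)) a := by
          intro e
          have m4 := hmov ((γ : Perm (Fin N)) a) (Nat.zero_le _) (by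
            have := hlt γ hγ3 a (by show (0 : ℕ) < 3; norm_num); omega)
          have d3 := hlt γ hγ3 a (by show (0 : ℕ) < 3; norm_num)
          have hav : (a : ℕ) = 0 := rfl
          have k1 : (γ : Perm (Fin N)) a ≠ (π : Perm (Fin N)) a := fun h' => e1 (hinj _ _ (by rw [e, h']))
          have k2 : (γ : Perm (Fin N)) a ≠ (γ : Perm (Fin N)) ((π : Perm (Fin N)) a) := fun h' =>
            e0 (hinj _ _ h'.symm)
          simp only [ne_eq, Fin.ext_iff] at m1 m3 k1 k2 e0 e1
          omega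
        simp only [ne_eq, Fin.ext_iff] at m1 m2 m3 hne2 e0 e1 hne
        have hav : (a : ℕ) = 0 := rfl
        omega
      obtain ⟨σ, hσK, hσ, hσa⟩ := hpow
      have e : σ * π = 1 := hin (σ * π) (fun x hx => by
        show (σ : Perm (Fin N)) ((π : Perm (Fin N)) x) = x
        rw [hπ x hx, hσ x hx]) hσa
      rw [← inv_eq_of_mul_eq_one_right e]
      exact K.inv_mem hσK
    let top : Fin N := ⟨m, by omega⟩
    suffices hg : ∃ g ∈ K, (∀ x : Fin N, m + 1 ≤ (x : ℕ) → (g : Perm (Fin N)) x = x) ∧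
        (g : Perm (Fin N)) ((π : Perm (Fin N)) top) = top by
      obtain ⟨g, hgK, hg1, hg2⟩ := hg
      have : g * π ∈ K := ih hm (by omega) (g * π) fun x hx => by
        show (g : Perm (Fin N)) ((π : Perm (Fin N)) x) = x
        rcases Nat.eq_or_lt_of_le hx with he | hlt
        · rw [show x = top from Fin.ext he.symm]; exact hg2
        · rw [hπ x hlt, hg1 x hlt]
      simpa using K.mul_mem (K.inv_mem hgK) this
    obtain ⟨γ, hγ, hfix, hmov⟩ := h (m - 2) (by omega)
    have hγm : ∀ x : Fin N, m + 1 ≤ (x : ℕ) → (γ : Perm (Fin N)) x = x := fun x hx => hfix x (Or.inr (by omega))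
    by_cases hj : (π : Perm (Fin N)) top = top
    · exact ⟨1, K.one_mem, fun x _ => rfl, by rw [hj]; rfl⟩
    have hjlt : ((π : Perm (Fin N)) top : ℕ) < m := by
      by_contra hc
      rcases Nat.eq_or_lt_of_le (le_of_not_gt hc) with he | hlt
      · exact hj (Fin.ext he.symm)
      · have := (π : Perm (Fin N)).injective (hπ _ hlt)
        exact hj this
    set z := ((γ : Perm (Fin N))⁻¹ : Perm (Fin N)) top with hz
    have hz2 : (γ : Perm (Fin N)) z = top := by rw [hz]; simp
    have hzlt : (z : ℕ) < m := by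
      by_contra hc
      rcases Nat.eq_or_lt_of_le (le_of_not_gt hc) with he | hlt
      · exact hmov top (by show m - 2 ≤ m; omega) (by show m < m - 2 + 3; omega)
          (by rw [show z = top from Fin.ext he.symm] at hz2; exact hz2)
      · have := hγm z hlt
        rw [hz2] at this
        have h2 := congrArg Fin.val this
        change m = (z : ℕ) at h2
        omega
    obtain ⟨σ, hσK, hσ, hσj⟩ : ∃ σ ∈ K, (∀ x : Fin N, m ≤ (x : ℕ) → (σ : Perm (Fin N)) x = x) ∧
        (σ : Perm (Fin N)) ((π : Perm (Fin N)) top) = z := by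
      by_cases hjz : (π : Perm (Fin N)) top = z
      · exact ⟨1, K.one_mem, fun x _ => rfl, by rw [hjz]; rfl⟩
      obtain ⟨w, hw, hw1, hw2⟩ : ∃ w : Fin N, (w : ℕ) < m ∧ w ≠ (π : Perm (Fin N)) top ∧ w ≠ z := by
        have h3 : ∀ a b : ℕ, ∃ c, c < 3 ∧ c ≠ a ∧ c ≠ b := fun a b => by
          by_cases h0 : 0 ≠ a ∧ 0 ≠ b
          · exact ⟨0, by norm_num, h0.1, h0.2⟩
          by_cases h1 : 1 ≠ a ∧ 1 ≠ b
          · exact ⟨1, by norm_num, h1.1, h1.2⟩
          exact ⟨2, by norm_num, by omega, by omega⟩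
        obtain ⟨c, hc, hca, hcb⟩ := h3 ((π : Perm (Fin N)) top : ℕ) z
        exact ⟨⟨c, by omega⟩, show c < m by omega, fun e => hca (congrArg Fin.val e),
          fun e => hcb (congrArg Fin.val e)⟩
      set j := (π : Perm (Fin N)) top
      have hs : swap j w * swap j z ∈ alternatingGroup (Fin N) := by
        rw [Perm.mem_alternatingGroup, map_mul, Perm.sign_swap (Ne.symm hw1), Perm.sign_swap hjz]; rfl
      have hfixσ : ∀ x : Fin N, m ≤ (x : ℕ) → (swap j w * swap j z) x = x := fun x hx => by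
        have a1 : x ≠ j := fun e => by rw [e] at hx; omega
        have a2 : x ≠ w := fun e => by rw [e] at hx; omega
        have a3 : x ≠ z := fun e => by rw [e] at hx; omega
        rw [Perm.mul_apply, swap_apply_of_ne_of_ne a1 a3, swap_apply_of_ne_of_ne a1 a2]
      refine ⟨⟨_, hs⟩, ih hm (by omega) _ hfixσ, hfixσ, ?_⟩
      show swap j w (swap j z j) = z
      rw [swap_apply_left, swap_apply_of_ne_of_ne (Ne.symm hjz) (Ne.symm hw2)]
    refine ⟨γ * σ, K.mul_mem hγ hσK, fun x hx => ?_, ?_⟩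
    · show (γ : Perm (Fin N)) ((σ : Perm (Fin N)) x) = x
      rw [hσ x (by omega), hγm x hx]
    · show (γ : Perm (Fin N)) ((σ : Perm (Fin N)) ((π : Perm (Fin N)) top)) = top
      rw [hσj, hz2]

end Cycles

variable {F : Type u} [Field F] [Fintype F] {q : ℕ} [hF : Fact (Fintype.card F = q ^ 2)] {N : ℕ}
variable {G : Type*} [Group G]

/-- A group with the glue. -/
structure Gl (F : Type u) [Field F] [Fintype F] (q : ℕ) [Fact (Fintype.card F = q ^ 2)] (N : ℕ) (G : Type*)
    [Group G] where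
  /-- The dimension is at least four. -/
  hN : 4 ≤ N
  /-- The alternating group. -/
  ι : alternatingGroup (Fin N) →* G
  /-- The rank two group. -/
  f : Cfsg.SU 3 F q →* G
  /-- The map to the target. -/
  Φ : G →* Cfsg.SU N F q
  Φι : ∀ π, Φ (ι π) = permSU π
  Φf : ∀ x, Φ (f x) = blk (win 3 0 (show 0 + 3 ≤ N by omega)) x
  hcyc : ι (cycN (show 3 ≤ N by omega)) = f (permSU cyc3)
  stab : ∀ π : alternatingGroup (Fin N), (π : Perm (Fin N)) '' edge0 N = edge0 N →
    ((f.comp (blk κ01)).range).map (MulAut.conj (ι π)).toMonoidHom = (f.comp (blk κ01)).range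
  comm : ∃ π : alternatingGroup (Fin N), (π : Perm (Fin N)) '' edge0 N = {x : Fin N | (x : ℕ) = 2 ∨ (x : ℕ) = 3} ∧
    ∀ x ∈ (f.comp (blk κ01)).range, ∀ y ∈ (f.comp (blk κ01)).range, Commute x (ι π * y * (ι π)⁻¹)
  gen : Subgroup.closure (Set.range ι ∪ Set.range f) = ⊤

namespace Gl

variable (D : Gl F q N G)

/-- The first rank one subgroup. -/
noncomputable def U0 : Subgroup G := (D.f.comp (blk κ01)).range

/-- A conjugate of the first rank one subgroup. -/
noncomputable def U (π : alternatingGroup (Fin N)) : Subgroup G := D.U0.map (MulAut.conj (D.ι π)).toMonoidHom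

/-- The rank one subgroup of a pair. -/
noncomputable def UE (S : Set (Fin N)) : Subgroup G :=
  ⨆ (π : alternatingGroup (Fin N)) (_ : (π : Perm (Fin N)) '' edge0 N = S), D.U π

theorem U_mul (σ π : alternatingGroup (Fin N)) :
    D.U (σ * π) = (D.U π).map (MulAut.conj (D.ι σ)).toMonoidHom := by
  rw [U, U, Subgroup.map_map]
  congr 1
  ext x
  simp [mul_assoc]

theorem UE_eq {π : alternatingGroup (Fin N)} {S : Set (Fin N)} (h : (π : Perm (Fin N)) '' edge0 N = S) :
    D.UE S = D.U π := by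
  refine le_antisymm (iSup₂_le fun σ hσ => ?_) (le_iSup₂_of_le π h le_rfl)
  have e : (((π⁻¹ * σ : alternatingGroup (Fin N)) : Perm (Fin N))) '' edge0 N = edge0 N := by
    rw [Subgroup.coe_mul, Subgroup.coe_inv, Perm.coe_mul, Set.image_comp, hσ, ← h, ← Set.image_comp]
    have : ((π : Perm (Fin N))⁻¹ : Perm (Fin N)) ∘ (π : Perm (Fin N)) = id := funext fun x => by simp
    rw [this, Set.image_id]
  have e2 := D.U_mul π (π⁻¹ * σ)
  rw [mul_inv_cancel_left] at e2
  rw [e2]
  show Subgroup.map _ (D.U0.map _) ≤ D.U π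
  rw [show D.U0.map (MulAut.conj (D.ι (π⁻¹ * σ))).toMonoidHom = D.U0 from D.stab _ e]
  exact le_rfl

theorem UE_conj (σ : alternatingGroup (Fin N)) {π : alternatingGroup (Fin N)} {S : Set (Fin N)}
    (h : (π : Perm (Fin N)) '' edge0 N = S) :
    (D.UE S).map (MulAut.conj (D.ι σ)).toMonoidHom = D.UE ((σ : Perm (Fin N)) '' S) := by
  rw [D.UE_eq h, ← D.U_mul, D.UE_eq (π := σ * π)]
  rw [Subgroup.coe_mul, Perm.coe_mul, Set.image_comp, h]

/-- The inclusion of the rank two group. -/
def w3 (D : Gl F q N G) : Fin 3 ↪ Fin N := win 3 0 (by have := D.hN; omega)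

theorem w3_cyc (x : Fin 3) :
    (cycN (show 3 ≤ N by have := D.hN; omega) : Perm (Fin N)) (D.w3 x) = D.w3 ((cyc3 : Perm (Fin 3)) x) := by
  have h3 : 3 ≤ N := by have := D.hN; omega
  rw [w3, win_eq_castLE h3, win_eq_castLE h3, cycN_castLE]

theorem edge0_w3 : edge0 N = D.w3 '' Set.range κ01 := by
  rw [edge0_eq D.hN, ← Set.range_comp]; rfl

theorem exists_pow_range (κ : Fin 2 ↪ Fin 3) :
    ∃ m : Fin 3, Set.range κ = ((cyc3 : Perm (Fin 3)) ^ (m : ℕ)) '' Set.range κ01 := by
  have key : ∀ a b : Fin 3, a ≠ b → ∃ m : Fin 3, ∀ x, (x = a ∨ x = b) ↔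
      (x = ((cyc3 : Perm (Fin 3)) ^ (m : ℕ)) 0 ∨ x = ((cyc3 : Perm (Fin 3)) ^ (m : ℕ)) 1) := by decide
  obtain ⟨m, hm⟩ := key (κ 0) (κ 1) (κ.injective.ne (by decide))
  refine ⟨m, ?_⟩
  ext x
  rw [range_κ01, Set.image_pair]
  simp only [Set.mem_range, Fin.exists_fin_two, Set.mem_insert_iff, Set.mem_singleton_iff]
  rw [← hm x]
  simp [eq_comm]

theorem f_range (κ : Fin 2 ↪ Fin 3) :
    (D.f.comp (blk κ)).range = D.UE (Set.range (κ.trans D.w3)) := by
  obtain ⟨m, hm⟩ := exists_pow_range κ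
  set c := cycN (show 3 ≤ N by have := D.hN; omega)
  have hw : ∀ (k : ℕ) x, ((c : Perm (Fin N)) ^ k) (D.w3 x) = D.w3 (((cyc3 : Perm (Fin 3)) ^ k) x) := by
    intro k
    induction k with
    | zero => intro x; rfl
    | succ k ih => intro x; rw [pow_succ, pow_succ, Perm.mul_apply, Perm.mul_apply, D.w3_cyc, ih]
  have hS : ((c ^ (m : ℕ) : alternatingGroup (Fin N)) : Perm (Fin N)) '' edge0 N = Set.range (κ.trans D.w3) := by
    rw [D.edge0_w3, SubmonoidClass.coe_pow, show Set.range (κ.trans D.w3) = D.w3 '' Set.range κ from Set.range_comp (⇑D.w3) (⇑κ),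
      hm, ← Set.image_comp, ← Set.image_comp]
    exact Set.image_congr' fun x => hw m x
  rw [D.UE_eq hS, U]
  set κ' : Fin 2 ↪ Fin 3 := κ01.trans (((cyc3 ^ (m : ℕ) : alternatingGroup (Fin 3)) : Perm (Fin 3))).toEmbedding
    with hκ'
  have hr : (blk (F := F) (q := q) κ).range = (blk (F := F) (q := q) κ').range := blk_range_eq (by
    rw [hm, hκ', show Set.range (κ01.trans ((cyc3 ^ (m : ℕ) : alternatingGroup (Fin 3)) : Perm (Fin 3)).toEmbedding) =
      ((cyc3 ^ (m : ℕ) : alternatingGroup (Fin 3)) : Perm (Fin 3)) '' Set.range κ01 from Set.range_comp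
        (⇑((cyc3 ^ (m : ℕ) : alternatingGroup (Fin 3)) : Perm (Fin 3))) (⇑κ01),
      SubmonoidClass.coe_pow])
  rw [MonoidHom.range_comp, hr, U0, MonoidHom.range_comp, Subgroup.map_map, ← MonoidHom.range_comp,
    ← MonoidHom.range_comp]
  congr 1
  ext x
  simp only [MonoidHom.comp_apply, MulEquiv.coe_toMonoidHom, MulAut.conj_apply]
  rw [hκ', ← blk_perm, map_mul, map_mul, map_inv, map_pow permSU, map_pow D.f, map_pow D.ι, D.hcyc]

/-- A moved copy of the rank two map. -/
noncomputable def hom (π : alternatingGroup (Fin N)) (ρ : Perm (Fin 3)) : Cfsg.SU 3 F q →* G :=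
  ((MulAut.conj (D.ι π)).toMonoidHom.comp D.f).comp (blk ρ.toEmbedding)

theorem Φ_hom (π : alternatingGroup (Fin N)) (ρ : Perm (Fin 3)) (x : Cfsg.SU 3 F q) :
    D.Φ (D.hom π ρ x) = blk ((ρ.toEmbedding.trans D.w3).trans (π : Perm (Fin N)).toEmbedding) x := by
  show D.Φ (D.ι π * D.f (blk ρ.toEmbedding x) * (D.ι π)⁻¹) = _
  rw [map_mul, map_mul, map_inv, D.Φι, D.Φf, blk_blk, blk_perm]
  rfl

theorem hom_injective (π : alternatingGroup (Fin N)) (ρ : Perm (Fin 3)) : Function.Injective (D.hom π ρ) :=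
  fun a b e => blk_injective _ (by rw [← D.Φ_hom, ← D.Φ_hom, e])

theorem range_hom_blk (π : alternatingGroup (Fin N)) (ρ : Perm (Fin 3)) (κ : Fin 2 ↪ Fin 3) :
    ((D.hom π ρ).comp (blk κ)).range =
      D.UE (Set.range fun k => (π : Perm (Fin N)) (D.w3 (ρ (κ k)))) := by
  have e : (D.hom π ρ).comp (blk κ) =
      (MulAut.conj (D.ι π)).toMonoidHom.comp (D.f.comp (blk (κ.trans ρ.toEmbedding))) := by
    refine MonoidHom.ext fun x => ?_
    show _ * D.f (blk ρ.toEmbedding (blk κ x)) * _ = _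
    rw [blk_blk]; rfl
  rw [e, MonoidHom.range_comp, D.f_range]
  obtain ⟨σ, hσ⟩ : ∃ σ : alternatingGroup (Fin N),
      (σ : Perm (Fin N)) '' edge0 N = Set.range ((κ.trans ρ.toEmbedding).trans D.w3) := by
    set κ2 := (κ.trans ρ.toEmbedding).trans D.w3
    obtain ⟨σ, hσ⟩ := exists_even_extend (f := fun k => D.w3 (κ01 k)) (g := κ2)
      (D.w3.injective.comp κ01.injective) κ2.injective (show (0 : Fin 2) ≠ 1 by decide)
    refine ⟨σ, ?_⟩
    rw [D.edge0_w3, ← Set.range_comp, ← Set.range_comp]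
    rcases hσ with h | h
    · exact congrArg Set.range (funext h)
    · rw [show ((σ : Perm (Fin N)) ∘ (⇑D.w3 ∘ ⇑κ01)) = κ2 ∘ swap 0 1 from funext h]
      exact (swap (0 : Fin 2) 1).surjective.range_comp _
  rw [D.UE_conj π hσ, ← Set.range_comp]
  rfl

theorem exists_pair_move (D : Gl F q N G) {S : Set (Fin N)} (j : ℕ) (hj : j + 2 ≤ N)
    (hS : S = Set.range (win 2 j hj)) :
    ∃ π : alternatingGroup (Fin N), (π : Perm (Fin N)) '' edge0 N = S := by
  obtain ⟨π, hπ⟩ := exists_even_extend (f := fun k => win 2 0 (show 0 + 2 ≤ N by have := D.hN; omega) k)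
    (g := win 2 j hj) (win 2 0 (show 0 + 2 ≤ N by have := D.hN; omega)).injective (win 2 j hj).injective (show (0 : Fin 2) ≠ 1 by decide)
  refine ⟨π, ?_⟩
  rw [edge0, ← zero_add 1, ← win_range_four D.hN 0 (by have := D.hN; omega), ← Set.range_comp, hS]
  rcases hπ with h | h
  · exact congrArg Set.range (funext h)
  · rw [show ((π : Perm (Fin N)) ∘ ⇑(win 2 0 (show 0 + 2 ≤ N by have := D.hN; omega))) = win 2 j hj ∘ swap 0 1 from
      funext h]
    exact (swap (0 : Fin 2) 1).surjective.range_comp _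

theorem commute_far {i j : ℕ} (hij : i + 2 ≤ j) (hj : j + 2 ≤ N) {x y : G}
    (hx : x ∈ D.UE (Set.range (win 2 i (by omega) : Fin 2 ↪ Fin N))) (hy : y ∈ D.UE (Set.range (win 2 j hj))) :
    Commute x y := by
  obtain ⟨π₂, hπ₂, hc⟩ := D.comm
  let src : Fin 4 → Fin N := fun k => ⟨k, by have := D.hN; omega⟩
  let dst : Fin 4 → Fin N := fun k => if h : (k : ℕ) < 2 then ⟨i + k, by omega⟩ else ⟨j + ((k : ℕ) - 2), by omega⟩
  have hsrc : Function.Injective src := fun a b e => Fin.ext (congrArg Fin.val e :)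
  have hdst : Function.Injective dst := fun a b e => by
    have := congrArg Fin.val e
    simp only [dst] at this
    split_ifs at this <;> simp at this <;> exact Fin.ext (by omega)
  obtain ⟨σ, hσ⟩ := exists_even_extend hsrc hdst (show (0 : Fin 4) ≠ 1 by decide)
  have hswap : ∀ k : Fin 4, ((k : ℕ) < 2 ↔ (swap (0 : Fin 4) 1 k : ℕ) < 2) ∧
      (¬ (k : ℕ) < 2 → swap (0 : Fin 4) 1 k = k) := by decide
  have him : ∀ k : Fin 4, ((σ : Perm (Fin N)) (src k) : ℕ) ∈
      (if (k : ℕ) < 2 then ({i, i + 1} : Set ℕ) else {j, j + 1}) := by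
    intro k
    have hk := k.isLt
    rcases hσ with h | h <;> rw [h] <;> simp only [dst]
    · split_ifs with hlt <;> simp <;> omega
    · obtain ⟨s1, s2⟩ := hswap k
      by_cases hlt : (k : ℕ) < 2
      · rw [dif_pos (s1.1 hlt), if_pos hlt]; have := s1.1 hlt; simp; omega
      · rw [s2 hlt, dif_neg hlt, if_neg hlt]; simp; omega
  have heq : ∀ (S : Set (Fin N)) (l : ℕ) (hl : l + 2 ≤ N) (b : ℕ), b + 2 ≤ 4 →
      S = {x : Fin N | (x : ℕ) = b ∨ (x : ℕ) = b + 1} →
      (∀ k : Fin 4, b ≤ (k : ℕ) → (k : ℕ) < b + 2 → ((σ : Perm (Fin N)) (src k) : ℕ) ∈ ({l, l + 1} : Set ℕ)) →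
      (σ : Perm (Fin N)) '' S = Set.range (win 2 l hl) := by
    intro S l hl b hb hS hk
    refine Set.eq_of_subset_of_ncard_le ?_ ?_ (Set.toFinite _)
    · rintro _ ⟨x, hx, rfl⟩
      rw [hS] at hx
      have hx4 : (x : ℕ) < 4 := by rcases hx with h | h <;> omega
      have hkx := hk ⟨x, hx4⟩ (by rcases hx with h | h <;> simp <;> omega) (by rcases hx with h | h <;> simp <;> omega)
      rw [win_range_four D.hN]
      simp only [Set.mem_insert_iff, Set.mem_singleton_iff] at hkx
      exact hkx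
    · rw [Set.ncard_image_of_injective _ (σ : Perm (Fin N)).injective, hS,
        ← win_range_four D.hN b (by have := D.hN; omega),
        Set.ncard_range_of_injective (win 2 l hl).injective,
        Set.ncard_range_of_injective (win 2 b _).injective]
  have h01 : (σ : Perm (Fin N)) '' edge0 N = Set.range (win 2 i (by omega) : Fin 2 ↪ Fin N) :=
    heq _ i _ 0 (by norm_num) rfl fun k _ hk => by have := him k; rwa [if_pos (by omega)] at this
  have h23 : ((σ * π₂ : alternatingGroup (Fin N)) : Perm (Fin N)) '' edge0 N = Set.range (win 2 j hj) := by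
    rw [Subgroup.coe_mul, Perm.coe_mul, Set.image_comp, hπ₂]
    exact heq _ j hj 2 (by norm_num) rfl fun k hk _ => by have := him k; rwa [if_neg (by omega)] at this
  rw [D.UE_eq h01] at hx
  rw [D.UE_eq h23, D.U_mul] at hy
  obtain ⟨x', hx', rfl⟩ := hx
  obtain ⟨_, ⟨y', hy', rfl⟩, rfl⟩ := hy
  exact (hc x' hx' y' hy').map (MulAut.conj (D.ι σ)).toMonoidHom

theorem exists_equiv_U {S : Set (Fin N)} {π : alternatingGroup (Fin N)} (h : (π : Perm (Fin N)) '' edge0 N = S) :
    Nonempty (Cfsg.SU 2 F q ≃* D.UE S) := by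
  have e : D.UE S = ((D.hom π 1).comp (blk κ01)).range := by
    rw [D.range_hom_blk]
    congr 1
    rw [← h, D.edge0_w3, ← Set.range_comp, ← Set.range_comp]
    rfl
  rw [e]
  exact ⟨MonoidHom.ofInjective ((D.hom_injective π 1).comp (blk_injective _))⟩

/-- The glue suffices. -/
theorem bijective (hq : 3 ≤ q) (h4 : 4 ≤ q ∨ ∃ g : Cfsg.SU 4 F q →* G, ∀ S : Set (Fin N),
    (∃ π : alternatingGroup (Fin N), (π : Perm (Fin N)) '' edge0 N = S) → S ⊆ {x | (x : ℕ) < 4} → D.UE S ≤ g.range) :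
    Function.Bijective D.Φ := by
  obtain ⟨n, rfl⟩ : ∃ n, N = n + 1 := ⟨N - 1, by have := D.hN; omega⟩
  have hn : 3 ≤ n := by have := D.hN; omega
  let E : ℕ → Subgroup G := fun i =>
    if h : i + 2 ≤ n + 1 then D.UE (Set.range (win 2 i h : Fin 2 ↪ Fin (n + 1))) else ⊥
  have hE : ∀ i (h : i + 2 ≤ n + 1), E i = D.UE (Set.range (win 2 i h : Fin 2 ↪ Fin (n + 1))) := fun i h =>
    dif_pos h
  have hfr : ∀ i, i + 3 ≤ n + 1 → ∃ (π : alternatingGroup (Fin (n + 1))) (ρ : Perm (Fin 3)),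
      ∀ k : Fin 3, ((π : Perm (Fin (n + 1))) (D.w3 (ρ k)) : ℕ) = i + k := by
    intro i hi
    obtain ⟨π, ρ, h⟩ := exists_frame3 D.hN (a := ⟨i, by omega⟩) (b := ⟨i + 1, by omega⟩) (c := ⟨i + 2, by omega⟩)
      (by simp [Fin.ext_iff]) (by simp [Fin.ext_iff]) (by simp [Fin.ext_iff])
    refine ⟨π, ρ, fun k => ?_⟩
    rw [w3, h k]
    fin_cases k <;> rfl
  choose πs ρs hπs using hfr
  have hV : ∀ i (hi : i + 3 ≤ n + 1),
      ((D.hom (πs i hi) (ρs i hi)).comp (blk κ01)).range = E i ∧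
        ((D.hom (πs i hi) (ρs i hi)).comp (blk κ12)).range = E (i + 1) := by
    intro i hi
    rw [D.range_hom_blk, D.range_hom_blk, hE i (by omega), hE (i + 1) (by omega)]
    constructor <;> congr 1 <;> congr 1 <;> funext k <;> refine Fin.ext ((hπs i hi _).trans ?_)
    · show i + (k : ℕ) = i + k
      rfl
    · show i + ((k : ℕ) + 1) = i + 1 + k
      omega
  let V : Fin n → Fin n → Subgroup G := fun i _ =>
    if h : (i : ℕ) + 3 ≤ n + 1 then (D.hom (πs i h) (ρs i h)).range else ⊥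
  have hmove : ∀ i (hi : i + 2 ≤ n + 1), ∃ π : alternatingGroup (Fin (n + 1)),
      (π : Perm (Fin (n + 1))) '' edge0 (n + 1) = Set.range (win 2 i hi : Fin 2 ↪ Fin (n + 1)) :=
    fun i hi => D.exists_pair_move i hi rfl
  have heq : ∀ i : Fin n, Nonempty (Cfsg.SU 2 F q ≃* E i) := fun i => by
    obtain ⟨π, hπ⟩ := hmove i (by omega)
    rw [hE i (by omega)]
    exact D.exists_equiv_U hπ
  have hgen : (⨆ i : Fin n, E i) ⊔ (⨆ (i : Fin n) (j : Fin n) (_ : (i : ℕ) + 1 = j), V i j) = ⊤ := by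
    set H := (⨆ i : Fin n, E i) ⊔ (⨆ (i : Fin n) (j : Fin n) (_ : (i : ℕ) + 1 = j), V i j) with hH
    have hEH : ∀ i, i < n → E i ≤ H := fun i hi =>
      (le_iSup (fun i : Fin n => E i) ⟨i, hi⟩).trans le_sup_left
    have hfH : D.f.range ≤ H := by
      refine range_le_of_blocks hq (by norm_num) D.f fun j hj => ?_
      rw [D.f_range]
      refine le_trans (le_of_eq ?_) (hEH j (by omega))
      rw [hE j (by omega)]
      congr 2
      rw [w3, win_trans]
      simp
    have hVH : ∀ i (hi : i + 3 ≤ n + 1), (D.hom (πs i hi) (ρs i hi)).range ≤ H := by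
      intro i hi
      refine le_trans ?_ le_sup_right
      have e : (D.hom (πs i hi) (ρs i hi)).range = V ⟨i, by omega⟩ ⟨i + 1, by omega⟩ := by
        simp only [V]
        rw [dif_pos hi]
      rw [e]
      exact le_iSup_of_le ⟨i, by omega⟩ (le_iSup_of_le ⟨i + 1, by omega⟩ (le_iSup_of_le rfl le_rfl))
    have hK : H.comap D.ι = ⊤ := by
      refine closure_consecutive (by omega) _ fun i hi => ?_
      set π := πs i hi
      set c := cycN (show 3 ≤ n + 1 by omega)
      refine ⟨π * c * π⁻¹, ?_, ?_, ?_⟩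
      · rw [Subgroup.mem_comap, map_mul, map_mul, map_inv, D.hcyc]
        obtain ⟨x, hx⟩ := blk_equiv_surjective (F := F) (q := q) (ρs i hi) (permSU cyc3)
        exact hVH i hi ⟨x, by rw [← hx]; rfl⟩
      · intro x hx
        show (π : Perm (Fin (n + 1))) ((c : Perm (Fin (n + 1))) (((π : Perm (Fin (n + 1)))⁻¹ : Perm _) x)) = x
        rw [cycN_other, Perm.inv_def, Equiv.apply_symm_apply]
        by_contra hc
        set y := ((π : Perm (Fin (n + 1)))⁻¹ : Perm _) x
        obtain ⟨k, hk⟩ : ∃ k : Fin 3, D.w3 (ρs i hi k) = y := by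
          obtain ⟨k, hk⟩ := (ρs i hi).surjective ⟨y, by omega⟩
          exact ⟨k, Fin.ext (by rw [hk]; show 0 + (y : ℕ) = y; omega)⟩
        have h' := hπs i hi k
        rw [hk, show (π : Perm (Fin (n + 1))) y = x by simp [y]] at h'
        have := k.isLt
        omega
      · intro x hx1 hx2 e
        change (π : Perm (Fin (n + 1))) ((c : Perm (Fin (n + 1))) (((π : Perm (Fin (n + 1)))⁻¹ : Perm _) x)) = x at e
        set y := ((π : Perm (Fin (n + 1)))⁻¹ : Perm _) x with hy
        have hy' : y = D.w3 (ρs i hi ⟨(x : ℕ) - i, by omega⟩) := (π : Perm (Fin (n + 1))).injective (by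
          refine Fin.ext ?_
          rw [hπs i hi, show (π : Perm (Fin (n + 1))) y = x by simp [y]]
          show (x : ℕ) = i + ((x : ℕ) - i)
          omega)
        have e' : (c : Perm (Fin (n + 1))) y = y := (π : Perm (Fin (n + 1))).injective (by
          rw [e]; simp [y])
        rw [hy', D.w3_cyc] at e'
        exact (show ∀ z : Fin 3, (cyc3 : Perm (Fin 3)) z ≠ z by decide) _ (D.w3.injective e')
    rw [eq_top_iff, ← D.gen, Subgroup.closure_le]
    rintro x (⟨π, rfl⟩ | ⟨y, rfl⟩)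
    · exact (hK ▸ Subgroup.mem_top π : π ∈ H.comap D.ι)
    · exact hfH ⟨y, rfl⟩
  obtain ⟨Ψ, hΨ⟩ := recog (G := G) hq n hn (fun i : Fin n => E i) (fun i => (heq i).some) V
    (fun i j hij x hx y hy => by
      rw [hE i (by omega)] at hx
      rw [hE j (by omega)] at hy
      exact (D.commute_far hij (by omega) hx hy).eq)
    (fun i j hij => by
      have hi : (i : ℕ) + 3 ≤ n + 1 := by omega
      obtain ⟨h01, h12⟩ := hV i hi
      simp only [V]
      rw [dif_pos hi, ← hij, ← h01, ← h12]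
      refine Or.inl ⟨MonoidHom.ofInjective (D.hom_injective _ _), ?_, ?_⟩
      · rw [suBlock_eq_range κ01 _ range_κ01, MonoidHom.map_range]; rfl
      · rw [suBlock_eq_range κ12 _ range_κ12, MonoidHom.map_range]; rfl)
    hgen
    (h4.elim Or.inl fun ⟨g, hg⟩ => by
      by_cases hq3 : q = 3
      · subst hq3
        refine Or.inr fun U' f' hU' hf' i hi => ?_
        obtain ⟨σ, hσ⟩ := exists_even_extend (f := win 4 0 (show 0 + 4 ≤ n + 1 by omega))
          (g := win 4 i (show i + 4 ≤ n + 1 by omega)) (win 4 0 (show 0 + 4 ≤ n + 1 by omega)).injective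
          (win 4 i (show i + 4 ≤ n + 1 by omega)).injective
          (show (0 : Fin 4) ≠ 1 by decide)
        let g' := (MulAut.conj (D.ι σ)).toMonoidHom.comp g
        have hback : ∀ k : Fin 4, ∃ k' : Fin 4,
            (σ : Perm (Fin (n + 1))) (win 4 0 (show 0 + 4 ≤ n + 1 by omega) k') = win 4 i (show i + 4 ≤ n + 1 by omega) k := by
          intro k
          rcases hσ with h | h
          · exact ⟨k, h k⟩
          · exact ⟨swap 0 1 k, by rw [h, swap_apply_self]⟩
        have hle : ∀ j (hj : i + j + 2 ≤ n + 1), j + 2 ≤ 4 → U' (i + j) ≤ g'.range := by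
          intro j hj hj4
          rw [hU' (i + j) (by omega), hE (i + j) hj]
          obtain ⟨τ, hτ⟩ := hmove (i + j) hj
          set T := Set.range (win 2 (i + j) hj : Fin 2 ↪ Fin (n + 1))
          have hτ' : ((σ⁻¹ * τ : alternatingGroup (Fin (n + 1))) : Perm (Fin (n + 1))) '' edge0 (n + 1) =
              ((σ : Perm (Fin (n + 1)))⁻¹ : Perm (Fin (n + 1))) '' T := by
            rw [Subgroup.coe_mul, Subgroup.coe_inv, Perm.coe_mul, Set.image_comp, hτ]
          have hsub : ((σ : Perm (Fin (n + 1)))⁻¹ : Perm (Fin (n + 1))) '' T ⊆ {x | (x : ℕ) < 4} := by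
            rintro _ ⟨_, ⟨a, rfl⟩, rfl⟩
            obtain ⟨k', hk'⟩ := hback ⟨j + (a : ℕ), by omega⟩
            have e : win 2 (i + j) hj a = win 4 i (show i + 4 ≤ n + 1 by omega) ⟨j + (a : ℕ), by omega⟩ :=
              Fin.ext (show i + j + (a : ℕ) = i + (j + a) by omega)
            rw [e, ← hk']
            show (((σ : Perm (Fin (n + 1)))⁻¹ : Perm _) ((σ : Perm (Fin (n + 1))) _) : ℕ) < 4
            rw [Perm.inv_def, Equiv.symm_apply_apply]
            have := k'.isLt
            show 0 + (k' : ℕ) < 4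
            omega
          have e := D.UE_conj σ hτ'
          rw [← Set.image_comp, show ((σ : Perm (Fin (n + 1))) ∘ ((σ : Perm (Fin (n + 1)))⁻¹ : Perm _)) = id from
            funext fun x => by simp, Set.image_id] at e
          rw [← e, MonoidHom.range_comp]
          exact Subgroup.map_mono (hg _ ⟨_, hτ'⟩ hsub)
        obtain ⟨Φ4, hΦ0, hΦ1⟩ := base_nine (hf'.edge i (by omega)) (hf'.edge (i + 1) (by omega))
          (hf'.agree i (by omega)) (fun a ha b hb => by
            rw [hU' i (by omega), hE i (by omega)] at ha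
            rw [hU' (i + 1 + 1) (by omega), hE (i + 1 + 1) (by omega)] at hb
            exact D.commute_far (by omega) (by omega) ha hb) g'
          (hle 0 (by omega) (by omega)) (hle 1 (by omega) (by omega)) (hle 2 (by omega) (by omega))
        refine ⟨Φ4, fun j hj => ?_⟩
        rcases (show j = 0 ∨ j = 1 by omega) with rfl | rfl
        · exact hΦ0
        · exact hΦ1
      · exact Or.inl (by omega))
  have hsurj : Function.Surjective D.Φ := by
    rw [← MonoidHom.range_eq_top, eq_top_iff]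
    have h := range_le_of_blocks hq (by omega) (MonoidHom.id (Cfsg.SU (n + 1) F q)) (S := D.Φ.range) fun j hj => by
      obtain ⟨π, hπ⟩ := hmove j hj
      rw [MonoidHom.id_comp]
      have e : (blk (F := F) (q := q) (win 2 j hj : Fin 2 ↪ Fin (n + 1))).range =
          (blk ((κ01.trans D.w3).trans (π : Perm (Fin (n + 1))).toEmbedding)).range := blk_range_eq (by
        rw [← hπ, D.edge0_w3, ← Set.range_comp, ← Set.range_comp]; rfl)
      rw [e]
      rintro _ ⟨x, rfl⟩
      refine ⟨D.ι π * D.f (blk κ01 x) * (D.ι π)⁻¹, ?_⟩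
      rw [map_mul, map_mul, map_inv, D.Φι, D.Φf, blk_blk, blk_perm]
      rfl
    intro x _
    exact h ⟨x, rfl⟩
  have hb : Function.Bijective (D.Φ ∘ Ψ) := Finite.surjective_iff_bijective.mp (hsurj.comp hΨ)
  have hΨb : Function.Bijective Ψ := ⟨hb.1.of_comp, hΨ⟩
  exact ⟨fun a b e => by
    obtain ⟨a, rfl⟩ := hΨ a
    obtain ⟨b, rfl⟩ := hΨ b
    rw [hb.1 e], hsurj⟩

end Gl

end Cfsg.Lib.SUPres
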