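import Cfsg.Agent.Known.SLnPres.Wrap

/-! # Presentations from two subgroups with presentations and mixed words -/

set_option autoImplicit false
set_option linter.unusedSectionVars false
set_option linter.unusedSimpArgs false

namespace Cfsg.Lib.SUPres

open Cfsg.Lib.SLnPres (PresN)

universe u

/-- The value of a mixed word. -/
def evalW {A B G : Type*} [Group G] (ι : A → G) (f : B → G) (w : List (A ⊕ B)) : G := (w.map (Sum.elim ι f)).prod

theorem map_evalW {A B G H : Type*} [Group G] [Group H] (φ : G →* H) (ι : A → G) (f : B → G) (w : List (A ⊕ B)) :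
    φ (evalW ι f w) = evalW (φ ∘ ι) (φ ∘ f) w := by
  rw [evalW, evalW, map_list_prod, List.map_map]
  congr 1
  exact List.map_congr_left fun x _ => by cases x <;> rfl

theorem lift_map_eq {α β : Type*} {G : Type*} [Group G] (g : β → G) (j : α → β) (x : FreeGroup α) :
    FreeGroup.lift g (FreeGroup.map j x) = FreeGroup.lift (g ∘ j) x :=
  DFunLike.congr_fun (show (FreeGroup.lift g).comp (FreeGroup.map j) = FreeGroup.lift (g ∘ j) by ext i; simp) x

theorem presN_of_words {A B T : Type*} [Group A] [Group B] [Group T] {rA rB : ℕ} (hA : PresN A 3 rA)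
    (hB : PresN B 3 rB) (ιT : A →* T) (fT : B →* T) (L : List (List (A ⊕ B)))
    (hL : ∀ w ∈ L, evalW ιT fT w = 1)
    (hsuff : ∀ (G : Type) [Group G] (ι : A →* G) (f : B →* G) (Φ : G →* T), Φ.comp ι = ιT → Φ.comp f = fT →
      Subgroup.closure (Set.range ι ∪ Set.range f) = ⊤ → (∀ w ∈ L, evalW ι f w = 1) → Function.Bijective Φ) :
    PresN T 6 (rA + rB + L.length) := by
  classical
  obtain ⟨RA, hRA, ⟨eA⟩⟩ := hA
  obtain ⟨RB, hRB, ⟨eB⟩⟩ := hB
  choose wA hwA using fun a : A => PresentedGroup.mk_surjective (↑RA : Set (FreeGroup (Fin 3))) (eA.symm a)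
  choose wB hwB using fun b : B => PresentedGroup.mk_surjective (↑RB : Set (FreeGroup (Fin 3))) (eB.symm b)
  let jA : Fin 3 → Fin 6 := Fin.castAdd 3
  let jB : Fin 3 → Fin 6 := Fin.natAdd 3
  let wm : List (A ⊕ B) → FreeGroup (Fin 6) :=
    evalW (fun a => FreeGroup.map jA (wA a)) (fun b => FreeGroup.map jB (wB b))
  let R : Finset (FreeGroup (Fin 6)) :=
    RA.image (FreeGroup.map jA) ∪ RB.image (FreeGroup.map jB) ∪ (L.map wm).toFinset
  let gT : Fin 6 → T := Fin.append (fun i : Fin 3 => ιT (eA (PresentedGroup.of i)))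
    fun i : Fin 3 => fT (eB (PresentedGroup.of i))
  have hA' : ∀ x, FreeGroup.lift gT (FreeGroup.map jA x) = ιT (eA (PresentedGroup.mk _ x)) := fun x =>
    DFunLike.congr_fun (show (FreeGroup.lift gT).comp (FreeGroup.map jA) =
      (ιT.comp eA.toMonoidHom).comp (PresentedGroup.mk _) by
        ext i; simp [gT, jA]; rfl) x
  have hB' : ∀ x, FreeGroup.lift gT (FreeGroup.map jB x) = fT (eB (PresentedGroup.mk _ x)) := fun x =>
    DFunLike.congr_fun (show (FreeGroup.lift gT).comp (FreeGroup.map jB) =
      (fT.comp eB.toMonoidHom).comp (PresentedGroup.mk _) by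
        ext i
        simp only [MonoidHom.comp_apply, FreeGroup.map.of, FreeGroup.lift_apply_of]
        exact Fin.append_right _ _ i) x
  have hR : ∀ r ∈ (↑R : Set (FreeGroup (Fin 6))), FreeGroup.lift gT r = 1 := by
    intro r hr
    simp only [R, Finset.mem_coe, Finset.mem_union, Finset.mem_image, List.mem_toFinset, List.mem_map] at hr
    rcases hr with (⟨x, hx, rfl⟩ | ⟨x, hx, rfl⟩) | ⟨w, hw, rfl⟩
    · rw [hA', PresentedGroup.one_of_mem (rels := (↑RA : Set (FreeGroup (Fin 3)))) hx, map_one, map_one]
    · rw [hB', PresentedGroup.one_of_mem (rels := (↑RB : Set (FreeGroup (Fin 3)))) hx, map_one, map_one]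
    · rw [← hL w hw]
      simp only [wm, map_evalW]
      congr 1
      · funext a
        simp only [Function.comp_apply, hA', hwA, MulEquiv.apply_symm_apply]
      · funext b
        simp only [Function.comp_apply, hB', hwB, MulEquiv.apply_symm_apply]
  let Φ : PresentedGroup (↑R : Set (FreeGroup (Fin 6))) →* T := PresentedGroup.toGroup (f := gT) hR
  let gG : Fin 6 → PresentedGroup (↑R : Set (FreeGroup (Fin 6))) := PresentedGroup.of
  have hmk : ∀ x, FreeGroup.lift gG x = PresentedGroup.mk _ x := fun x => DFunLike.congr_fun (SLnPres.lift_eq_mk _) x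
  have hone : ∀ x ∈ R, FreeGroup.lift gG x = 1 := fun x hx => by
    rw [hmk]; exact PresentedGroup.one_of_mem hx
  let iA : PresentedGroup (↑RA : Set (FreeGroup (Fin 3))) →* PresentedGroup (↑R : Set (FreeGroup (Fin 6))) :=
    PresentedGroup.toGroup (f := gG ∘ jA) fun x hx => by
      rw [← lift_map_eq]
      exact hone _ (Finset.mem_union_left _ (Finset.mem_union_left _ (Finset.mem_image_of_mem _ hx)))
  let iB : PresentedGroup (↑RB : Set (FreeGroup (Fin 3))) →* PresentedGroup (↑R : Set (FreeGroup (Fin 6))) :=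
    PresentedGroup.toGroup (f := gG ∘ jB) fun x hx => by
      rw [← lift_map_eq]
      exact hone _ (Finset.mem_union_left _ (Finset.mem_union_right _ (Finset.mem_image_of_mem _ hx)))
  have hiA : ∀ x, iA (PresentedGroup.mk _ x) = FreeGroup.lift gG (FreeGroup.map jA x) := fun x => by
    rw [lift_map_eq]
    exact DFunLike.congr_fun (show iA.comp (PresentedGroup.mk _) = FreeGroup.lift (gG ∘ jA) by
      refine FreeGroup.ext_hom _ _ fun i => ?_
      rw [FreeGroup.lift_apply_of, MonoidHom.comp_apply]
      show iA (PresentedGroup.of i) = _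
      exact PresentedGroup.toGroup.of _) x
  have hiB : ∀ x, iB (PresentedGroup.mk _ x) = FreeGroup.lift gG (FreeGroup.map jB x) := fun x => by
    rw [lift_map_eq]
    exact DFunLike.congr_fun (show iB.comp (PresentedGroup.mk _) = FreeGroup.lift (gG ∘ jB) by
      refine FreeGroup.ext_hom _ _ fun i => ?_
      rw [FreeGroup.lift_apply_of, MonoidHom.comp_apply]
      show iB (PresentedGroup.of i) = _
      exact PresentedGroup.toGroup.of _) x
  let ι : A →* PresentedGroup (↑R : Set (FreeGroup (Fin 6))) := iA.comp eA.symm.toMonoidHom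
  let f : B →* PresentedGroup (↑R : Set (FreeGroup (Fin 6))) := iB.comp eB.symm.toMonoidHom
  have hι : ∀ a, ι a = FreeGroup.lift gG (FreeGroup.map jA (wA a)) := fun a => by
    rw [← hiA, hwA]; rfl
  have hf : ∀ b, f b = FreeGroup.lift gG (FreeGroup.map jB (wB b)) := fun b => by
    rw [← hiB, hwB]; rfl
  have hΦ : ∀ x, Φ (FreeGroup.lift gG x) = FreeGroup.lift gT x := fun x => by
    rw [hmk]; rfl
  have hbij := hsuff _ ι f Φ
    (MonoidHom.ext fun a => by rw [MonoidHom.comp_apply, hι, hΦ, hA', hwA, MulEquiv.apply_symm_apply])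
    (MonoidHom.ext fun b => by rw [MonoidHom.comp_apply, hf, hΦ, hB', hwB, MulEquiv.apply_symm_apply])
    (by
      rw [eq_top_iff, ← PresentedGroup.closure_range_of (↑R : Set (FreeGroup (Fin 6))), Subgroup.closure_le]
      rintro _ ⟨i, rfl⟩
      refine Fin.addCases (m := 3) (n := 3) (motive := fun i => (PresentedGroup.of i : PresentedGroup (↑R : Set (FreeGroup (Fin 6)))) ∈ Subgroup.closure (Set.range ι ∪ Set.range f))
        (fun j => ?_) (fun j => ?_) i
      · refine Subgroup.subset_closure (Or.inl ⟨eA (PresentedGroup.of j), ?_⟩)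
        show iA (eA.symm (eA (PresentedGroup.of j))) = _
        rw [MulEquiv.symm_apply_apply]
        exact PresentedGroup.toGroup.of _
      · refine Subgroup.subset_closure (Or.inr ⟨eB (PresentedGroup.of j), ?_⟩)
        show iB (eB.symm (eB (PresentedGroup.of j))) = _
        rw [MulEquiv.symm_apply_apply]
        exact PresentedGroup.toGroup.of _)
    (fun w hw => by
      have e := hone (wm w) (Finset.mem_union_right _ (List.mem_toFinset.2 (List.mem_map_of_mem hw)))
      simp only [wm, map_evalW] at e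
      rw [← e]
      congr 1
      · exact funext hι
      · exact funext hf)
  refine ⟨R, ?_, ⟨MulEquiv.ofBijective Φ hbij⟩⟩
  refine (Finset.card_union_le _ _).trans (add_le_add ((Finset.card_union_le _ _).trans
    (add_le_add (Finset.card_image_le.trans hRA) (Finset.card_image_le.trans hRB))) ?_)
  exact (List.toFinset_card_le _).trans (by rw [List.length_map])

end Cfsg.Lib.SUPres
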