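import Cfsg.Agent.Pres.SU.TwoMat
import Cfsg.Agent.Pres.SU.FourCheck
import Cfsg.Agent.Known.AltPres.Transfer
import Cfsg.Agent.S0280
import Cfsg.Agent.Classical.Unitary.Matrix

/-! # The special unitary group of degree four over four elements on two generators with five relations -/

set_option autoImplicit false
set_option maxHeartbeats 1000000
set_option maxRecDepth 100000
set_option linter.unusedSectionVars false
set_option linter.unusedSimpArgs false
set_option linter.unusedVariables false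
set_option linter.style.haveILetI false

namespace Cfsg.Lib.SUPres.Two

open Equiv
open Cfsg.Lib.Known.Phan
open Cfsg.Lib.CosetTable (wval)

/-- The first generator. -/
def A4m : Matrix (Fin 4) (Fin 4) K4 := !![0, 0, 0, 1; 0, 1, 0, 0; 0, 0, 1, 0; 1, 0, 0, 0]
/-- The second generator. -/
def B4m : Matrix (Fin 4) (Fin 4) K4 :=
  !![0, 0, 0, om; 1, om, 1, 0; om, om, om2, 0; 1, om2, om2, 0]

/-- The involution. -/
def a4 : Cfsg.SU 4 K4 2 := ofMat A4m (by decide +kernel) (by decide +kernel)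
/-- The element of order five. -/
def b4 : Cfsg.SU 4 K4 2 := ofMat B4m (by decide +kernel) (by decide +kernel)

/-- The generators of the rank one group. -/
def a2 : Cfsg.SU 2 K4 2 := ofMat !![om, 0; 0, om2] (by decide +kernel) (by decide +kernel)
/-- The generators of the rank one group. -/
def b2 : Cfsg.SU 2 K4 2 := ofMat !![0, 1; 1, 0] (by decide +kernel) (by decide +kernel)

/-- The generators of the rank two group. -/
def v1 : Cfsg.SU 3 K4 2 := ofMat !![1, 1, 1; 1, om, om2; 1, om2, om] (by decide +kernel) (by decide +kernel)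
/-- The generators of the rank two group. -/
def v2 : Cfsg.SU 3 K4 2 := ofMat !![1, 1, om2; 1, om, om; om, 1, om] (by decide +kernel) (by decide +kernel)

/-- The first three of four coordinates. -/
def w34 : Fin 3 ↪ Fin 4 := Fin.castLEEmb (by norm_num)

theorem gen_two {S : Subgroup (Cfsg.SU 2 K4 2)} (ha : a2 ∈ S) (hb : b2 ∈ S) : S = ⊤ := by
  refine eq_top_iff.2 fun g _ => ?_
  let im : ℕ → Cfsg.SU 2 K4 2 := fun l => if l = 0 then a2 else b2
  let M : ℕ → Matrix (Fin 2) (Fin 2) K4 := fun l => if l = 0 then !![om, 0; 0, om2] else !![0, 1; 1, 0]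
  have hM : ∀ l, mat (im l) = M l := fun l => by by_cases h : l = 0 <;> simp only [im, M, h, if_true, if_false] <;> rfl
  have key : ∀ a b : K4, a * a ^ 2 + b * b ^ 2 = 1 →
      ∃ w ∈ ([[], [0], [0, 0], [0, 1], [1], [1, 0]] : List (List ℕ)),
        (w.map M).prod 0 0 = a ∧ (w.map M).prod 1 0 = b := by decide +kernel
  obtain ⟨w, -, h0, h1⟩ := key (mat g 0 0) (mat g 1 0) (by have := su2_norm g; rwa [cb_eq, cb_eq] at this)
  have hg : wval im w = g := su2_ext (by rw [mat_wval w fun l _ => hM l, h0])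
    (by rw [mat_wval w fun l _ => hM l, h1])
  rw [← hg]
  refine S.list_prod_mem fun x hx => ?_
  obtain ⟨l, -, rfl⟩ := List.mem_map.1 hx
  by_cases h : l = 0 <;> simp only [im, h, if_true, if_false]
  exacts [ha, hb]

/-- Words reaching every unit vector from the first coordinate vector. -/
def colWords : List (List ℕ) :=
  [[], [0], [1], [0, 1], [1, 0], [0, 0, 1], [0, 1, 0], [1, 0, 1], [1, 1, 0], [0, 0, 0, 1], [0, 1, 0, 1],
    [0, 1, 1, 0], [1, 0, 0, 1], [1, 0, 1, 0], [1, 1, 0, 1], [1, 1, 1, 0], [0, 0, 1, 1, 0], [0, 1, 0, 0, 1],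
    [0, 1, 0, 1, 0], [0, 1, 1, 0, 1], [0, 1, 1, 1, 0], [1, 0, 0, 0, 1], [1, 0, 1, 0, 1], [1, 1, 0, 0, 1],
    [1, 1, 0, 1, 0], [1, 1, 1, 0, 1], [0, 0, 0, 1, 1, 0], [0, 0, 1, 0, 0, 1], [0, 0, 1, 0, 1, 0],
    [0, 0, 1, 1, 1, 0], [0, 1, 0, 1, 0, 1], [0, 1, 1, 0, 0, 1], [0, 1, 1, 0, 1, 0], [0, 0, 0, 1, 1, 1, 0],
    [1, 0, 1, 0, 1, 0, 1], [0, 1, 0, 1, 0, 1, 0, 1]]

theorem gen_three_two {S : Subgroup (Cfsg.SU 3 K4 2)} (h1 : v1 ∈ S) (h2 : v2 ∈ S) : S = ⊤ := by
  refine eq_top_iff.2 fun g _ => ?_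
  let im : ℕ → Cfsg.SU 3 K4 2 := fun l => if l = 0 then v1 else v2
  let M : ℕ → Matrix (Fin 3) (Fin 3) K4 := fun l =>
    if l = 0 then !![1, 1, 1; 1, om, om2; 1, om2, om] else !![1, 1, om2; 1, om, om; om, 1, om]
  have hM : ∀ l, mat (im l) = M l := fun l => by by_cases h : l = 0 <;> simp only [im, M, h, if_true, if_false] <;> rfl
  have hS : ∀ w, wval im w ∈ S := fun w => S.list_prod_mem fun x hx => by
    obtain ⟨l, -, rfl⟩ := List.mem_map.1 hx
    by_cases h : l = 0 <;> simp only [im, h, if_true, if_false]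
    exacts [h1, h2]
  have h12 : (blk κ12).range ≤ S := by
    have ea : blk κ12 a2 = wval im [0, 0, 1, 1] := by
      refine mat_ext' ?_
      rw [mat_blk, mat_wval _ fun l _ => hM l]
      change pat κ12 !![om, 0; 0, om2] = _
      decide +kernel
    have eb : blk κ12 b2 = wval im [0, 0] := by
      refine mat_ext' ?_
      rw [mat_blk, mat_wval _ fun l _ => hM l]
      change pat κ12 !![0, 1; 1, 0] = _
      decide +kernel
    have := gen_two (S := S.comap (blk κ12)) (by show blk κ12 a2 ∈ S; rw [ea]; exact hS _)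
      (by show blk κ12 b2 ∈ S; rw [eb]; exact hS _)
    rintro _ ⟨x, rfl⟩
    exact (this ▸ Subgroup.mem_top x : x ∈ S.comap (blk κ12))
  have key : ∀ a b c : K4, a * a ^ 2 + b * b ^ 2 + c * c ^ 2 = 1 → ∃ w ∈ colWords,
      (w.map M).prod 0 0 = a ∧ (w.map M).prod 1 0 = b ∧ (w.map M).prod 2 0 = c := by decide +kernel
  have hn : mat g 0 0 * (mat g 0 0) ^ 2 + mat g 1 0 * (mat g 1 0) ^ 2 + mat g 2 0 * (mat g 2 0) ^ 2 = 1 := by
    have := isUnit1_act g (isUnit1_ev (q := 2) (0 : Fin 3))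
    rw [IsUnit1, hs_h, Fin.sum_univ_three] at this
    simp only [cb_eq, act, ev, Matrix.mulVec_single_one] at this
    exact this
  obtain ⟨w, -, e0, e1, e2⟩ := key _ _ _ hn
  have hcol : act (wval im w) (ev 0) = act g (ev 0) := by
    funext i
    rw [← mat_eq_act, ← mat_eq_act, mat_wval w fun l _ => hM l]
    fin_cases i
    exacts [e0, e1, e2]
  obtain ⟨y, hy⟩ := exists_blk κ12 (g := (wval im w)⁻¹ * g) fun j hj => by
    have hj0 : j = 0 := by fin_cases j <;> simp_all [range_κ12]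
    rw [hj0, act_mul, ← hcol, act_inv_act]
  have hr : (wval im w)⁻¹ * g ∈ S := h12 ⟨y, hy⟩
  simpa using mul_mem (hS w) hr

theorem gen_four {S : Subgroup (Cfsg.SU 4 K4 2)} (ha : a4 ∈ S) (hb : b4 ∈ S) : S = ⊤ := by
  let im : ℕ → Cfsg.SU 4 K4 2 := fun l => if l = 0 then a4 else b4
  let M : ℕ → Matrix (Fin 4) (Fin 4) K4 := fun l => if l = 0 then A4m else B4m
  have hM : ∀ l, mat (im l) = M l := fun l => by by_cases h : l = 0 <;> simp only [im, M, h, if_true, if_false] <;> rfl
  have hS : ∀ w, wval im w ∈ S := fun w => S.list_prod_mem fun x hx => by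
    obtain ⟨l, -, rfl⟩ := List.mem_map.1 hx
    by_cases h : l = 0 <;> simp only [im, h, if_true, if_false]
    exacts [ha, hb]
  have e1 : blk w34 v1 = wval im [0, 1, 1, 1, 1, 0, 1, 1, 0, 1, 0, 1, 0, 1, 1, 1, 0, 1, 1, 1, 1] := by
    refine mat_ext' ?_
    rw [mat_blk, mat_wval _ fun l _ => hM l]
    change pat w34 !![1, 1, 1; 1, om, om2; 1, om2, om] = _
    decide +kernel
  have e2 : blk w34 v2 = wval im [0, 1, 1, 0, 1, 1, 1, 0, 1, 1, 1, 0, 1, 0] := by
    refine mat_ext' ?_
    rw [mat_blk, mat_wval _ fun l _ => hM l]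
    change pat w34 !![1, 1, om2; 1, om, om; om, 1, om] = _
    decide +kernel
  let π : alternatingGroup (Fin 4) := ⟨swap 0 3 * swap 1 2, Perm.mem_alternatingGroup.2 (by decide)⟩
  have e3 : permSU π = wval im [0, 1, 1, 1, 0, 1, 1, 0, 1, 1, 0, 1, 1, 0, 1, 1, 0, 1, 1, 0, 1, 1, 1, 1] := by
    refine mat_ext' ?_
    rw [mat_permSU, mat_wval _ fun l _ => hM l]
    decide +kernel
  have h3 : (blk w34).range ≤ S := by
    have := gen_three_two (S := S.comap (blk w34)) (by show blk w34 v1 ∈ S; rw [e1]; exact hS _)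
      (by show blk w34 v2 ∈ S; rw [e2]; exact hS _)
    rintro _ ⟨x, rfl⟩
    exact (this ▸ Subgroup.mem_top x : x ∈ S.comap (blk w34))
  refine gen_windows 4 S (by norm_num) fun j hj => ?_
  rcases (show j = 0 ∨ j = 1 by omega) with rfl | rfl
  · rw [show win 3 0 hj = w34 by ext i : 1; decide +revert]
    exact h3
  · rw [blk_range_eq (κ' := w34.trans (π : Perm (Fin 4)).toEmbedding) (by
      ext x
      simp only [Set.mem_range]
      have key : ∀ x : Fin 4, (∃ y, win 3 1 (show 1 + 3 ≤ 4 by norm_num) y = x) ↔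
          ∃ y : Fin 3, (swap 0 3 * swap 1 2 : Perm (Fin 4)) (w34 y) = x := by decide
      exact key x)]
    rintro _ ⟨x, rfl⟩
    rw [← blk_perm]
    have hπ : permSU π ∈ S := by rw [e3]; exact hS _
    exact mul_mem (mul_mem hπ (h3 ⟨x, rfl⟩)) (inv_mem hπ)

theorem card_four_two : Nat.card (Cfsg.SU 4 K4 2) = 25920 := by
  rw [Subgroup.card_eq_card_quotient_mul_card_subgroup (Subgroup.center (Cfsg.SU 4 K4 2)),
    Cfsg.Lib.Classical.card_center_SU (F := K4) (q := 2) card_K4 (by norm_num)]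
  have h := Cfsg.Agent.S0280.result (F := K4) (q := 2) card_K4 4 (by norm_num)
  norm_num [Finset.prod_range_succ, Nat.even_add_one] at h ⊢
  show Nat.card (Cfsg.PSU 4 K4 2) = _
  omega

/-- The images of the letters. -/
def g4 (l : ℕ) : Cfsg.SU 4 K4 2 := if l = 0 then a4 else b4

theorem pres_four_two : AltPres.Pres2 (Cfsg.SU 4 K4 2) 5 := by
  let x : FreeGroup (Fin 2) := FreeGroup.of 0
  let y : FreeGroup (Fin 2) := FreeGroup.of 1
  let w : List ℕ → FreeGroup (Fin 2) := wval fun l => if l = 0 then x else if l = 1 then y else y⁻¹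
  refine AltPres.pres2_of_bound (FourTab.rels.map w) (by simp [FourTab.rels]) ![a4, b4] ?_ ?_
    fun G _ f hf hcl => ?_
  · intro r hr
    obtain ⟨r, hr', rfl⟩ := List.mem_map.1 hr
    let M : ℕ → Matrix (Fin 4) (Fin 4) K4 := fun l =>
      if l = 0 then A4m else if l = 1 then B4m else B4m * B4m * B4m * B4m
    have key : ∀ r ∈ FourTab.rels, (r.map M).prod = 1 := by decide +kernel
    have hB : mat b4⁻¹ = B4m * B4m * B4m * B4m := mat_inv_of_mul (by
      show B4m * B4m * B4m * B4m * B4m = 1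
      decide +kernel)
    rw [map_wval]
    refine wval_eq_one (M := M) (fun l _ => ?_) (key r hr')
    by_cases h0 : l = 0
    · simp only [h0, x, M, if_true, FreeGroup.lift_apply_of]; rfl
    by_cases h1 : l = 1
    · subst h1; simp only [one_ne_zero, y, M, if_true, if_false, FreeGroup.lift_apply_of]; rfl
    · simp only [h0, h1, y, M, if_false, map_inv, FreeGroup.lift_apply_of]; exact hB
  · intro t
    have := gen_four (S := Subgroup.closure (Set.range ![a4, b4])) (Subgroup.subset_closure ⟨0, rfl⟩)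
      (Subgroup.subset_closure ⟨1, rfl⟩)
    rw [this]; trivial
  let im : ℕ → G := fun l => if l = 0 then f 0 else if l = 1 then f 1 else (f 1)⁻¹
  have him : ∀ r, FreeGroup.lift f (w r) = wval im r := fun r => by
    rw [map_wval]
    refine wval_congr fun l _ => ?_
    simp only [im, x, y]
    split_ifs <;> simp
  have hrel : ∀ r ∈ FourTab.rels, wval im r = 1 := fun r hr => by
    rw [← him]; exact hf _ (List.mem_map_of_mem hr)
  have h0 : f 0 * f 0 = 1 := by simpa [wval, im] using hrel [0, 0] (by decide)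
  have h5 : f 1 ^ 5 = 1 := by simpa [wval, im, pow_succ, mul_assoc] using hrel [1, 1, 1, 1, 1] (by decide)
  let K : Subgroup G := Subgroup.zpowers (f 1)
  have hfo : IsOfFinOrder (f 1) := isOfFinOrder_iff_pow_eq_one.2 ⟨5, by norm_num, h5⟩
  haveI : Finite K := hfo.finite_zpowers.to_subtype
  have hK : Nat.card K ≤ 5 := by
    rw [Nat.card_zpowers]
    exact Nat.le_of_dvd (by norm_num) (orderOf_dvd_of_pow_eq_one h5)
  have hS : FourTab.cert.Sound im K := by
    refine ⟨fun l hl => ?_, by decide, hrel, ?_⟩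
    · rcases l with _ | _ | _ | l
      · exact (inv_eq_of_mul_eq_one_right h0).symm
      · rfl
      · exact (inv_inv _).symm
      · change l + 3 < 3 at hl; omega
    · intro r hr
      simp only [FourTab.cert, FourTab.subs, List.mem_cons, List.not_mem_nil, or_false] at hr
      subst hr
      simp [wval, im, K]
  obtain ⟨hfin, hc⟩ := CosetTable.card_le FourTab.cert im K FourTab.valid hS FourTab.rowsOK_all (L := ⊤) (by
    rw [← hcl]
    refine Subgroup.closure_mono ?_
    rintro x (rfl | rfl)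
    · exact ⟨0, show 0 < 3 by norm_num, rfl⟩
    · exact ⟨1, show 1 < 3 by norm_num, rfl⟩)
  rw [Subgroup.card_top] at hc
  refine ⟨Finite.of_equiv _ Subgroup.topEquiv.toEquiv, hc.trans ?_⟩
  rw [card_four_two]
  exact Nat.mul_le_mul_left 5184 hK

end Cfsg.Lib.SUPres.Two
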