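import Cfsg.Agent.Pres.SU.NineMat
import Mathlib.GroupTheory.Perm.Closure

/-! # Stabilisers of the first two, three and four points in the alternating group -/

set_option autoImplicit false
set_option linter.unusedSectionVars false
set_option linter.unusedSimpArgs false
set_option linter.style.haveILetI false

namespace Cfsg.Lib.SUPres

open Equiv

variable {N : ℕ}

/-- The first four points. -/
def head4 (hN : 4 ≤ N) : Fin 4 ↪ Fin N := Fin.castLEEmb hN

theorem head4_val (hN : 4 ≤ N) (x : Fin 4) : ((head4 hN x : Fin N) : ℕ) = x := rfl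

theorem head4_range (hN : 4 ≤ N) {j : Fin N} (h : (j : ℕ) < 4) : j ∈ Set.range (head4 hN) :=
  ⟨⟨j, h⟩, Fin.ext rfl⟩

/-- A permutation keeps an initial segment. -/
def Keeps (k : ℕ) (π : alternatingGroup (Fin N)) : Prop := ∀ x : Fin N, (x : ℕ) < k ↔ ((π : Perm (Fin N)) x : ℕ) < k

theorem Keeps.mul {k : ℕ} {π σ : alternatingGroup (Fin N)} (h1 : Keeps k π) (h2 : Keeps k σ) : Keeps k (π * σ) :=
  fun x => (h2 x).trans (h1 _)

theorem Keeps.inv {k : ℕ} {π : alternatingGroup (Fin N)} (h : Keeps k π) : Keeps k π⁻¹ := fun x => by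
  have := h (((π : Perm (Fin N))⁻¹ : Perm (Fin N)) x)
  simpa using this.symm

/-- The remaining points. -/
def tail4 (m : ℕ) : Fin m ↪ Fin (4 + m) := Fin.natAddEmb 4

/-- The transposition of two points when a permutation is odd. -/
noncomputable def sgn2 (m : ℕ) : Perm (Fin m) →* Perm (Fin 2) :=
  (MulEquiv.ofBijective (Perm.sign : Perm (Fin 2) →* ℤˣ) (by decide)).symm.toMonoidHom.comp Perm.sign

theorem sign_sgn2 {m : ℕ} (σ : Perm (Fin m)) : Perm.sign (sgn2 m σ) = Perm.sign σ :=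
  (MulEquiv.ofBijective (Perm.sign : Perm (Fin 2) →* ℤˣ) (by decide)).apply_symm_apply _

/-- The first two points. -/
def head2 (m : ℕ) : Fin 2 ↪ Fin (4 + m) := Fin.castLEEmb (by omega)

theorem sign_via {k n : ℕ} (κ : Fin k ↪ Fin n) (σ : Perm (Fin k)) :
    Perm.sign (σ.viaEmbedding κ) = Perm.sign σ := by
  rw [Perm.viaEmbedding, Perm.sign_extendDomain]

/-- A permutation of the remaining points, made even on the first two. -/
noncomputable def lift4 (m : ℕ) : Perm (Fin m) →* alternatingGroup (Fin (4 + m)) :=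
  ((Perm.viaEmbeddingHom (tail4 m)).noncommCoprod ((Perm.viaEmbeddingHom (head2 m))) (fun σ τ => by
      refine (Perm.Disjoint.commute fun x => ?_)
      rw [Perm.viaEmbeddingHom_apply, Perm.viaEmbeddingHom_apply]
      by_cases hx : x ∈ Set.range (tail4 m)
      · refine Or.inr (Perm.viaEmbedding_apply_of_notMem _ _ _ ?_)
        rintro ⟨i, hi⟩
        obtain ⟨j, rfl⟩ := hx
        have := congrArg Fin.val hi
        simp [head2, tail4] at this
        omega
      · exact Or.inl (Perm.viaEmbedding_apply_of_notMem _ _ _ hx))).comp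
      ((MonoidHom.id _).prod (sgn2 m)) |>.codRestrict _ fun σ => by
    show Perm.sign (σ.viaEmbedding (tail4 m) * (sgn2 m σ).viaEmbedding (head2 m)) = 1
    rw [map_mul, sign_via, sign_via, sign_sgn2, Int.units_mul_self]

theorem lift4_tail {m : ℕ} (σ : Perm (Fin m)) (i : Fin m) :
    (lift4 m σ : Perm (Fin (4 + m))) (tail4 m i) = tail4 m (σ i) := by
  show σ.viaEmbedding (tail4 m) ((sgn2 m σ).viaEmbedding (head2 m) (tail4 m i)) = _
  rw [Perm.viaEmbedding_apply_of_notMem (sgn2 m σ), Perm.viaEmbedding_apply]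
  rintro ⟨x, hx⟩
  have := congrArg Fin.val hx
  simp [head2, tail4] at this
  omega

theorem lift4_keeps {m : ℕ} (σ : Perm (Fin m)) : Keeps 4 (lift4 m σ) := by
  intro x
  by_cases hx : 4 ≤ (x : ℕ)
  · obtain ⟨i, rfl⟩ : ∃ i, tail4 m i = x := ⟨⟨(x : ℕ) - 4, by omega⟩, Fin.ext (show 4 + ((x : ℕ) - 4) = x by omega)⟩
    rw [lift4_tail]
    simp [tail4]
  · refine iff_of_true (by omega) ?_
    by_contra hc
    obtain ⟨i, hi⟩ : ∃ i, tail4 m i = (lift4 m σ : Perm (Fin (4 + m))) x :=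
      ⟨⟨((lift4 m σ : Perm (Fin (4 + m))) x : ℕ) - 4, by omega⟩,
        Fin.ext (show 4 + (((lift4 m σ : Perm (Fin (4 + m))) x : ℕ) - 4) = _ by omega)⟩
    obtain ⟨i', rfl⟩ := σ.surjective i
    rw [← lift4_tail] at hi
    have := (lift4 m σ : Perm (Fin (4 + m))).injective hi
    rw [← this] at hx
    simp [tail4] at hx

theorem exists_perm_gens (m : ℕ) : ∃ s t : Perm (Fin m), Subgroup.closure ({s, t} : Set (Perm (Fin m))) = ⊤ := by
  rcases Nat.lt_or_ge m 2 with h | h
  · haveI : Subsingleton (Fin m) := ⟨fun a b => Fin.ext (by omega)⟩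
    exact ⟨1, 1, eq_top_iff.2 fun g _ => by rw [Subsingleton.elim g 1]; exact one_mem _⟩
  · exact ⟨_, _, Perm.closure_cycle_adjacent_swap (isCycle_finRotate_of_le h) (support_finRotate_of_le h)
      ⟨0, by omega⟩⟩

/-- Generators of the stabiliser of the first four points. -/
theorem exists_keeps_four_gens (hN : 4 ≤ N) : ∃ s t : alternatingGroup (Fin N), Keeps 4 s ∧ Keeps 4 t ∧
    ∀ H : Subgroup (alternatingGroup (Fin N)), (∀ π, alt4 (head4 hN) π ∈ H) → s ∈ H → t ∈ H →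
      ∀ π, Keeps 4 π → π ∈ H := by
  obtain ⟨m, rfl⟩ : ∃ m, N = 4 + m := ⟨N - 4, by omega⟩
  obtain ⟨s, t, hst⟩ := exists_perm_gens m
  refine ⟨lift4 m s, lift4 m t, lift4_keeps s, lift4_keeps t, fun H hA hs ht π hπ => ?_⟩
  have hl : ∀ σ, lift4 m σ ∈ H := fun σ => by
    have : Subgroup.closure {s, t} ≤ H.comap (lift4 m) := by
      rw [Subgroup.closure_le]
      rintro x (rfl | rfl)
      exacts [hs, ht]
    exact this (hst ▸ Subgroup.mem_top σ)
  have hmap : ∀ i : Fin m, 4 ≤ (((π : Perm (Fin (4 + m))) (tail4 m i)) : ℕ) := fun i => by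
    have := hπ (tail4 m i)
    simp [tail4] at this ⊢
    omega
  let fσ : Fin m → Fin m := fun i => ⟨(((π : Perm (Fin (4 + m))) (tail4 m i)) : ℕ) - 4, by
    have := ((π : Perm (Fin (4 + m))) (tail4 m i)).isLt
    have := hmap i
    omega⟩
  have hf : ∀ i, tail4 m (fσ i) = (π : Perm (Fin (4 + m))) (tail4 m i) := fun i =>
    Fin.ext (show 4 + _ = _ by have := hmap i; simp only [fσ]; omega)
  have hinj : Function.Injective fσ := fun a b e =>
    (tail4 m).injective ((π : Perm (Fin (4 + m))).injective (by rw [← hf, ← hf, e]))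
  set σ : Perm (Fin m) := Equiv.ofBijective fσ (Finite.injective_iff_bijective.1 hinj)
  set ρ := (lift4 m σ)⁻¹ * π with hρ
  have hρt : ∀ i, (ρ : Perm (Fin (4 + m))) (tail4 m i) = tail4 m i := fun i => by
    show ((lift4 m σ : Perm (Fin (4 + m)))⁻¹ : Perm _) ((π : Perm _) (tail4 m i)) = _
    rw [← hf, Perm.inv_def, Equiv.symm_apply_eq, lift4_tail]
    rfl
  have hρh : ∀ x : Fin 4, ((ρ : Perm (Fin (4 + m))) (head4 (by omega) x) : ℕ) < 4 := fun x =>
    (((lift4_keeps σ).inv.mul hπ) _).1 x.isLt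
  let fh : Fin 4 → Fin 4 := fun x => ⟨_, hρh x⟩
  have hhinj : Function.Injective fh := fun a b e => by
    have e' := congrArg Fin.val e
    exact (head4 (by omega)).injective ((ρ : Perm (Fin (4 + m))).injective (Fin.ext e'))
  set τ : Perm (Fin 4) := Equiv.ofBijective fh (Finite.injective_iff_bijective.1 hhinj)
  have hvia : τ.viaEmbedding (head4 (by omega)) = (ρ : Perm (Fin (4 + m))) := by
    refine Equiv.ext fun x => ?_
    by_cases hx : (x : ℕ) < 4
    · obtain ⟨y, rfl⟩ := head4_range (by omega) hx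
      rw [Perm.viaEmbedding_apply]
      exact Fin.ext rfl
    · rw [Perm.viaEmbedding_apply_of_notMem]
      · obtain ⟨i, rfl⟩ : ∃ i, tail4 m i = x :=
          ⟨⟨(x : ℕ) - 4, by omega⟩, Fin.ext (show 4 + ((x : ℕ) - 4) = x by omega)⟩
        exact (hρt i).symm
      · rintro ⟨y, rfl⟩
        exact hx y.isLt
  have hτ : τ ∈ alternatingGroup (Fin 4) := by
    rw [Perm.mem_alternatingGroup, ← sign_via (head4 (show 4 ≤ 4 + m by omega)), hvia]
    exact ρ.2
  have hρH : ρ ∈ H := by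
    have := hA ⟨τ, hτ⟩
    rwa [show alt4 (head4 (show 4 ≤ 4 + m by omega)) ⟨τ, hτ⟩ = ρ from Subtype.ext hvia] at this
  have : π = lift4 m σ * ρ := by rw [hρ, mul_inv_cancel_left]
  rw [this]
  exact mul_mem (hl σ) hρH

/-- A product of two transpositions. -/
def swap2 (a b c d : Fin N) (h1 : a ≠ b) (h2 : c ≠ d) : alternatingGroup (Fin N) :=
  ⟨swap a b * swap c d, Perm.mem_alternatingGroup.2 (by rw [map_mul, Perm.sign_swap h1, Perm.sign_swap h2]; rfl)⟩

/-- The element on the first five points which keeps three of them and not four. -/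
def e34 (hN : 5 ≤ N) : alternatingGroup (Fin N) :=
  swap2 ⟨0, by omega⟩ ⟨1, by omega⟩ ⟨3, by omega⟩ ⟨4, by omega⟩ (by simp [Fin.ext_iff]) (by simp [Fin.ext_iff])

theorem swap2_val (a b c d : Fin N) (h1 : a ≠ b) (h2 : c ≠ d) (x : Fin N) :
    (swap2 a b c d h1 h2 : Perm (Fin N)) x = swap a b (swap c d x) := rfl

theorem e34_keeps (hN : 5 ≤ N) : Keeps 3 (e34 hN) := by
  intro x
  rw [e34, swap2_val, Equiv.swap_apply_def, Equiv.swap_apply_def]
  split_ifs <;> simp_all [Fin.ext_iff] <;> omega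

/-- The elements keeping three points. -/
theorem keeps_three_le (hN : 5 ≤ N) (H : Subgroup (alternatingGroup (Fin N)))
    (h4 : ∀ π, Keeps 4 π → Keeps 3 π → π ∈ H) (he : e34 hN ∈ H) : ∀ π, Keeps 3 π → π ∈ H := by
  intro π hπ
  let p : Fin N := ⟨3, by omega⟩
  have case : ∀ π : alternatingGroup (Fin N), Keeps 3 π → (π : Perm (Fin N)) p = p → π ∈ H := fun π hπ hp =>
    h4 π (fun x => by
      have h := hπ x
      have hx : (π : Perm (Fin N)) x = p ↔ x = p :=
        ⟨fun e => (π : Perm (Fin N)).injective (e.trans hp.symm), fun e => e ▸ hp⟩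
      simp only [Fin.ext_iff, p] at hx
      omega) hπ
  by_cases hp : (π : Perm (Fin N)) p = p
  · exact case π hπ hp
  have hj : 4 ≤ ((π : Perm (Fin N)) p : ℕ) := by
    have h := hπ p
    have hpv : (p : ℕ) = 3 := rfl
    have hp' : ((π : Perm (Fin N)) p : ℕ) ≠ (p : ℕ) := fun e => hp (Fin.ext e)
    omega
  obtain ⟨σ, hσH, hσ3, hσ⟩ : ∃ σ ∈ H, Keeps 3 σ ∧ ((σ : Perm (Fin N)) ((π : Perm (Fin N)) p) : ℕ) = 4 := by
    by_cases h44 : ((π : Perm (Fin N)) p : ℕ) = 4
    · exact ⟨1, one_mem _, fun x => Iff.rfl, h44⟩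
    let s := swap2 (⟨0, by omega⟩ : Fin N) ⟨1, by omega⟩ ⟨4, by omega⟩ ((π : Perm (Fin N)) p)
      (by simp [Fin.ext_iff]) (fun e => h44 (congrArg Fin.val e).symm)
    have k : ∀ k, k = 3 ∨ k = 4 → Keeps k s := fun k hk x => by
      rw [swap2_val, Equiv.swap_apply_def, Equiv.swap_apply_def]
      split_ifs <;> simp_all [Fin.ext_iff] <;> omega
    refine ⟨s, h4 _ (k 4 (Or.inr rfl)) (k 3 (Or.inl rfl)), k 3 (Or.inl rfl), ?_⟩
    rw [swap2_val, swap_apply_right, Equiv.swap_apply_def]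
    simp [Fin.ext_iff]
  have hm : e34 hN * σ * π ∈ H := case _ (((e34_keeps hN).mul hσ3).mul hπ) (by
    show (e34 hN : Perm (Fin N)) ((σ : Perm (Fin N)) ((π : Perm (Fin N)) p)) = p
    rw [show (σ : Perm (Fin N)) ((π : Perm (Fin N)) p) = (⟨4, by omega⟩ : Fin N) from Fin.ext hσ, e34, swap2_val,
      swap_apply_right, swap_apply_of_ne_of_ne] <;> simp [Fin.ext_iff, p])
  have := mul_mem (inv_mem (mul_mem he hσH)) hm
  rwa [inv_mul_cancel_left] at this

/-- The elements keeping two points. -/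
theorem keeps_two_le (hN : 5 ≤ N) (H : Subgroup (alternatingGroup (Fin N)))
    (h3 : ∀ π, Keeps 3 π → Keeps 2 π → π ∈ H) (h4 : ∀ π, Keeps 4 π → Keeps 2 π → π ∈ H) :
    ∀ π, Keeps 2 π → π ∈ H := by
  intro π hπ
  let p : Fin N := ⟨2, by omega⟩
  have case : ∀ π : alternatingGroup (Fin N), Keeps 2 π → (π : Perm (Fin N)) p = p → π ∈ H := fun π hπ hp =>
    h3 π (fun x => by
      have h := hπ x
      have hx : (π : Perm (Fin N)) x = p ↔ x = p :=
        ⟨fun e => (π : Perm (Fin N)).injective (e.trans hp.symm), fun e => e ▸ hp⟩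
      simp only [Fin.ext_iff, p] at hx
      omega) hπ
  by_cases hp : (π : Perm (Fin N)) p = p
  · exact case π hπ hp
  have hj : 3 ≤ ((π : Perm (Fin N)) p : ℕ) := by
    have h := hπ p
    have hpv : (p : ℕ) = 2 := rfl
    have hp' : ((π : Perm (Fin N)) p : ℕ) ≠ (p : ℕ) := fun e => hp (Fin.ext e)
    omega
  obtain ⟨σ, hσH, hσ2, hσ⟩ : ∃ σ ∈ H, Keeps 2 σ ∧ ((σ : Perm (Fin N)) ((π : Perm (Fin N)) p) : ℕ) = 3 := by
    by_cases h33 : ((π : Perm (Fin N)) p : ℕ) = 3
    · exact ⟨1, one_mem _, fun x => Iff.rfl, h33⟩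
    let s := swap2 (⟨0, by omega⟩ : Fin N) ⟨1, by omega⟩ ⟨3, by omega⟩ ((π : Perm (Fin N)) p)
      (by simp [Fin.ext_iff]) (fun e => h33 (congrArg Fin.val e).symm)
    have k : ∀ k, k = 2 ∨ k = 3 → Keeps k s := fun k hk x => by
      rw [swap2_val, Equiv.swap_apply_def, Equiv.swap_apply_def]
      split_ifs <;> simp_all [Fin.ext_iff] <;> omega
    refine ⟨s, h3 _ (k 3 (Or.inr rfl)) (k 2 (Or.inl rfl)), k 2 (Or.inl rfl), ?_⟩
    rw [swap2_val, swap_apply_right, Equiv.swap_apply_def]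
    simp [Fin.ext_iff]
  let d := swap2 (⟨0, by omega⟩ : Fin N) ⟨1, by omega⟩ ⟨2, by omega⟩ ⟨3, by omega⟩
    (by simp [Fin.ext_iff]) (by simp [Fin.ext_iff])
  have kd : ∀ k, k = 2 ∨ k = 4 → Keeps k d := fun k hk x => by
    rw [swap2_val, Equiv.swap_apply_def, Equiv.swap_apply_def]
    split_ifs <;> simp_all [Fin.ext_iff] <;> omega
  have hd : d ∈ H := h4 d (kd 4 (Or.inr rfl)) (kd 2 (Or.inl rfl))
  have hm : d * σ * π ∈ H := case _ (((kd 2 (Or.inl rfl)).mul hσ2).mul hπ) (by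
    show (d : Perm (Fin N)) ((σ : Perm (Fin N)) ((π : Perm (Fin N)) p)) = p
    rw [show (σ : Perm (Fin N)) ((π : Perm (Fin N)) p) = (⟨3, by omega⟩ : Fin N) from Fin.ext hσ, swap2_val,
      swap_apply_right, swap_apply_of_ne_of_ne] <;> simp [Fin.ext_iff, p])
  have := mul_mem (inv_mem (mul_mem hd hσH)) hm
  rwa [inv_mul_cancel_left] at this

/-- An even permutation with given values on few points. -/
theorem exists_exact {k : ℕ} (hk : k + 2 ≤ N) {f g : Fin k → Fin N} (hf : Function.Injective f)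
    (hg : Function.Injective g) : ∃ π : alternatingGroup (Fin N), ∀ i, (π : Perm (Fin N)) (f i) = g i := by
  obtain ⟨π, hπ⟩ := SLnPres.exists_perm_map hf hg
  obtain ⟨a, b, hab, ha, hb⟩ : ∃ a b : Fin N, a ≠ b ∧ (∀ i, f i ≠ a) ∧ ∀ i, f i ≠ b := by
    have hc : 1 < (Finset.univ \ Finset.univ.image f).card := by
      rw [Finset.card_sdiff, Finset.inter_univ, Finset.card_image_of_injective _ hf, Finset.card_univ,
        Finset.card_univ, Fintype.card_fin, Fintype.card_fin]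
      omega
    obtain ⟨a, ha, b, hb, hab⟩ := Finset.one_lt_card.1 hc
    simp only [Finset.mem_sdiff, Finset.mem_image, Finset.mem_univ, true_and, not_exists] at ha hb
    exact ⟨a, b, hab, ha, hb⟩
  rcases SLnPres.even_or_swap π hab with h | h
  · exact ⟨⟨π, h⟩, hπ⟩
  · refine ⟨⟨_, h⟩, fun i => ?_⟩
    show π (swap a b (f i)) = g i
    rw [swap_apply_of_ne_of_ne (ha i) (hb i), hπ]

end Cfsg.Lib.SUPres
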