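import Cfsg.Agent.Pres.SU.Big
import Cfsg.Agent.Pres.SU.TwoFourPres
import Cfsg.Agent.Pres.SU.TwoPerm
import Cfsg.Agent.Known.Phan.TwoRecog

/-! # Presentations over four elements from the rank three group and the alternating group -/

set_option autoImplicit false
set_option maxHeartbeats 1000000
set_option linter.unusedSectionVars false
set_option linter.unusedSimpArgs false
set_option linter.unusedVariables false
set_option linter.style.haveILetI false

namespace Cfsg.Lib.SUPres.Two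

open Equiv
open Cfsg.Lib.Known.Phan
open Cfsg.Lib.SLnPres (PresN)

variable {N : ℕ}

/-- The first two of four coordinates. -/
def κ2 : Fin 2 ↪ Fin 4 := κ01.trans w34

/-- The map from the first four coordinates. -/
noncomputable abbrev blk4 (hN : 5 ≤ N) : Cfsg.SU 4 K4 2 →* Cfsg.SU N K4 2 := blk (head4 (show 4 ≤ N by omega))

theorem commute_closure {G H H' : Type*} [Group G] [Group H] [Group H'] (φ : H →* G) (ψ : H' →* G)
    {a b : H} {c d : H'} (hab : ∀ S : Subgroup H, a ∈ S → b ∈ S → S = ⊤)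
    (hcd : ∀ S : Subgroup H', c ∈ S → d ∈ S → S = ⊤)
    (h1 : Commute (φ a) (ψ c)) (h2 : Commute (φ a) (ψ d)) (h3 : Commute (φ b) (ψ c)) (h4 : Commute (φ b) (ψ d)) :
    ∀ x y, Commute (φ x) (ψ y) := by
  intro x y
  have hy : ∀ z, Commute (φ z) (ψ c) → Commute (φ z) (ψ d) → Commute (φ z) (ψ y) := fun z hc hd => by
    have := hcd ((Subgroup.centralizer {φ z}).comap ψ)
      (Subgroup.mem_centralizer_singleton_iff.2 hc.eq.symm) (Subgroup.mem_centralizer_singleton_iff.2 hd.eq.symm)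
    exact (Subgroup.mem_centralizer_singleton_iff.1
      (this ▸ Subgroup.mem_top y : y ∈ (Subgroup.centralizer {φ z}).comap ψ)).symm
  have := hab ((Subgroup.centralizer {ψ y}).comap φ)
    (Subgroup.mem_centralizer_singleton_iff.2 (hy a h1 h2).eq) (Subgroup.mem_centralizer_singleton_iff.2 (hy b h3 h4).eq)
  exact Subgroup.mem_centralizer_singleton_iff.1 (this ▸ Subgroup.mem_top x : x ∈ (Subgroup.centralizer {ψ y}).comap φ)

/-- The cycle on the first three of four points. -/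
def c43 : alternatingGroup (Fin 4) := ⟨swap 0 1 * swap 1 2, Perm.mem_alternatingGroup.2 (by decide)⟩
/-- A double transposition of four points. -/
def p43 : alternatingGroup (Fin 4) := ⟨swap 0 1 * swap 2 3, Perm.mem_alternatingGroup.2 (by decide)⟩

theorem alt_four_gen {H : Subgroup (alternatingGroup (Fin 4))} (hc : c43 ∈ H) (hp : p43 ∈ H) :
    ∀ π, π ∈ H := by
  intro π
  have key : ∀ π : alternatingGroup (Fin 4), ∃ i : Fin 3, ∃ j : Fin 2, ∃ k : Fin 3, ∃ l : Fin 2,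
      c43 ^ i.val * p43 ^ j.val * c43 ^ k.val * p43 ^ l.val = π := by decide +kernel
  obtain ⟨i, j, k, l, rfl⟩ := key π
  exact mul_mem (mul_mem (mul_mem (pow_mem hc _) (pow_mem hp _)) (pow_mem hc _)) (pow_mem hp _)

/-- The move of the first two points to the fourth and fifth. -/
def π5 (hN : 5 ≤ N) : alternatingGroup (Fin N) :=
  swap2 ⟨0, by omega⟩ ⟨3, by omega⟩ ⟨1, by omega⟩ ⟨4, by omega⟩ (by simp [Fin.ext_iff]) (by simp [Fin.ext_iff])

/-- The move of the first three points to the next three. -/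
def π6 (hN : 6 ≤ N) : alternatingGroup (Fin N) :=
  swap2 ⟨0, by omega⟩ ⟨3, by omega⟩ ⟨1, by omega⟩ ⟨4, by omega⟩ (by simp [Fin.ext_iff]) (by simp [Fin.ext_iff]) *
    swap2 ⟨2, by omega⟩ ⟨5, by omega⟩ ⟨0, by omega⟩ ⟨1, by omega⟩ (by simp [Fin.ext_iff]) (by simp [Fin.ext_iff])

/-- A group with the glue. -/
structure Gl2 (N : ℕ) (G : Type*) [Group G] where
  /-- At least five dimensions. -/
  hN : 5 ≤ N
  /-- The alternating group. -/
  ι : alternatingGroup (Fin N) →* G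
  /-- The rank three group. -/
  f : Cfsg.SU 4 K4 2 →* G
  /-- The map to the target. -/
  Φ : G →* Cfsg.SU N K4 2
  Φι : ∀ π, Φ (ι π) = permSU π
  Φf : ∀ x, Φ (f x) = blk4 hN x
  idt : ∀ π, ι (alt4 (head4 (show 4 ≤ N by omega)) π) = f (permSU π)
  stab4 : ∀ π, Keeps 4 π → ∀ x, ι π * f x * (ι π)⁻¹ ∈ f.range
  move : ∀ x, ι (e34 hN) * f (blk w34 x) * (ι (e34 hN))⁻¹ ∈ (f.comp (blk w34)).range
  far5 : ∀ x y, Commute (f (blk w34 x)) (ι (π5 hN) * f (blk κ2 y) * (ι (π5 hN))⁻¹)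
  far6 : ∀ h : 6 ≤ N, ∀ x y, Commute (f (blk w34 x)) (ι (π6 h) * f (blk w34 y) * (ι (π6 h))⁻¹)
  gen : Subgroup.closure (Set.range ι ∪ Set.range f) = ⊤

namespace Gl2

variable {G : Type*} [Group G] (D : Gl2 N G)

theorem f_injective : Function.Injective D.f := fun a b e =>
  blk_injective _ (by rw [← D.Φf, ← D.Φf, e])

/-- The subgroup of some of the first four coordinates. -/
noncomputable def U {k : ℕ} (κ : Fin k ↪ Fin 4) (π : alternatingGroup (Fin N)) : Subgroup G :=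
  ((MulAut.conj (D.ι π)).toMonoidHom.comp (D.f.comp (blk κ))).range

theorem mem_U {k : ℕ} (κ : Fin k ↪ Fin 4) (π : alternatingGroup (Fin N)) (x : Cfsg.SU k K4 2) :
    D.ι π * D.f (blk κ x) * (D.ι π)⁻¹ ∈ D.U κ π := ⟨x, rfl⟩

theorem exists_of_mem {k : ℕ} {κ : Fin k ↪ Fin 4} {π : alternatingGroup (Fin N)} {g : G} (h : g ∈ D.U κ π) :
    ∃ x, D.ι π * D.f (blk κ x) * (D.ι π)⁻¹ = g := h

theorem U_mul {k : ℕ} (κ : Fin k ↪ Fin 4) (σ π : alternatingGroup (Fin N)) :
    D.U κ (σ * π) = (D.U κ π).map (MulAut.conj (D.ι σ)).toMonoidHom := by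
  rw [U, U, ← MonoidHom.range_comp]
  congr 1
  ext x
  simp [mul_assoc]

/-- The coordinates of a base subgroup. -/
def T {k : ℕ} (κ : Fin k ↪ Fin 4) : Set (Fin N) :=
  Set.range (κ.trans (head4 (show 4 ≤ N from le_trans (by norm_num) D.hN)))

theorem norm_one_iff {k : ℕ} (κ : Fin k ↪ Fin 4) (π : alternatingGroup (Fin N))
    (h : ∀ x, D.ι π * D.f (blk κ x) * (D.ι π)⁻¹ ∈ D.U κ 1) : D.U κ π = D.U κ 1 := by
  haveI : Finite (D.U κ 1) := Finite.of_surjective _ (MonoidHom.rangeRestrict_surjective _)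
  refine Subgroup.eq_of_le_of_card_ge ?_ (le_of_eq ?_)
  · rintro _ ⟨x, rfl⟩; exact h x
  · have : D.U κ π = (D.U κ 1).map (MulAut.conj (D.ι π)).toMonoidHom := by rw [← U_mul, mul_one]
    rw [this]
    exact Nat.card_congr ((D.U κ 1).equivMapOfInjective _ (MulAut.conj (D.ι π)).injective).toEquiv

/-- The elements fixing a base subgroup. -/
def fixU {k : ℕ} (κ : Fin k ↪ Fin 4) : Subgroup (alternatingGroup (Fin N)) where
  carrier := {π | D.U κ π = D.U κ 1}
  one_mem' := rfl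
  mul_mem' := fun {a b} ha hb => by
    show D.U κ (a * b) = _
    rw [U_mul, hb, ← U_mul, mul_one, ha]
  inv_mem' := fun {a} ha => by
    show D.U κ a⁻¹ = _
    rw [← mul_one a⁻¹, U_mul, ← ha, ← U_mul, inv_mul_cancel]
    exact ha.symm

theorem four_fix {k : ℕ} (κ : Fin k ↪ Fin 4) {π : alternatingGroup (Fin N)} (h4 : Keeps 4 π)
    (hT : (π : Perm (Fin N)) '' D.T κ = D.T κ) : π ∈ D.fixU κ := by
  refine D.norm_one_iff κ π fun x => ?_
  obtain ⟨z, hz⟩ := D.stab4 π h4 (blk κ x)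
  have e : blk4 D.hN z = blk ((κ.trans (head4 (show 4 ≤ N from le_trans (by norm_num) D.hN))).trans
      (π : Perm (Fin N)).toEmbedding) x := by
    rw [← D.Φf, hz, map_mul, map_mul, map_inv, D.Φι, D.Φf, blk_blk, blk_perm]
  obtain ⟨y, hy⟩ := exists_blk_of_range (F := K4) (q := 2)
    (κ' := κ.trans (head4 (show 4 ≤ N from le_trans (by norm_num) D.hN)))
    (κ := (κ.trans (head4 (show 4 ≤ N from le_trans (by norm_num) D.hN))).trans (π : Perm (Fin N)).toEmbedding)
    (by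
      refine Eq.trans ?_ hT
      rw [T, ← Set.range_comp]; rfl) x
  have hz' : z = blk κ y := blk_injective _ (by rw [blk4] at e; rw [e, blk_blk, hy])
  rw [← hz, hz']
  exact ⟨y, by simp⟩

theorem T_eq (k : ℕ) (hk : k ≤ 4) (κ : Fin k ↪ Fin 4) (hκ : ∀ i, (κ i : ℕ) = i) :
    D.T κ = {x : Fin N | (x : ℕ) < k} := by
  ext x
  constructor
  · rintro ⟨i, rfl⟩
    show ((κ i : Fin 4) : ℕ) < k
    rw [hκ]; exact i.isLt
  · intro hx
    exact ⟨⟨x, hx⟩, Fin.ext (hκ ⟨x, hx⟩)⟩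

theorem keeps_of_image {k : ℕ} {π : alternatingGroup (Fin N)}
    (h : (π : Perm (Fin N)) '' {x : Fin N | (x : ℕ) < k} = {x : Fin N | (x : ℕ) < k}) : Keeps k π := fun x => by
  constructor
  · intro hx
    exact (h ▸ ⟨x, hx, rfl⟩ : (π : Perm (Fin N)) x ∈ {x : Fin N | (x : ℕ) < k})
  · intro hx
    obtain ⟨y, hy, e⟩ := (h.symm ▸ hx : (π : Perm (Fin N)) x ∈ (π : Perm (Fin N)) '' {x : Fin N | (x : ℕ) < k})
    rwa [← (π : Perm (Fin N)).injective e]

theorem image_of_keeps {k : ℕ} {π : alternatingGroup (Fin N)} (h : Keeps k π) :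
    (π : Perm (Fin N)) '' {x : Fin N | (x : ℕ) < k} = {x : Fin N | (x : ℕ) < k} := by
  ext x
  obtain ⟨y, rfl⟩ := (π : Perm (Fin N)).surjective x
  rw [(π : Perm (Fin N)).injective.mem_set_image]
  exact h y

theorem hw34 (i : Fin 3) : (w34 i : ℕ) = i := rfl
theorem hκ2 (i : Fin 2) : (κ2 i : ℕ) = i := rfl

theorem fix_three : ∀ π, Keeps 3 π → π ∈ D.fixU w34 :=
  keeps_three_le D.hN _ (fun π h4 h3 => D.four_fix _ h4 (by
    rw [D.T_eq 3 (by norm_num) w34 hw34]; exact image_of_keeps h3))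
    (D.norm_one_iff _ _ fun x => by
      obtain ⟨y, hy⟩ := D.move x
      rw [← hy]; exact ⟨y, by simp⟩)

theorem fix_two : ∀ π, Keeps 2 π → π ∈ D.fixU κ2 :=
  keeps_two_le D.hN _ (fun π h3 h2 => by
    refine D.norm_one_iff _ _ fun x => ?_
    obtain ⟨z, hz⟩ : ∃ z, D.ι 1 * D.f (blk w34 z) * (D.ι 1)⁻¹ = D.ι π * D.f (blk κ2 x) * (D.ι π)⁻¹ := by
      refine D.exists_of_mem ?_
      rw [← show D.U w34 π = D.U w34 1 from D.fix_three π h3]
      exact ⟨blk κ01 x, by rw [κ2, ← blk_blk]; rfl⟩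
    set h4 : Fin 4 ↪ Fin N := head4 (show 4 ≤ N from le_trans (by norm_num) D.hN)
    have e := congrArg D.Φ hz
    simp only [map_one, inv_one, one_mul, mul_one, map_mul, map_inv, D.Φι, D.Φf, blk_blk, blk_perm] at e
    obtain ⟨y, hy⟩ := exists_blk_of_range (F := K4) (q := 2) (κ' := κ2.trans h4)
      (κ := (κ2.trans h4).trans (π : Perm (Fin N)).toEmbedding) (by
        refine Eq.trans ?_ ((congrArg _ (D.T_eq 2 (by norm_num) κ2 hκ2)).trans
          ((image_of_keeps h2).trans (D.T_eq 2 (by norm_num) κ2 hκ2).symm))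
        exact Set.range_comp (⇑(π : Perm (Fin N))) (⇑(κ2.trans h4))) x
    have hz' : blk w34 z = blk κ2 y := blk_injective h4 (by rw [blk_blk, e, blk_blk, hy])
    rw [← hz, hz']
    exact D.mem_U κ2 1 y)
    (fun π h4 h2 => D.four_fix _ h4 (by rw [D.T_eq 2 (by norm_num) κ2 hκ2]; exact image_of_keeps h2))

theorem U_eq {k : ℕ} (κ : Fin k ↪ Fin 4) (hfix : ∀ π : alternatingGroup (Fin N), (π : Perm (Fin N)) '' D.T κ = D.T κ → π ∈ D.fixU κ)
    {π π' : alternatingGroup (Fin N)} (h : (π : Perm (Fin N)) '' D.T κ = (π' : Perm (Fin N)) '' D.T κ) :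
    D.U κ π = D.U κ π' := by
  have e : ((π⁻¹ * π' : alternatingGroup (Fin N)) : Perm (Fin N)) '' D.T κ = D.T κ := by
    rw [Subgroup.coe_mul, Subgroup.coe_inv, Perm.coe_mul, Set.image_comp, ← h, ← Set.image_comp]
    simp
  calc D.U κ π = (D.U κ 1).map (MulAut.conj (D.ι π)).toMonoidHom := by rw [← U_mul, mul_one]
    _ = (D.U κ (π⁻¹ * π')).map (MulAut.conj (D.ι π)).toMonoidHom := by rw [show D.U κ (π⁻¹ * π') = D.U κ 1 from hfix _ e]
    _ = D.U κ π' := by rw [← U_mul, mul_inv_cancel_left]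

theorem U3_eq {π π' : alternatingGroup (Fin N)}
    (h : (π : Perm (Fin N)) '' D.T w34 = (π' : Perm (Fin N)) '' D.T w34) : D.U w34 π = D.U w34 π' :=
  D.U_eq w34 (fun σ hσ => D.fix_three σ (keeps_of_image (by rwa [D.T_eq 3 (by norm_num) w34 hw34] at hσ))) h

theorem U2_eq {π π' : alternatingGroup (Fin N)}
    (h : (π : Perm (Fin N)) '' D.T κ2 = (π' : Perm (Fin N)) '' D.T κ2) : D.U κ2 π = D.U κ2 π' :=
  D.U_eq κ2 (fun σ hσ => D.fix_two σ (keeps_of_image (by rwa [D.T_eq 2 (by norm_num) κ2 hκ2] at hσ))) h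

/-- A moved copy of the rank two map. -/
noncomputable def hom (π : alternatingGroup (Fin N)) : Cfsg.SU 3 K4 2 →* G :=
  (MulAut.conj (D.ι π)).toMonoidHom.comp (D.f.comp (blk w34))

theorem hom_injective (π : alternatingGroup (Fin N)) : Function.Injective (D.hom π) :=
  (MulAut.conj (D.ι π)).injective.comp (D.f_injective.comp (blk_injective _))

theorem Φ_hom (π : alternatingGroup (Fin N)) (x : Cfsg.SU 3 K4 2) :
    D.Φ (D.hom π x) = blk ((w34.trans (head4 (show 4 ≤ N from le_trans (by norm_num) D.hN))).trans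
      (π : Perm (Fin N)).toEmbedding) x := by
  show D.Φ (D.ι π * D.f (blk w34 x) * (D.ι π)⁻¹) = _
  rw [map_mul, map_mul, map_inv, D.Φι, D.Φf, blk_blk, blk_perm]

theorem range_hom01 (π : alternatingGroup (Fin N)) : ((D.hom π).comp (blk κ01)).range = D.U κ2 π := by
  rw [U]
  congr 1
  ext x
  show D.ι π * D.f (blk w34 (blk κ01 x)) * (D.ι π)⁻¹ = D.ι π * D.f (blk κ2 x) * (D.ι π)⁻¹
  rw [blk_blk]; rfl

theorem range_hom12 (π : alternatingGroup (Fin N)) : ((D.hom π).comp (blk κ12)).range =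
    D.U κ2 (π * alt4 (head4 (show 4 ≤ N from le_trans (by norm_num) D.hN)) c43) := by
  rw [U]
  congr 1
  ext x
  show D.ι π * D.f (blk w34 (blk κ12 x)) * (D.ι π)⁻¹ = D.ι (π * _) * D.f (blk κ2 x) * (D.ι (π * _))⁻¹
  have e : κ12.trans w34 = κ2.trans (c43 : Perm (Fin 4)).toEmbedding := by
    ext i : 1; revert i; decide
  rw [map_mul D.ι, D.idt, blk_blk, e, ← blk_perm, map_mul, map_mul, map_inv D.f]
  group

theorem T2_image (π : alternatingGroup (Fin N)) :
    (π : Perm (Fin N)) '' D.T κ2 = {(π : Perm (Fin N)) ⟨0, by have := D.hN; omega⟩,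
      (π : Perm (Fin N)) ⟨1, by have := D.hN; omega⟩} := by
  rw [← Set.image_pair]
  congr 1
  ext x
  rw [D.T_eq 2 (by norm_num) κ2 hκ2]
  simp only [Set.mem_setOf_eq, Set.mem_insert_iff, Set.mem_singleton_iff, Fin.ext_iff]
  omega

theorem T3_image (π : alternatingGroup (Fin N)) :
    (π : Perm (Fin N)) '' D.T w34 = {(π : Perm (Fin N)) ⟨0, by have := D.hN; omega⟩,
      (π : Perm (Fin N)) ⟨1, by have := D.hN; omega⟩, (π : Perm (Fin N)) ⟨2, by have := D.hN; omega⟩} := by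
  rw [← Set.image_pair, ← Set.image_insert_eq]
  congr 1
  ext x
  rw [D.T_eq 3 (by norm_num) w34 hw34]
  simp only [Set.mem_setOf_eq, Set.mem_insert_iff, Set.mem_singleton_iff, Fin.ext_iff]
  omega

theorem commute_map {S T : Subgroup G} (g : G) (h : ∀ x ∈ S, ∀ y ∈ T, Commute x y) :
    ∀ x ∈ S.map (MulAut.conj g).toMonoidHom, ∀ y ∈ T.map (MulAut.conj g).toMonoidHom, Commute x y := by
  rintro _ ⟨x, hx, rfl⟩ _ ⟨y, hy, rfl⟩
  exact (h x hx y hy).map _

theorem commute22 {π π' : alternatingGroup (Fin N)}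
    (h : Disjoint ((π : Perm (Fin N)) '' D.T κ2) ((π' : Perm (Fin N)) '' D.T κ2)) :
    ∀ x ∈ D.U κ2 π, ∀ y ∈ D.U κ2 π', Commute x y := by
  have hN := D.hN
  let P : Fin 4 → Fin N := fun k => ⟨k, by omega⟩
  let τ : alternatingGroup (Fin 4) := ⟨swap 0 2 * swap 1 3, Perm.mem_alternatingGroup.2 (by decide)⟩
  have hd := Set.disjoint_left.1 h
  rw [T2_image, T2_image] at hd
  have hne : ∀ a b : Fin N, a ∈ ({(π : Perm (Fin N)) (P 0), (π : Perm (Fin N)) (P 1)} : Set (Fin N)) →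
      b ∈ ({(π' : Perm (Fin N)) (P 0), (π' : Perm (Fin N)) (P 1)} : Set (Fin N)) → a ≠ b :=
    fun a b ha hb e => hd ha (e ▸ hb)
  obtain ⟨σ, hσ⟩ := exists_even_extend (f := P)
    (g := ![(π : Perm (Fin N)) (P 0), (π : Perm (Fin N)) (P 1), (π' : Perm (Fin N)) (P 0), (π' : Perm (Fin N)) (P 1)])
    (fun a b e => Fin.ext (congrArg Fin.val e :))
    (SLnPres.vec4_inj ((π : Perm (Fin N)).injective.ne (by simp [P, Fin.ext_iff]))
      (hne _ _ (Or.inl rfl) (Or.inl rfl)) (hne _ _ (Or.inl rfl) (Or.inr rfl))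
      (hne _ _ (Or.inr rfl) (Or.inl rfl)) (hne _ _ (Or.inr rfl) (Or.inr rfl))
      ((π' : Perm (Fin N)).injective.ne (by simp [P, Fin.ext_iff]))) (show (0 : Fin 4) ≠ 1 by decide)
  set h4 : Fin 4 ↪ Fin N := head4 (show 4 ≤ N by omega)
  have e1 : D.U κ2 π = D.U κ2 σ := D.U2_eq (by
    rw [T2_image, T2_image]
    show {(π : Perm (Fin N)) (P 0), (π : Perm (Fin N)) (P 1)} = {(σ : Perm (Fin N)) (P 0), (σ : Perm (Fin N)) (P 1)}
    rcases hσ with e | e
    · rw [e, e]; rfl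
    · rw [e, e, Set.pair_comm]; rfl)
  have e2 : D.U κ2 π' = D.U κ2 (σ * alt4 h4 τ) := D.U2_eq (by
    rw [T2_image, T2_image]
    show {(π' : Perm (Fin N)) (P 0), (π' : Perm (Fin N)) (P 1)} =
      {(σ : Perm (Fin N)) ((alt4 h4 τ : Perm (Fin N)) (h4 0)), (σ : Perm (Fin N)) ((alt4 h4 τ : Perm (Fin N)) (h4 1))}
    rw [alt4_apply, alt4_apply]
    show _ = {(σ : Perm (Fin N)) (P 2), (σ : Perm (Fin N)) (P 3)}
    rcases hσ with e | e <;> rw [e, e] <;> rfl)
  rw [e1, e2, U_mul, show D.U κ2 σ = (D.U κ2 1).map (MulAut.conj (D.ι σ)).toMonoidHom by rw [← U_mul, mul_one]]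
  refine commute_map _ ?_
  rintro _ ⟨x, rfl⟩ _ ⟨y, rfl⟩
  show Commute (D.ι 1 * D.f (blk κ2 x) * (D.ι 1)⁻¹) (D.ι (alt4 h4 τ) * D.f (blk κ2 y) * (D.ι (alt4 h4 τ))⁻¹)
  rw [map_one, one_mul, inv_one, mul_one, D.idt, ← map_inv, ← map_mul, ← map_mul, blk_perm]
  refine (blk_commute _ _ ?_ x y).map D.f
  decide

theorem commute32 {π π' : alternatingGroup (Fin N)}
    (h : Disjoint ((π : Perm (Fin N)) '' D.T w34) ((π' : Perm (Fin N)) '' D.T κ2)) :
    ∀ x ∈ D.U w34 π, ∀ y ∈ D.U κ2 π', Commute x y := by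
  have hN := D.hN
  let P : Fin 5 → Fin N := fun k => ⟨k, by omega⟩
  have hd := Set.disjoint_left.1 h
  rw [T3_image, T2_image] at hd
  let g : Fin 5 → Fin N := ![(π : Perm (Fin N)) (P 0), (π : Perm (Fin N)) (P 1), (π : Perm (Fin N)) (P 2),
    (π' : Perm (Fin N)) (P 0), (π' : Perm (Fin N)) (P 1)]
  have hg : Function.Injective g := by
    have hne : ∀ a : Fin 3, ∀ b : Fin 2, (π : Perm (Fin N)) (P (Fin.castLE (by norm_num) a)) ≠
        (π' : Perm (Fin N)) (P (Fin.castLE (by norm_num) b)) := by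
      intro a b e
      refine hd (a := (π : Perm (Fin N)) (P (Fin.castLE (by norm_num) a))) ?_ ?_
      · fin_cases a <;> simp [P]
      · rw [e]; fin_cases b <;> simp [P]
    have h1 := (π : Perm (Fin N)).injective
    have h2 := (π' : Perm (Fin N)).injective
    intro i j e
    fin_cases i <;> fin_cases j <;> first
      | rfl
      | exact absurd e (hne _ _)
      | exact absurd e.symm (hne _ _)
      | (exact absurd (h1 e) (by simp [P, Fin.ext_iff]))
      | (exact absurd (h2 e) (by simp [P, Fin.ext_iff]))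
      | exact absurd e (hne 0 0)
      | exact absurd e (hne 0 1)
      | exact absurd e (hne 1 0)
      | exact absurd e (hne 1 1)
      | exact absurd e (hne 2 0)
      | exact absurd e (hne 2 1)
      | exact absurd e.symm (hne 0 0)
      | exact absurd e.symm (hne 0 1)
      | exact absurd e.symm (hne 1 0)
      | exact absurd e.symm (hne 1 1)
      | exact absurd e.symm (hne 2 0)
      | exact absurd e.symm (hne 2 1)
  obtain ⟨σ, hσ⟩ := exists_even_extend (f := P) (g := g) (fun a b e => Fin.ext (congrArg Fin.val e :)) hg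
    (show (0 : Fin 5) ≠ 1 by decide)
  have e1 : D.U w34 π = D.U w34 σ := D.U3_eq (by
    rw [T3_image, T3_image]
    show _ = {(σ : Perm (Fin N)) (P 0), (σ : Perm (Fin N)) (P 1), (σ : Perm (Fin N)) (P 2)}
    rcases hσ with e | e <;> rw [e, e, e]
    · rfl
    · exact Set.insert_comm _ _ _)
  have h5 : ∀ k : Fin N, (π5 D.hN : Perm (Fin N)) k =
      swap (P 0) (P 3) (swap (P 1) (P 4) k) := fun k => rfl
  have e2 : D.U κ2 π' = D.U κ2 (σ * π5 D.hN) := D.U2_eq (by
    rw [T2_image, T2_image]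
    show _ = {(σ : Perm (Fin N)) ((π5 D.hN : Perm (Fin N)) (P 0)), (σ : Perm (Fin N)) ((π5 D.hN : Perm (Fin N)) (P 1))}
    have hP : Function.Injective P := fun a b e => Fin.ext (congrArg Fin.val e :)
    rw [h5, h5, hP.swap_apply, hP.swap_apply, hP.swap_apply, hP.swap_apply]
    show _ = {(σ : Perm (Fin N)) (P 3), (σ : Perm (Fin N)) (P 4)}
    rcases hσ with e | e <;> rw [e, e] <;> rfl)
  rw [e1, e2, U_mul, show D.U w34 σ = (D.U w34 1).map (MulAut.conj (D.ι σ)).toMonoidHom by rw [← U_mul, mul_one]]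
  refine commute_map _ ?_
  rintro _ ⟨x, rfl⟩ _ ⟨y, rfl⟩
  show Commute (D.ι 1 * D.f (blk w34 x) * (D.ι 1)⁻¹) _
  rw [map_one, one_mul, inv_one, mul_one]
  exact D.far5 x y

theorem commute33 (h6 : 6 ≤ N) {i j : ℕ} (hij : i + 3 ≤ j) (hj : j + 3 ≤ N) {π π' : alternatingGroup (Fin N)}
    (hπ : ∀ k : Fin 3, ((π : Perm (Fin N)) ⟨k, by omega⟩ : ℕ) = i + k)
    (hπ' : ∀ k : Fin 3, ((π' : Perm (Fin N)) ⟨k, by omega⟩ : ℕ) = j + k) :
    ∀ x ∈ D.U w34 π, ∀ y ∈ D.U w34 π', Commute x y := by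
  let P : Fin 6 → Fin N := fun k => ⟨k, by omega⟩
  let g : Fin 6 → Fin N := fun k => if hk : (k : ℕ) < 3 then ⟨i + k, by omega⟩ else ⟨j + ((k : ℕ) - 3), by omega⟩
  have hgv : ∀ k : Fin 6, (g k : ℕ) = if (k : ℕ) < 3 then i + k else j + ((k : ℕ) - 3) := fun k => by
    simp only [g]; split_ifs <;> rfl
  have hg : Function.Injective g := fun a b e => by
    have e' := congrArg Fin.val e
    rw [hgv, hgv] at e'
    split_ifs at e' <;> exact Fin.ext (by omega)
  obtain ⟨σ, hσ⟩ := exists_even_extend (f := P) (g := g) (fun a b e => Fin.ext (congrArg Fin.val e :)) hg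
    (show (0 : Fin 6) ≠ 1 by decide)
  have img : ∀ (ρ : alternatingGroup (Fin N)) (m : ℕ), (∀ k : Fin 3, ((ρ : Perm (Fin N)) ⟨k, by omega⟩ : ℕ) = m + k) →
      (ρ : Perm (Fin N)) '' D.T w34 = {x : Fin N | m ≤ (x : ℕ) ∧ (x : ℕ) < m + 3} := by
    intro ρ m hρ
    rw [D.T_eq 3 (by norm_num) w34 hw34]
    ext x
    constructor
    · rintro ⟨y, hy, rfl⟩
      have := hρ ⟨y, hy⟩
      simp only [Set.mem_setOf_eq] at hy ⊢
      simp at this
      omega
    · rintro ⟨hx1, hx2⟩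
      exact ⟨⟨(x : ℕ) - m, by omega⟩, show (x : ℕ) - m < 3 by omega,
        Fin.ext ((hρ ⟨(x : ℕ) - m, by omega⟩).trans (show m + ((x : ℕ) - m) = x by omega))⟩
  have hP : Function.Injective P := fun a b e => Fin.ext (congrArg Fin.val e :)
  have e1 : D.U w34 π = D.U w34 σ := D.U3_eq (by
    rw [img π i hπ, T3_image]
    ext x
    have v : ∀ k, ((σ : Perm (Fin N)) (P k) : ℕ) = (g k : ℕ) ∨ ((σ : Perm (Fin N)) (P k) : ℕ) = (g (swap 0 1 k) : ℕ) :=
      fun k => hσ.imp (fun e => congrArg Fin.val (e k)) fun e => congrArg Fin.val (e k)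
    show _ ↔ x = (σ : Perm (Fin N)) (P 0) ∨ x = (σ : Perm (Fin N)) (P 1) ∨ x = (σ : Perm (Fin N)) (P 2)
    simp only [Set.mem_setOf_eq, Fin.ext_iff]
    rcases hσ with e | e <;>
      · rw [e, e, e, hgv, hgv, hgv]
        simp [Equiv.swap_apply_def]
        omega)
  have e2 : D.U w34 π' = D.U w34 (σ * π6 h6) := D.U3_eq (by
    rw [img π' j hπ', T3_image]
    ext x
    have h6' : ∀ k : Fin 6, (π6 h6 : Perm (Fin N)) (P k) =
        P (swap 0 3 (swap 1 4 (swap 2 5 (swap 0 1 k)))) := fun k => by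
      show swap (P 0) (P 3) (swap (P 1) (P 4) (swap (P 2) (P 5) (swap (P 0) (P 1) (P k)))) = _
      rw [hP.swap_apply, hP.swap_apply, hP.swap_apply, hP.swap_apply]
    show _ ↔ x = (σ : Perm (Fin N)) ((π6 h6 : Perm (Fin N)) (P 0)) ∨ x = (σ : Perm (Fin N)) ((π6 h6 : Perm (Fin N)) (P 1))
      ∨ x = (σ : Perm (Fin N)) ((π6 h6 : Perm (Fin N)) (P 2))
    rw [h6', h6', h6']
    show _ ↔ x = (σ : Perm (Fin N)) (P 4) ∨ x = (σ : Perm (Fin N)) (P 3) ∨ x = (σ : Perm (Fin N)) (P 5)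
    simp only [Set.mem_setOf_eq, Fin.ext_iff]
    rcases hσ with e | e <;>
      · rw [e, e, e, hgv, hgv, hgv]
        simp [Equiv.swap_apply_def]
        omega)
  rw [e1, e2, U_mul, show D.U w34 σ = (D.U w34 1).map (MulAut.conj (D.ι σ)).toMonoidHom by rw [← U_mul, mul_one]]
  refine commute_map _ ?_
  rintro _ ⟨x, rfl⟩ _ ⟨y, rfl⟩
  show Commute (D.ι 1 * D.f (blk w34 x) * (D.ι 1)⁻¹) _
  rw [map_one, one_mul, inv_one, mul_one]
  exact D.far6 h6 x y

/-- The second window inside the first four coordinates. -/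
def t4 : alternatingGroup (Fin 4) := ⟨swap 0 3 * swap 1 2, Perm.mem_alternatingGroup.2 (by decide)⟩

theorem f_range_eq : D.f.range = D.U w34 1 ⊔ D.U w34 (alt4 (head4 (show 4 ≤ N from le_trans (by norm_num) D.hN)) t4) := by
  refine le_antisymm ?_ (sup_le ?_ ?_)
  · refine range_le_windows (by norm_num) D.f fun j hj => ?_
    rcases (show j = 0 ∨ j = 1 by omega) with rfl | rfl
    · refine le_sup_of_le_left ?_
      rintro _ ⟨x, rfl⟩
      refine ⟨x, ?_⟩
      show D.ι 1 * D.f (blk w34 x) * (D.ι 1)⁻¹ = D.f (blk (win 3 0 hj) x)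
      rw [show win 3 0 hj = w34 by ext i : 1; decide +revert, map_one]
      group
    · refine le_sup_of_le_right ?_
      rw [MonoidHom.range_comp, blk_range_eq (κ' := w34.trans (t4 : Perm (Fin 4)).toEmbedding) (by
        ext x
        simp only [Set.mem_range]
        have key : ∀ x : Fin 4, (∃ y, win 3 1 (show 1 + 3 ≤ 4 by norm_num) y = x) ↔
            ∃ y : Fin 3, (t4 : Perm (Fin 4)) (w34 y) = x := by decide
        exact key x)]
      rintro _ ⟨_, ⟨x, rfl⟩, rfl⟩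
      refine ⟨x, ?_⟩
      simp only [MonoidHom.comp_apply, MulEquiv.coe_toMonoidHom, MulAut.conj_apply]
      rw [D.idt, ← map_inv D.f, ← map_mul, ← map_mul, blk_perm]
  · rintro _ ⟨x, rfl⟩
    refine ⟨blk w34 x, ?_⟩
    simp
  · rintro _ ⟨x, rfl⟩
    refine ⟨permSU t4 * blk w34 x * (permSU t4)⁻¹, ?_⟩
    simp only [MonoidHom.comp_apply, MulEquiv.coe_toMonoidHom, MulAut.conj_apply]
    rw [D.idt, map_mul, map_mul, map_inv]

theorem bijective : Function.Bijective D.Φ := by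
  classical
  obtain ⟨n, rfl⟩ : ∃ n, N = n + 1 := ⟨N - 1, by have := D.hN; omega⟩
  have hn : 4 ≤ n := by have := D.hN; omega
  have hfr : ∀ i, i + 3 ≤ n + 1 → ∃ π : alternatingGroup (Fin (n + 1)),
      ∀ k : Fin 3, ((π : Perm (Fin (n + 1))) ⟨k, by omega⟩ : ℕ) = i + k := fun i hi => by
    obtain ⟨π, hπ⟩ := exists_exact (k := 3) (show 3 + 2 ≤ n + 1 by omega) (f := fun k : Fin 3 => ⟨k, by omega⟩)
      (g := fun k : Fin 3 => ⟨i + k, by omega⟩) (fun a b e => Fin.ext (congrArg Fin.val e :))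
      (fun a b e => Fin.ext (by have := congrArg Fin.val e; simp only at this; omega))
    exact ⟨π, fun k => congrArg Fin.val (hπ k)⟩
  have hfr2 : ∀ i : Fin n, ∃ π : alternatingGroup (Fin (n + 1)),
      ∀ k : Fin 2, ((π : Perm (Fin (n + 1))) ⟨k, by omega⟩ : ℕ) = i + k := fun i => by
    obtain ⟨π, hπ⟩ := exists_exact (k := 2) (show 2 + 2 ≤ n + 1 by omega) (f := fun k : Fin 2 => ⟨k, by omega⟩)
      (g := fun k : Fin 2 => ⟨i + k, by omega⟩) (fun a b e => Fin.ext (congrArg Fin.val e :))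
      (fun a b e => Fin.ext (by have := congrArg Fin.val e; simp only at this; omega))
    exact ⟨π, fun k => congrArg Fin.val (hπ k)⟩
  choose πs hπs using hfr
  choose π2 hπ2 using hfr2
  have im2 : ∀ (ρ : alternatingGroup (Fin (n + 1))) (m : ℕ),
      ((ρ : Perm (Fin (n + 1))) ⟨0, by omega⟩ : ℕ) = m → ((ρ : Perm (Fin (n + 1))) ⟨1, by omega⟩ : ℕ) = m + 1 →
      (ρ : Perm (Fin (n + 1))) '' D.T κ2 = {x : Fin (n + 1) | (x : ℕ) = m ∨ (x : ℕ) = m + 1} := by
    intro ρ m h0 h1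
    rw [T2_image]
    ext x
    simp only [Set.mem_setOf_eq, Set.mem_insert_iff, Set.mem_singleton_iff, Fin.ext_iff, h0, h1]
  have im3 : ∀ (ρ : alternatingGroup (Fin (n + 1))) (m : ℕ),
      (∀ k : Fin 3, ((ρ : Perm (Fin (n + 1))) ⟨k, by omega⟩ : ℕ) = m + k) →
      (ρ : Perm (Fin (n + 1))) '' D.T w34 = {x : Fin (n + 1) | (x : ℕ) = m ∨ (x : ℕ) = m + 1 ∨ (x : ℕ) = m + 2} := by
    intro ρ m h
    rw [T3_image]
    ext x
    simp only [Set.mem_setOf_eq, Set.mem_insert_iff, Set.mem_singleton_iff, Fin.ext_iff]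
    rw [show ((ρ : Perm (Fin (n + 1))) ⟨0, by omega⟩ : ℕ) = m from h 0,
      show ((ρ : Perm (Fin (n + 1))) ⟨1, by omega⟩ : ℕ) = m + 1 from h 1,
      show ((ρ : Perm (Fin (n + 1))) ⟨2, by omega⟩ : ℕ) = m + 2 from h 2]
  have imπ2 : ∀ i : Fin n, (π2 i : Perm (Fin (n + 1))) '' D.T κ2 =
      {x : Fin (n + 1) | (x : ℕ) = i ∨ (x : ℕ) = i + 1} := fun i => im2 _ _ (hπ2 i 0) (hπ2 i 1)
  let U : Fin n → Subgroup G := fun i => D.U κ2 (π2 i)
  let V : Fin n → Fin n → Subgroup G := fun i _ =>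
    if h : (i : ℕ) + 3 ≤ n + 1 then D.U w34 (πs i h) else ⊥
  have hV : ∀ i j : Fin n, (i : ℕ) + 1 = j → ∃ h : (i : ℕ) + 3 ≤ n + 1, V i j = D.U w34 (πs i h) := fun i j hij =>
    ⟨by omega, dif_pos _⟩
  have hVeq : ∀ i (hi : i + 3 ≤ n + 1) (ρ : alternatingGroup (Fin (n + 1))), (∀ k : Fin 3, ((ρ : Perm (Fin (n + 1))) ⟨k, by omega⟩ : ℕ) = i + k) →
      D.U w34 ρ = D.U w34 (πs i hi) := fun i hi ρ h => D.U3_eq ((im3 ρ i h).trans (im3 _ i (hπs i hi)).symm)
  have hsub : ∀ i j : Fin n, (i : ℕ) + 1 = j → ∀ h : (i : ℕ) + 3 ≤ n + 1,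
      ((D.hom (πs i h)).comp (blk κ01)).range = U i ∧ ((D.hom (πs i h)).comp (blk κ12)).range = U j := by
    intro i j hij h
    refine ⟨(D.range_hom01 _).trans (D.U2_eq ((im2 _ i (hπs i h 0) (hπs i h 1)).trans (imπ2 i).symm)),
      (D.range_hom12 _).trans (D.U2_eq ?_)⟩
    rw [imπ2]
    have hc0 : ((alt4 (head4 (show 4 ≤ n + 1 by omega)) c43 : alternatingGroup (Fin (n + 1))) : Perm (Fin (n + 1))) ⟨0, by omega⟩ = ⟨1, by omega⟩ :=
      (alt4_apply _ c43 0).trans rfl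
    have hc1 : ((alt4 (head4 (show 4 ≤ n + 1 by omega)) c43 : alternatingGroup (Fin (n + 1))) : Perm (Fin (n + 1))) ⟨1, by omega⟩ = ⟨2, by omega⟩ :=
      (alt4_apply _ c43 1).trans rfl
    refine im2 _ _ ?_ ?_
    · show ((πs i h : Perm (Fin (n + 1))) (((alt4 (head4 (show 4 ≤ n + 1 by omega)) c43 : alternatingGroup (Fin (n + 1))) : Perm (Fin (n + 1))) _) : ℕ) = _
      rw [hc0, ← hij]; exact hπs i h 1
    · show ((πs i h : Perm (Fin (n + 1))) (((alt4 (head4 (show 4 ≤ n + 1 by omega)) c43 : alternatingGroup (Fin (n + 1))) : Perm (Fin (n + 1))) _) : ℕ) = _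
      rw [hc1, ← hij]; exact hπs i h 2
  have hgen : (⨆ i, U i) ⊔ (⨆ (i : Fin n) (j : Fin n) (_ : (i : ℕ) + 1 = j), V i j) = ⊤ := by
    set H := (⨆ i, U i) ⊔ (⨆ (i : Fin n) (j : Fin n) (_ : (i : ℕ) + 1 = j), V i j)
    have hVH : ∀ i (hi : i + 3 ≤ n + 1), D.U w34 (πs i hi) ≤ H := fun i hi => by
      refine le_sup_of_le_right ?_
      refine le_iSup_of_le ⟨i, by omega⟩ (le_iSup_of_le ⟨i + 1, by omega⟩ (le_iSup_of_le rfl ?_))
      exact le_of_eq (hV ⟨i, by omega⟩ ⟨i + 1, by omega⟩ rfl).2.symm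
    have hfH : D.f.range ≤ H := by
      rw [D.f_range_eq, sup_le_iff]
      constructor
      · rw [hVeq 0 (by omega) 1 fun k => (Nat.zero_add _).symm]
        exact hVH _ _
      · refine le_trans (le_of_eq (D.U3_eq ?_)) (hVH 1 (by omega))
        rw [im3 _ 1 (hπs 1 _), T3_image]
        have v : ∀ x : Fin 4, ((alt4 (head4 (show 4 ≤ n + 1 by omega)) t4 : Perm (Fin (n + 1)))
            (head4 (show 4 ≤ n + 1 by omega) x) : ℕ) = ((t4 : Perm (Fin 4)) x : ℕ) := fun x => by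
          rw [alt4_apply]; rfl
        have v0 := v 0
        have v1 := v 1
        have v2 := v 2
        ext x
        simp only [Set.mem_setOf_eq, Set.mem_insert_iff, Set.mem_singleton_iff, Fin.ext_iff]
        rw [show ((alt4 (head4 (show 4 ≤ n + 1 by omega)) t4 : Perm (Fin (n + 1))) ⟨0, by omega⟩ : ℕ) = 3 from v0,
          show ((alt4 (head4 (show 4 ≤ n + 1 by omega)) t4 : Perm (Fin (n + 1))) ⟨1, by omega⟩ : ℕ) = 2 from v1,
          show ((alt4 (head4 (show 4 ≤ n + 1 by omega)) t4 : Perm (Fin (n + 1))) ⟨2, by omega⟩ : ℕ) = 1 from v2]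
        omega
    have hK : H.comap D.ι = ⊤ := by
      refine closure_consecutive (by omega) _ fun i hi => ?_
      set π := πs i hi
      set c := alt4 (head4 (show 4 ≤ n + 1 by omega)) c43
      have hcv : ∀ y : Fin (n + 1), (3 ≤ (y : ℕ) → (c : Perm (Fin (n + 1))) y = y) ∧
          ((y : ℕ) < 3 → (c : Perm (Fin (n + 1))) y ≠ y) := by
        intro y
        by_cases hy : (y : ℕ) < 4
        · obtain ⟨z, hz⟩ := head4_range (show 4 ≤ n + 1 by omega) hy
          rw [← hz]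
          simp only [c, alt4_apply, head4_val, ne_eq, (head4 (show 4 ≤ n + 1 by omega)).injective.eq_iff]
          clear hz
          revert z
          decide
        · refine ⟨fun _ => alt4_notMem _ _ ?_, fun h => absurd h (by omega)⟩
          rintro ⟨z, rfl⟩
          exact hy z.isLt
      refine ⟨π * c * π⁻¹, ?_, ?_, ?_⟩
      · rw [Subgroup.mem_comap]
        refine hVH i hi ⟨permSU cyc3, ?_⟩
        have e : blk w34 (permSU cyc3) = permSU (F := K4) (q := 2) c43 := by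
          refine mat_ext' ?_
          rw [mat_blk, mat_permSU, mat_permSU]
          decide +kernel
        show D.ι π * D.f (blk w34 (permSU cyc3)) * (D.ι π)⁻¹ = _
        rw [e, ← D.idt, ← map_inv, ← map_mul, ← map_mul]
      · intro x hx
        show (π : Perm (Fin (n + 1))) ((c : Perm (Fin (n + 1))) (((π : Perm (Fin (n + 1)))⁻¹ : Perm _) x)) = x
        rw [(hcv _).1, Perm.inv_def, Equiv.apply_symm_apply]
        by_contra hc
        set y := ((π : Perm (Fin (n + 1)))⁻¹ : Perm _) x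
        have h' := hπs i hi ⟨y, by omega⟩
        rw [show (⟨((⟨y, by omega⟩ : Fin 3) : ℕ), by omega⟩ : Fin (n + 1)) = y from rfl,
          show (π : Perm (Fin (n + 1))) y = x by simp [y]] at h'
        simp only at h'
        omega
      · intro x hx1 hx2 e
        change (π : Perm (Fin (n + 1))) ((c : Perm (Fin (n + 1))) (((π : Perm (Fin (n + 1)))⁻¹ : Perm _) x)) = x at e
        set y := ((π : Perm (Fin (n + 1)))⁻¹ : Perm _) x with hy
        have hy' : y = ⟨(x : ℕ) - i, by omega⟩ := (π : Perm (Fin (n + 1))).injective (by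
          refine Fin.ext ?_
          rw [show (π : Perm (Fin (n + 1))) y = x by simp [y]]
          exact ((hπs i hi ⟨(x : ℕ) - i, by omega⟩).trans (show i + ((x : ℕ) - i) = x by omega)).symm)
        refine (hcv y).2 (by rw [hy']; show (x : ℕ) - i < 3; omega) ((π : Perm (Fin (n + 1))).injective ?_)
        rw [e]; simp [y]
    rw [eq_top_iff, ← D.gen, Subgroup.closure_le]
    rintro x (⟨π, rfl⟩ | ⟨y, rfl⟩)
    · exact (hK ▸ Subgroup.mem_top π : π ∈ H.comap D.ι)
    · exact hfH ⟨y, rfl⟩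
  have h4 : ∀ i j k : Fin n, (i : ℕ) + 1 = j → (j : ℕ) + 1 = k →
      ∃ g : ↥(Cfsg.SU 4 K4 2) →* ↥(V i j ⊔ V j k), Function.Surjective g := by
    intro i j k hij hjk
    obtain ⟨h1, e1⟩ := hV i j hij
    obtain ⟨h2, e2⟩ := hV j k hjk
    obtain ⟨σ, hσ⟩ := exists_even_extend (f := fun a : Fin 4 => (⟨a, by omega⟩ : Fin (n + 1)))
      (g := fun a : Fin 4 => (⟨(i : ℕ) + a, by omega⟩ : Fin (n + 1)))
      (fun a b e => Fin.ext (congrArg Fin.val e :))
      (fun a b e => Fin.ext (by have := congrArg Fin.val e; simp only at this; omega)) (show (1 : Fin 4) ≠ 2 by decide)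
    have hσv : ∀ a : Fin 4, ((σ : Perm (Fin (n + 1))) ⟨a, by omega⟩ : ℕ) = i + a ∨
        ((σ : Perm (Fin (n + 1))) ⟨a, by omega⟩ : ℕ) = i + (swap (1 : Fin 4) 2 a : ℕ) := fun a =>
      hσ.imp (fun e => congrArg Fin.val (e a)) fun e => congrArg Fin.val (e a)
    have img : ((σ : Perm (Fin (n + 1))) '' D.T w34 = (πs i h1 : Perm (Fin (n + 1))) '' D.T w34) ∧
        (((σ * alt4 (head4 (show 4 ≤ n + 1 by omega)) t4 : alternatingGroup (Fin (n + 1))) : Perm (Fin (n + 1))) '' D.T w34 =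
          (πs j h2 : Perm (Fin (n + 1))) '' D.T w34) := by
      rw [im3 _ i (hπs i h1), im3 _ j (hπs j h2), T3_image, T3_image]
      have t : ∀ a : Fin 4, (alt4 (head4 (show 4 ≤ n + 1 by omega)) t4 : Perm (Fin (n + 1))) ⟨a, by omega⟩ =
          ⟨((t4 : Perm (Fin 4)) a : ℕ), by omega⟩ := fun a => (alt4_apply _ t4 a).trans rfl
      have t0 := t 0
      have t1 := t 1
      have t2 := t 2
      have w : ∀ a : Fin 4, (σ : Perm (Fin (n + 1))) ⟨a, by omega⟩ = (σ : Perm (Fin (n + 1))) ⟨a, by omega⟩ := fun a => rfl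
      constructor <;> ext x <;>
        simp only [Set.mem_setOf_eq, Set.mem_insert_iff, Set.mem_singleton_iff, Fin.ext_iff, Subgroup.coe_mul,
          Perm.mul_apply]
      · rcases hσ with e | e
        ·
          have v0 : ((σ : Perm (Fin (n + 1))) ⟨0, by omega⟩ : ℕ) = i + 0 := (congrArg Fin.val (e 0)).trans rfl
          have v1 : ((σ : Perm (Fin (n + 1))) ⟨1, by omega⟩ : ℕ) = i + 1 := (congrArg Fin.val (e 1)).trans rfl
          have v2 : ((σ : Perm (Fin (n + 1))) ⟨2, by omega⟩ : ℕ) = i + 2 := (congrArg Fin.val (e 2)).trans rfl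
          omega
        ·
          have v0 : ((σ : Perm (Fin (n + 1))) ⟨0, by omega⟩ : ℕ) = i + 0 := (congrArg Fin.val (e 0)).trans rfl
          have v1 : ((σ : Perm (Fin (n + 1))) ⟨1, by omega⟩ : ℕ) = i + 2 := (congrArg Fin.val (e 1)).trans rfl
          have v2 : ((σ : Perm (Fin (n + 1))) ⟨2, by omega⟩ : ℕ) = i + 1 := (congrArg Fin.val (e 2)).trans rfl
          omega
      · have u0 : (alt4 (head4 (show 4 ≤ n + 1 by omega)) t4 : Perm (Fin (n + 1))) ⟨0, by omega⟩ = ⟨3, by omega⟩ := t0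
        have u1 : (alt4 (head4 (show 4 ≤ n + 1 by omega)) t4 : Perm (Fin (n + 1))) ⟨1, by omega⟩ = ⟨2, by omega⟩ := t1
        have u2 : (alt4 (head4 (show 4 ≤ n + 1 by omega)) t4 : Perm (Fin (n + 1))) ⟨2, by omega⟩ = ⟨1, by omega⟩ := t2
        rw [u0, u1, u2]
        rcases hσ with e | e
        ·
          have v0 : ((σ : Perm (Fin (n + 1))) ⟨3, by omega⟩ : ℕ) = i + 3 := (congrArg Fin.val (e 3)).trans rfl
          have v1 : ((σ : Perm (Fin (n + 1))) ⟨1, by omega⟩ : ℕ) = i + 1 := (congrArg Fin.val (e 1)).trans rfl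
          have v2 : ((σ : Perm (Fin (n + 1))) ⟨2, by omega⟩ : ℕ) = i + 2 := (congrArg Fin.val (e 2)).trans rfl
          omega
        ·
          have v0 : ((σ : Perm (Fin (n + 1))) ⟨3, by omega⟩ : ℕ) = i + 3 := (congrArg Fin.val (e 3)).trans rfl
          have v1 : ((σ : Perm (Fin (n + 1))) ⟨1, by omega⟩ : ℕ) = i + 2 := (congrArg Fin.val (e 1)).trans rfl
          have v2 : ((σ : Perm (Fin (n + 1))) ⟨2, by omega⟩ : ℕ) = i + 1 := (congrArg Fin.val (e 2)).trans rfl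
          omega
    let φ := (MulAut.conj (D.ι σ)).toMonoidHom.comp D.f
    have hφ : φ.range = V i j ⊔ V j k := by
      rw [e1, e2, ← D.U3_eq img.1, ← D.U3_eq img.2, MonoidHom.range_comp, D.f_range_eq, Subgroup.map_sup, ← U_mul,
        ← U_mul, mul_one]
    exact ⟨(MulEquiv.subgroupCongr hφ).toMonoidHom.comp φ.rangeRestrict,
      (MulEquiv.subgroupCongr hφ).surjective.comp φ.rangeRestrict_surjective⟩
  have disj : ∀ (a b : alternatingGroup (Fin (n + 1))) (A B : Set (Fin (n + 1))) (κ : Fin 3 ↪ Fin 4)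
      (S : Set (Fin (n + 1))), S = A → Disjoint A B → Disjoint S B := fun _ _ A B _ S e h => e ▸ h
  obtain ⟨Ψ, hΨ⟩ := recog_two (F := K4) (G := G) n hn U
    (fun i => MonoidHom.ofInjective ((MulAut.conj (D.ι (π2 i))).injective.comp (D.f_injective.comp (blk_injective κ2))))
    V
    (fun i j hij x hx y hy => (D.commute22 (by
      rw [imπ2, imπ2, Set.disjoint_left]
      intro z hz hz'
      simp only [Set.mem_setOf_eq] at hz hz'
      omega) x hx y hy).eq)
    (fun i j hij => by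
      obtain ⟨h, e⟩ := hV i j hij
      obtain ⟨h01, h12⟩ := hsub i j hij h
      rw [e, ← h01, ← h12]
      refine Or.inl ⟨MonoidHom.ofInjective (D.hom_injective _), ?_, ?_⟩
      · rw [suBlock_eq_range κ01 _ range_κ01, MonoidHom.map_range]; rfl
      · rw [suBlock_eq_range κ12 _ range_κ12, MonoidHom.map_range]; rfl)
    hgen h4
    (fun i j k hjk hd x hx y hy => by
      obtain ⟨h, e⟩ := hV j k hjk
      rw [e] at hy
      refine ((D.commute32 ?_) y hy x hx).eq.symm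
      rw [im3 _ _ (hπs j h), imπ2, Set.disjoint_left]
      intro z hz hz'
      simp only [Set.mem_setOf_eq] at hz hz'
      omega)
    (fun i j k l hij hkl hjk x hx y hy => by
      obtain ⟨h, e⟩ := hV i j hij
      obtain ⟨h', e'⟩ := hV k l hkl
      rw [e] at hx
      rw [e'] at hy
      exact (D.commute33 (by omega) (by omega) h' (hπs i h) (hπs k h') x hx y hy).eq)
  have hsurj : Function.Surjective D.Φ := by
    rw [← MonoidHom.range_eq_top]
    refine gen_windows (n + 1) _ (by omega) fun j hj => ?_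
    rintro _ ⟨x, rfl⟩
    refine ⟨D.hom (πs j hj) x, ?_⟩
    rw [D.Φ_hom]
    congr 2
    ext k : 1
    exact Fin.ext (hπs j hj k)
  have hb : Function.Bijective (D.Φ ∘ Ψ) := Finite.surjective_iff_bijective.mp (hsurj.comp hΨ)
  exact ⟨fun a b e => by
    obtain ⟨a, rfl⟩ := hΨ a
    obtain ⟨b, rfl⟩ := hΨ b
    rw [hb.1 e], hsurj⟩

end Gl2

/-- The glue words. -/
theorem exists_glue_two (hN : 5 ≤ N) :
    ∃ L : List (List (alternatingGroup (Fin N) ⊕ Cfsg.SU 4 K4 2)),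
      L.length ≤ 16 ∧
      (∀ w ∈ L, evalW (permSU (F := K4) (q := 2) (N := N)) (blk4 hN) w = 1) ∧
      ∀ (G : Type) [Group G] (ι : alternatingGroup (Fin N) →* G) (f : Cfsg.SU 4 K4 2 →* G) (Φ : G →* Cfsg.SU N K4 2),
        Φ.comp ι = permSU → Φ.comp f = blk4 hN → Subgroup.closure (Set.range ι ∪ Set.range f) = ⊤ →
        (∀ w ∈ L, evalW ι f w = 1) → Function.Bijective Φ := by
  classical
  set h4 : Fin 4 ↪ Fin N := head4 (show 4 ≤ N by omega) with hh4
  obtain ⟨s, t, hs, ht, hst⟩ := exists_keeps_four_gens (show 4 ≤ N by omega)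
  let A := alternatingGroup (Fin N)
  let W := List (A ⊕ Cfsg.SU 4 K4 2)
  let idw : alternatingGroup (Fin 4) → W := fun π => [Sum.inl (alt4 h4 π), Sum.inr (permSU π)⁻¹]
  let cjw : A → Cfsg.SU 4 K4 2 → Cfsg.SU 4 K4 2 → W := fun e x y =>
    [Sum.inl e, Sum.inr x, Sum.inl e⁻¹, Sum.inr y⁻¹]
  let kw : A → Cfsg.SU 4 K4 2 → Cfsg.SU 4 K4 2 → W := fun e x y =>
    [Sum.inr x, Sum.inl e, Sum.inr y, Sum.inl e⁻¹, Sum.inr x⁻¹, Sum.inl e, Sum.inr y⁻¹, Sum.inl e⁻¹]
  have hy4 : ∀ (e : A) (x : Cfsg.SU 4 K4 2), ∃ y, Keeps 4 e →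
      permSU e * blk4 hN x * (permSU e)⁻¹ = blk4 hN y := by
    intro e x
    by_cases he : Keeps 4 e
    · obtain ⟨y, hy⟩ := exists_blk_of_range (F := K4) (q := 2) (κ' := h4)
        (κ := h4.trans (e : Perm (Fin N)).toEmbedding) (by
          have hT : Set.range h4 = {x : Fin N | (x : ℕ) < 4} := by
            ext x; exact ⟨fun ⟨i, hi⟩ => hi ▸ i.isLt, head4_range _⟩
          rw [show Set.range (h4.trans (e : Perm (Fin N)).toEmbedding) = (e : Perm (Fin N)) '' Set.range h4 from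
            Set.range_comp (⇑(e : Perm (Fin N))) (⇑h4), hT, Gl2.image_of_keeps he]) x
      exact ⟨y, fun _ => by rw [blk_perm, hy]⟩
    · exact ⟨1, fun h => absurd h he⟩
  choose y4 hy4 using hy4
  have hy3 : ∀ x : Cfsg.SU 3 K4 2, ∃ y,
      permSU (e34 hN) * blk4 hN (blk w34 x) * (permSU (e34 hN))⁻¹ = blk4 hN (blk w34 y) := by
    intro x
    obtain ⟨y, hy⟩ := exists_blk_of_range (F := K4) (q := 2) (κ' := w34.trans h4)
      (κ := (w34.trans h4).trans (e34 hN : Perm (Fin N)).toEmbedding) (by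
        have hT : Set.range (w34.trans h4) = {x : Fin N | (x : ℕ) < 3} := by
          ext x; exact ⟨fun ⟨i, hi⟩ => hi ▸ i.isLt, fun hx => ⟨⟨x, hx⟩, Fin.ext rfl⟩⟩
        rw [show Set.range ((w34.trans h4).trans (e34 hN : Perm (Fin N)).toEmbedding) =
          (e34 hN : Perm (Fin N)) '' Set.range (w34.trans h4) from
          Set.range_comp (⇑(e34 hN : Perm (Fin N))) (⇑(w34.trans h4)), hT, Gl2.image_of_keeps (e34_keeps hN)]) x
    exact ⟨y, by rw [blk_blk, blk_perm, blk_blk, hy]⟩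
  choose y3 hy3 using hy3
  let L6 : List W := if h6 : 6 ≤ N then
      [kw (π6 h6) (blk w34 v1) (blk w34 v1), kw (π6 h6) (blk w34 v1) (blk w34 v2),
        kw (π6 h6) (blk w34 v2) (blk w34 v1), kw (π6 h6) (blk w34 v2) (blk w34 v2)]
    else []
  refine ⟨[idw c43, idw p43, cjw s a4 (y4 s a4), cjw s b4 (y4 s b4), cjw t a4 (y4 t a4), cjw t b4 (y4 t b4),
    cjw (e34 hN) (blk w34 v1) (blk w34 (y3 v1)), cjw (e34 hN) (blk w34 v2) (blk w34 (y3 v2)),
    kw (π5 hN) (blk w34 v1) (blk κ2 a2), kw (π5 hN) (blk w34 v1) (blk κ2 b2),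
    kw (π5 hN) (blk w34 v2) (blk κ2 a2), kw (π5 hN) (blk w34 v2) (blk κ2 b2)] ++ L6, ?_, ?_, ?_⟩
  · simp only [List.length_append, List.length_cons, List.length_nil, L6]
    split_ifs <;> simp
  · have hid : ∀ π, evalW (permSU (F := K4) (q := 2) (N := N)) (blk4 hN) (idw π) = 1 := fun π => by
      simp only [evalW, idw, List.map_cons, List.map_nil, Sum.elim_inl, Sum.elim_inr, map_inv, List.prod_cons,
        List.prod_nil, mul_one]
      rw [permSU_alt4, hh4, mul_inv_cancel]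
    have hcj : ∀ e x y, permSU e * blk4 hN x * (permSU e)⁻¹ = blk4 hN y →
        evalW (permSU (F := K4) (q := 2) (N := N)) (blk4 hN) (cjw e x y) = 1 := fun e x y h => by
      simp only [evalW, cjw, List.map_cons, List.map_nil, Sum.elim_inl, Sum.elim_inr, map_inv, List.prod_cons,
        List.prod_nil, mul_one, ← mul_assoc]
      rw [h, mul_inv_cancel]
    have hk : ∀ (e : A) {k k' : ℕ} (κ : Fin k ↪ Fin 4) (κ' : Fin k' ↪ Fin 4),
        (∀ i j, h4 (κ i) ≠ (e : Perm (Fin N)) (h4 (κ' j))) → ∀ x y,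
        evalW (permSU (F := K4) (q := 2) (N := N)) (blk4 hN) (kw e (blk κ x) (blk κ' y)) = 1 := by
      intro e k k' κ κ' hd x y
      have hc : Commute (blk4 hN (blk κ x)) (permSU e * blk4 hN (blk κ' y) * (permSU e)⁻¹) := by
        rw [blk_blk, blk_blk, blk_perm]
        exact blk_commute _ _ hd x y
      simp only [evalW, kw, List.map_cons, List.map_nil, Sum.elim_inl, Sum.elim_inr, map_inv, List.prod_cons,
        List.prod_nil, mul_one]
      have := hc.eq
      rw [← mul_inv_eq_one, mul_inv_rev] at this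
      rw [← this]; group
    have hd5 : ∀ (i : Fin 3) (j : Fin 2), h4 (w34 i) ≠ (π5 hN : Perm (Fin N)) (h4 (κ2 j)) := by
      intro i j
      have : (((π5 hN : Perm (Fin N)) (h4 (κ2 j)) : Fin N) : ℕ) = j + 3 := by
        rw [π5, swap2_val, Equiv.swap_apply_def, Equiv.swap_apply_def]
        fin_cases j <;> simp [Fin.ext_iff, hh4, head4, κ2, κ01, w34]
      intro e
      have e' := congrArg Fin.val e
      rw [this] at e'
      have := i.isLt
      change (i : ℕ) = _ at e'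
      omega
    have hd6 : ∀ (h6 : 6 ≤ N) (i : Fin 3) (j : Fin 3), h4 (w34 i) ≠ (π6 h6 : Perm (Fin N)) (h4 (w34 j)) := by
      intro h6 i j
      have : 3 ≤ (((π6 h6 : Perm (Fin N)) (h4 (w34 j)) : Fin N) : ℕ) := by
        rw [π6, Subgroup.coe_mul, Perm.mul_apply, swap2_val, swap2_val]
        simp only [Equiv.swap_apply_def]
        fin_cases j <;> simp [Fin.ext_iff, hh4, head4, w34]
      intro e
      have e' := congrArg Fin.val e
      have := i.isLt
      change (i : ℕ) = _ at e'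
      omega
    intro w hw
    rw [List.mem_append] at hw
    rcases hw with hw | hw
    · simp only [List.mem_cons, List.not_mem_nil, or_false] at hw
      rcases hw with rfl | rfl | rfl | rfl | rfl | rfl | rfl | rfl | rfl | rfl | rfl | rfl
      exacts [hid _, hid _, hcj _ _ _ (hy4 _ _ hs), hcj _ _ _ (hy4 _ _ hs), hcj _ _ _ (hy4 _ _ ht),
        hcj _ _ _ (hy4 _ _ ht), hcj _ _ _ (hy3 _), hcj _ _ _ (hy3 _), hk _ _ _ hd5 _ _, hk _ _ _ hd5 _ _,
        hk _ _ _ hd5 _ _, hk _ _ _ hd5 _ _]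
    · simp only [L6] at hw
      split_ifs at hw with h6
      · simp only [List.mem_cons, List.not_mem_nil, or_false] at hw
        rcases hw with rfl | rfl | rfl | rfl <;> exact hk _ _ _ (hd6 h6) _ _
      · simp at hw
  intro G _ ι f Φ hι hf hgen hr
  simp only [List.forall_mem_append, List.forall_mem_cons, List.not_mem_nil, false_imp_iff, implies_true,
    and_true] at hr
  obtain ⟨⟨i1, i2, s1, s2, t1, t2, m1, m2, k1, k2, k3, k4⟩, hr6⟩ := hr
  have hid : ∀ π, evalW ι f (idw π) = 1 → ι (alt4 h4 π) = f (permSU π) := fun π h => by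
    simp only [evalW, idw, List.map_cons, List.map_nil, Sum.elim_inl, Sum.elim_inr, map_inv, List.prod_cons,
      List.prod_nil, mul_one, mul_inv_eq_one] at h
    exact h
  have hcj : ∀ e x y, evalW ι f (cjw e x y) = 1 → ι e * f x * (ι e)⁻¹ = f y := fun e x y h => by
    simp only [evalW, cjw, List.map_cons, List.map_nil, Sum.elim_inl, Sum.elim_inr, map_inv, List.prod_cons,
      List.prod_nil, mul_one, ← mul_assoc] at h
    exact mul_inv_eq_one.1 h
  have hkk : ∀ e x y, evalW ι f (kw e x y) = 1 → Commute (f x) (ι e * f y * (ι e)⁻¹) := fun e x y h => by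
    simp only [evalW, kw, List.map_cons, List.map_nil, Sum.elim_inl, Sum.elim_inr, map_inv, List.prod_cons,
      List.prod_nil, mul_one] at h
    show _ = _
    rw [← mul_inv_eq_one, mul_inv_rev]
    rw [← h]; group
  have hidt : ∀ π, ι (alt4 h4 π) = f (permSU π) := fun π =>
    alt_four_gen (H := (ι.comp (alt4 h4)).eqLocus (f.comp permSU)) (hid _ i1) (hid _ i2) π
  have hnorm : ∀ (e : A) {k : ℕ} (κ : Fin k ↪ Fin 4) (a b : Cfsg.SU k K4 2),
      (∀ S : Subgroup (Cfsg.SU k K4 2), a ∈ S → b ∈ S → S = ⊤) →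
      ι e * f (blk κ a) * (ι e)⁻¹ ∈ (f.comp (blk κ)).range → ι e * f (blk κ b) * (ι e)⁻¹ ∈ (f.comp (blk κ)).range →
      ∀ x, ι e * f (blk κ x) * (ι e)⁻¹ ∈ (f.comp (blk κ)).range := by
    intro e k κ a b hab ha hb x
    have := hab (((f.comp (blk κ)).range).comap ((MulAut.conj (ι e)).toMonoidHom.comp (f.comp (blk κ)))) ha hb
    exact (this ▸ Subgroup.mem_top x : x ∈ ((f.comp (blk κ)).range).comap
      ((MulAut.conj (ι e)).toMonoidHom.comp (f.comp (blk κ))))
  have hst4 : ∀ π, Keeps 4 π → ∀ x, ι π * f x * (ι π)⁻¹ ∈ f.range := by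
    haveI : Finite f.range := Finite.of_surjective _ f.rangeRestrict_surjective
    let H : Subgroup A := (Subgroup.normalizer (f.range : Set G)).comap ι
    have hmem : ∀ e : A, (∀ x, ι e * f x * (ι e)⁻¹ ∈ f.range) → e ∈ H := fun e he => by
      rw [Subgroup.mem_comap, Subgroup.mem_normalizer_iff]
      have heq : f.range.map (MulAut.conj (ι e)).toMonoidHom = f.range := Subgroup.eq_of_le_of_card_ge
        (by rintro _ ⟨_, ⟨x, rfl⟩, rfl⟩; exact he x)
        (le_of_eq (Nat.card_congr (f.range.equivMapOfInjective _ (MulAut.conj (ι e)).injective).toEquiv))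
      intro z
      constructor
      · intro hz; exact heq.le ⟨z, hz, rfl⟩
      · intro hz
        obtain ⟨z', hz', e'⟩ := heq.ge hz
        rw [← (MulAut.conj (ι e)).injective e']; exact hz'
    have hgens : ∀ e : A, evalW ι f (cjw e a4 (y4 e a4)) = 1 → evalW ι f (cjw e b4 (y4 e b4)) = 1 → e ∈ H := by
      intro e ha hb
      refine hmem e fun x => ?_
      have := gen_four (S := f.range.comap ((MulAut.conj (ι e)).toMonoidHom.comp f))
        ⟨_, (hcj _ _ _ ha).symm⟩ ⟨_, (hcj _ _ _ hb).symm⟩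
      exact (this ▸ Subgroup.mem_top x : x ∈ f.range.comap ((MulAut.conj (ι e)).toMonoidHom.comp f))
    intro π hπ x
    have hπH : π ∈ H := hst H (fun τ => hmem _ fun y => by
      rw [hidt, ← map_inv, ← map_mul, ← map_mul]; exact ⟨_, rfl⟩) (hgens s s1 s2) (hgens t t1 t2) π hπ
    exact (Subgroup.mem_normalizer_iff.1 hπH (f x)).1 ⟨x, rfl⟩
  have hmove := hnorm (e34 hN) w34 v1 v2 (fun S h h' => gen_three_two h h')
    ⟨_, (hcj _ _ _ m1).symm⟩ ⟨_, (hcj _ _ _ m2).symm⟩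
  have hfar5 := commute_closure (f.comp (blk w34)) ((MulAut.conj (ι (π5 hN))).toMonoidHom.comp (f.comp (blk κ2)))
    (fun S h h' => gen_three_two h h') (fun S h h' => gen_two h h')
    (hkk _ _ _ k1) (hkk _ _ _ k2) (hkk _ _ _ k3) (hkk _ _ _ k4)
  have hfar6 : ∀ h6 : 6 ≤ N, ∀ x y, Commute (f (blk w34 x)) (ι (π6 h6) * f (blk w34 y) * (ι (π6 h6))⁻¹) := by
    intro h6
    simp only [L6, dif_pos h6, List.forall_mem_cons, List.not_mem_nil, false_imp_iff, implies_true, and_true] at hr6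
    obtain ⟨l1, l2, l3, l4⟩ := hr6
    exact commute_closure (f.comp (blk w34)) ((MulAut.conj (ι (π6 h6))).toMonoidHom.comp (f.comp (blk w34)))
      (fun S h h' => gen_three_two h h') (fun S h h' => gen_three_two h h')
      (hkk _ _ _ l1) (hkk _ _ _ l2) (hkk _ _ _ l3) (hkk _ _ _ l4)
  exact Gl2.bijective
    (⟨hN, ι, f, Φ, DFunLike.congr_fun hι, DFunLike.congr_fun hf, hidt, hst4, hmove, hfar5, hfar6, hgen⟩ : Gl2 N G)

theorem su_two_K (N : ℕ) (hN : 4 ≤ N) :
    PresN (Cfsg.SU N K4 2) 6 (if N = 4 then 9 else 29) := by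
  obtain ⟨R, hR, ⟨e⟩⟩ := pres_four_two
  by_cases h : N = 4
  · subst h
    rw [if_pos rfl]
    exact (PresN.pad (T := Cfsg.SU 4 K4 2) ⟨R, hR, ⟨e⟩⟩ (show 2 ≤ 6 by norm_num)).mono le_rfl
  rw [if_neg h]
  obtain ⟨L, hL, hsound, hout⟩ := exists_glue_two (show 5 ≤ N by omega)
  refine PresN.mono (presN_of_words (presN_alt N hN)
    (PresN.pad (T := Cfsg.SU 4 K4 2) ⟨R, hR, ⟨e⟩⟩ (show 2 ≤ 3 by norm_num))
    (permSU (F := K4) (q := 2)) (blk4 (show 5 ≤ N by omega)) L hsound hout) ?_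
  rw [if_neg h]
  omega

end Cfsg.Lib.SUPres.Two

namespace Cfsg.Lib.SUPres

open Cfsg.Lib.SLnPres (PresN)

universe u

/-- The presentations over four elements. -/
theorem su_two {F : Type u} [Field F] [Fintype F] (hF : Fintype.card F = 2 ^ 2) (N : ℕ) (hN : 4 ≤ N) :
    PresN (Cfsg.SU N F 2) 6 (if N = 4 then 9 else 29) := by
  obtain ⟨R, hR, ⟨e⟩⟩ := Two.su_two_K N hN
  exact ⟨R, hR, ⟨e.trans (suCongr (FiniteField.ringEquivOfCardEq (K := Two.K4) (K' := F) (Two.card_K4.trans hF.symm)))⟩⟩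

end Cfsg.Lib.SUPres
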