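import Cfsg.Agent.Pres.SU.NineBig
import Cfsg.Agent.Pres.SU.TwoBig
import Cfsg.Agent.S2412

/-! # All the presentations of the special unitary groups -/

set_option autoImplicit false
set_option linter.unusedSectionVars false

namespace Cfsg.Lib.SUPres

open Cfsg.Lib.SLnPres (PresN)

universe u

variable {F : Type u} [Field F] [Fintype F] {q : ℕ}

theorem two_le_q (hF : Fintype.card F = q ^ 2) : 2 ≤ q := by
  have h := Fintype.one_lt_card (α := F)
  rw [hF] at h
  by_contra hc
  interval_cases q <;> simp_all

/-- Six generators in every dimension from four on. -/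
theorem su_all (hF : Fintype.card F = q ^ 2) (N : ℕ) (hN : 4 ≤ N) :
    PresN (Cfsg.SU N F q) 6 (if N = 4 then 32 else if N = 5 then 35 else 39) := by
  have h2 := two_le_q hF
  rcases (show q = 2 ∨ q = 3 ∨ 4 ≤ q by omega) with rfl | rfl | hq
  · refine (su_two hF N hN).mono ?_
    split_ifs <;> omega
  · refine (su_nine hF N hN).mono ?_
    split_ifs <;> omega
  · refine (su_big hF hq N hN).mono ?_
    split_ifs <;> omega

theorem psu_pair (hF : Fintype.card F = q ^ 2) {n : ℕ} (hn : 3 ≤ n) (h32 : ¬(n = 3 ∧ q = 2)) :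
    PresN (Cfsg.PSU n F q) 2 80 := by
  have h2 := two_le_q hF
  have hpp : IsPrimePow q := by
    have h : IsPrimePow (Fintype.card F) := Fintype.isPrimePow_card_of_field
    rwa [hF, isPrimePow_pow_iff two_ne_zero] at h
  obtain ⟨a, b, hab⟩ := Cfsg.Agent.S2412.result hpp hF n hn fun h3 hq => h32 ⟨h3, hq⟩
  rcases eq_or_lt_of_le hn with h3 | h4
  · subst h3
    exact ((psu_three hF (by omega)).pair a b hab).mono (by norm_num)
  · refine ((psu_of_su hF (by omega) (su_all hF n h4)).pair a b hab).mono ?_
    split_ifs <;> omega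

end Cfsg.Lib.SUPres
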