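import Cfsg.Agent.Pres.SU.NineData

/-! The checks of the table of index 2160. -/

set_option autoImplicit false
set_option Elab.async false

namespace Cfsg.Lib.SUPres.NineTab

open Cfsg.Lib.CosetTable

theorem join_rowsOK (a b k c e : ℕ) (hk : a + b = k) (he : b + c = e) (h1 : cert.rowsOK a b = true)
    (h2 : cert.rowsOK k c = true) : cert.rowsOK a e = true := by
  subst hk he; exact rowsOK_cat cert h1 h2

theorem join_entsOK (a b k c e : ℕ) (hk : a + b = k) (he : b + c = e) (h1 : cert.entsOK a b = true)
    (h2 : cert.entsOK k c = true) : cert.entsOK a e = true := by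
  subst hk he; exact entsOK_cat cert h1 h2

theorem join_stepsOK (a b k c e : ℕ) (hk : a + b = k) (he : b + c = e) (h1 : cert.stepsOK a b = true)
    (h2 : cert.stepsOK k c = true) : cert.stepsOK a e = true := by
  subst hk he; exact stepsOK_cat cert h1 h2

theorem stepsOK_0 : cert.stepsOK 0 500 = true := by decide +kernel

theorem stepsOK_1 : cert.stepsOK 500 500 = true := by decide +kernel

theorem stepsOK_2 : cert.stepsOK 1000 500 = true := by decide +kernel

theorem stepsOK_3 : cert.stepsOK 1500 500 = true := by decide +kernel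

theorem stepsOK_4 : cert.stepsOK 2000 500 = true := by decide +kernel

theorem stepsOK_5 : cert.stepsOK 2500 500 = true := by decide +kernel

theorem stepsOK_6 : cert.stepsOK 3000 500 = true := by decide +kernel

theorem stepsOK_7 : cert.stepsOK 3500 500 = true := by decide +kernel

theorem stepsOK_8 : cert.stepsOK 4000 500 = true := by decide +kernel

theorem stepsOK_9 : cert.stepsOK 4500 500 = true := by decide +kernel

theorem stepsOK_10 : cert.stepsOK 5000 500 = true := by decide +kernel

theorem stepsOK_11 : cert.stepsOK 5500 500 = true := by decide +kernel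

theorem stepsOK_12 : cert.stepsOK 6000 500 = true := by decide +kernel

theorem stepsOK_13 : cert.stepsOK 6500 500 = true := by decide +kernel

theorem stepsOK_14 : cert.stepsOK 7000 500 = true := by decide +kernel

theorem stepsOK_15 : cert.stepsOK 7500 72 = true := by decide +kernel

theorem stepsOK_all : cert.stepsOK 0 7572 = true :=
  (join_stepsOK 0 7500 7500 72 7572 rfl rfl (join_stepsOK 0 7000 7000 500 7500 rfl rfl (join_stepsOK 0 6500 6500 500 7000 rfl rfl (join_stepsOK 0 6000 6000 500 6500 rfl rfl (join_stepsOK 0 5500 5500 500 6000 rfl rfl (join_stepsOK 0 5000 5000 500 5500 rfl rfl (join_stepsOK 0 4500 4500 500 5000 rfl rfl (join_stepsOK 0 4000 4000 500 4500 rfl rfl (join_stepsOK 0 3500 3500 500 4000 rfl rfl (join_stepsOK 0 3000 3000 500 3500 rfl rfl (join_stepsOK 0 2500 2500 500 3000 rfl rfl (join_stepsOK 0 2000 2000 500 2500 rfl rfl (join_stepsOK 0 1500 1500 500 2000 rfl rfl (join_stepsOK 0 1000 1000 500 1500 rfl rfl (join_stepsOK 0 500 500 500 1000 rfl rfl stepsOK_0 stepsOK_1) stepsOK_2) stepsOK_3) stepsOK_4) stepsOK_5)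 stepsOK_6) stepsOK_7) stepsOK_8) stepsOK_9) stepsOK_10) stepsOK_11) stepsOK_12) stepsOK_13) stepsOK_14) stepsOK_15)

theorem entsOK_0 : cert.entsOK 0 250 = true := by decide +kernel

theorem entsOK_1 : cert.entsOK 250 250 = true := by decide +kernel

theorem entsOK_2 : cert.entsOK 500 250 = true := by decide +kernel

theorem entsOK_3 : cert.entsOK 750 250 = true := by decide +kernel

theorem entsOK_4 : cert.entsOK 1000 250 = true := by decide +kernel

theorem entsOK_5 : cert.entsOK 1250 250 = true := by decide +kernel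

theorem entsOK_6 : cert.entsOK 1500 250 = true := by decide +kernel

theorem entsOK_7 : cert.entsOK 1750 250 = true := by decide +kernel

theorem entsOK_8 : cert.entsOK 2000 160 = true := by decide +kernel

theorem entsOK_all : cert.entsOK 0 2160 = true :=
  (join_entsOK 0 2000 2000 160 2160 rfl rfl (join_entsOK 0 1750 1750 250 2000 rfl rfl (join_entsOK 0 1500 1500 250 1750 rfl rfl (join_entsOK 0 1250 1250 250 1500 rfl rfl (join_entsOK 0 1000 1000 250 1250 rfl rfl (join_entsOK 0 750 750 250 1000 rfl rfl (join_entsOK 0 500 500 250 750 rfl rfl (join_entsOK 0 250 250 250 500 rfl rfl entsOK_0 entsOK_1) entsOK_2) entsOK_3) entsOK_4) entsOK_5) entsOK_6) entsOK_7) entsOK_8)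

theorem rowsOK_0 : cert.rowsOK 0 500 = true := by decide +kernel

theorem rowsOK_1 : cert.rowsOK 500 500 = true := by decide +kernel

theorem rowsOK_2 : cert.rowsOK 1000 500 = true := by decide +kernel

theorem rowsOK_3 : cert.rowsOK 1500 500 = true := by decide +kernel

theorem rowsOK_4 : cert.rowsOK 2000 160 = true := by decide +kernel

theorem rowsOK_all : cert.rowsOK 0 2160 = true :=
  (join_rowsOK 0 2000 2000 160 2160 rfl rfl (join_rowsOK 0 1500 1500 500 2000 rfl rfl (join_rowsOK 0 1000 1000 500 1500 rfl rfl (join_rowsOK 0 500 500 500 1000 rfl rfl rowsOK_0 rowsOK_1) rowsOK_2) rowsOK_3) rowsOK_4)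

theorem valid : cert.Valid :=
  ⟨by decide, by decide +kernel, stepsOK_all, entsOK_all⟩

end Cfsg.Lib.SUPres.NineTab
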