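import Cfsg.Agent.Pres.SU.NineMat
import Cfsg.Agent.Pres.SU.NineCheck
import Cfsg.Agent.Classical.Unitary.Simple

/-! # The special unitary group of degree four over nine elements from the table -/

set_option autoImplicit false
set_option maxHeartbeats 1000000
set_option maxRecDepth 100000
set_option linter.unusedSectionVars false
set_option linter.unusedSimpArgs false
set_option linter.unusedVariables false
set_option linter.style.haveILetI false

namespace Cfsg.Lib.SUPres.Nine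

open Equiv
open Cfsg.Lib.Known.Phan
open Cfsg.Lib.UFourThreeCover (K card_K)
open Cfsg.Lib.CosetTable (wval)

instance factK : Fact (Fintype.card K = 3 ^ 2) := ⟨card_K⟩

/-- The element `i`. -/
def ii : K := ⟨0, 1⟩
/-- The element `1 + i`. -/
def al : K := ⟨1, 1⟩

theorem cb_eq (x : K) : cb K 3 x = x ^ 3 := cb_apply x

/-- The diagonal generator of the rank one group. -/
noncomputable def a2 : Cfsg.SU 2 K 3 := su2 ii 0 (by rw [cb_eq, cb_eq]; decide +kernel)
/-- The other generator of the rank one group. -/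
noncomputable def b2 : Cfsg.SU 2 K 3 := su2 al al (by rw [cb_eq]; decide +kernel)

/-- The matrix of the diagonal generator. -/
def A2 : Matrix (Fin 2) (Fin 2) K := !![ii, 0; 0, -ii]
/-- The matrix of the other generator. -/
def B2 : Matrix (Fin 2) (Fin 2) K := !![al, -(al ^ 3); al, al ^ 3]

theorem mat_a2 : mat a2 = A2 := by
  rw [a2, mat_su2, cb_eq, cb_eq]
  decide +kernel

theorem mat_b2 : mat b2 = B2 := by
  rw [b2, mat_su2, cb_eq]
  decide +kernel

/-- The three letters in the rank one group. -/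
noncomputable def g2 : ℕ → Cfsg.SU 2 K 3
  | 2 => a2
  | 3 => b2
  | 5 => a2⁻¹
  | 6 => b2⁻¹
  | _ => 1

/-- Their matrices. -/
def M2 : ℕ → Matrix (Fin 2) (Fin 2) K
  | 2 => A2
  | 3 => B2
  | 5 => A2 * A2 * A2
  | 6 => B2 * B2
  | _ => 1

theorem mat_a2_inv : mat a2⁻¹ = A2 * A2 * A2 := mat_inv_of_mul (by rw [mat_a2]; decide +kernel)

theorem mat_b2_inv : mat b2⁻¹ = B2 * B2 := mat_inv_of_mul (by rw [mat_b2]; decide +kernel)

theorem mat_g2 : ∀ l, mat (g2 l) = M2 l
  | 0 => rfl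
  | 1 => rfl
  | 2 => mat_a2
  | 3 => mat_b2
  | 4 => rfl
  | 5 => mat_a2_inv
  | 6 => mat_b2_inv
  | _ + 7 => rfl

/-- The cycle on four points. -/
def c4 : alternatingGroup (Fin 4) := ⟨swap 0 1 * swap 1 2, Perm.mem_alternatingGroup.2 (by decide)⟩
/-- The double transposition on four points. -/
def p4 : alternatingGroup (Fin 4) := ⟨swap 0 1 * swap 2 3, Perm.mem_alternatingGroup.2 (by decide)⟩

/-- The first three of four coordinates. -/
def w34 : Fin 3 ↪ Fin 4 := Fin.castLEEmb (by norm_num)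

/-- The letters in the rank two group. -/
noncomputable def g3 (l : ℕ) : Cfsg.SU 3 K 3 :=
  if l = 0 then permSU cyc3 else if l = 4 then (permSU cyc3)⁻¹ else blk κ01 (g2 l)

/-- The matrix of the cycle on three points. -/
def C3 : Matrix (Fin 3) (Fin 3) K := Matrix.of fun i j => if (cyc3 : Perm (Fin 3)) j = i then 1 else 0

/-- Their matrices. -/
def M3 (l : ℕ) : Matrix (Fin 3) (Fin 3) K :=
  if l = 0 then C3 else if l = 4 then C3 * C3 else pat κ01 (M2 l)

theorem mat_g3 (l : ℕ) : mat (g3 l) = M3 l := by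
  unfold g3 M3
  split_ifs
  · exact mat_permSU cyc3
  · exact mat_inv_of_mul (by rw [mat_permSU]; decide +kernel)
  · rw [mat_blk, mat_g2]

/-- The letters in the rank three group. -/
noncomputable def g4 (l : ℕ) : Cfsg.SU 4 K 3 := if l = 1 then permSU p4 else blk w34 (g3 l)

/-- Their matrices. -/
def M4 (l : ℕ) : Matrix (Fin 4) (Fin 4) K :=
  if l = 1 then Matrix.of fun i j => if (p4 : Perm (Fin 4)) j = i then 1 else 0 else pat w34 (M3 l)

theorem mat_g4 (l : ℕ) : mat (g4 l) = M4 l := by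
  unfold g4 M4
  split_ifs
  · exact mat_permSU p4
  · rw [mat_blk, mat_g3]

theorem blk_c4 : blk w34 (permSU cyc3) = permSU (F := K) (q := 3) c4 := by
  refine mat_ext' ?_
  rw [mat_blk, mat_permSU, mat_permSU]
  decide +kernel

/-- The extra words. -/
def extra : List (List ℕ) := [NineTab.rels.getD 9 [], NineTab.rels.getD 10 []]

theorem extra_true : ∀ w ∈ extra, wval g4 w = 1 := by
  have h : ∀ w ∈ extra, (w.map M4).prod = 1 := by decide +kernel
  exact fun w hw => wval_eq_one (fun l _ => mat_g4 l) (h w hw)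

/-- The words of the rank two group. -/
theorem threeRels_true : ∀ w ∈ NineTab.rels.drop 11, (∀ l ∈ w, l ≠ 1) ∧ wval g3 w = 1 := by
  have h : ∀ w ∈ NineTab.rels.drop 11, (∀ l ∈ w, l ≠ 1) ∧ (w.map M3).prod = 1 := by decide +kernel
  exact fun w hw => ⟨(h w hw).1, wval_eq_one (fun l _ => mat_g3 l) (h w hw).2⟩

/-- Twenty-four words in the rank one group. -/
def twoWords : List (List ℕ) :=
  [[], [2], [5], [3], [6], [2, 2], [2, 3], [2, 6], [5, 3], [5, 6], [3, 2], [3, 5], [6, 2], [6, 5], [2, 2, 3],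
    [2, 2, 6], [2, 3, 2], [2, 3, 5], [2, 6, 2], [2, 6, 5], [3, 2, 6], [3, 5, 6], [6, 2, 3], [6, 5, 3]]

theorem two_gen {S : Subgroup (Cfsg.SU 2 K 3)} (ha : a2 ∈ S) (hb : b2 ∈ S) : S = ⊤ := by
  refine eq_top_iff.2 fun g _ => ?_
  have key : ∀ a b : K, a * a ^ 3 + b * b ^ 3 = 1 →
      ∃ w ∈ twoWords, (w.map M2).prod 0 0 = a ∧ (w.map M2).prod 1 0 = b := by decide +kernel
  obtain ⟨w, -, h0, h1⟩ := key (mat g 0 0) (mat g 1 0) (by have := su2_norm g; rwa [cb_eq, cb_eq] at this)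
  have hg : wval g2 w = g := su2_ext (by rw [mat_wval w fun l _ => mat_g2 l, h0])
    (by rw [mat_wval w fun l _ => mat_g2 l, h1])
  rw [← hg]
  refine S.list_prod_mem fun x hx => ?_
  obtain ⟨l, -, rfl⟩ := List.mem_map.1 hx
  unfold g2
  split <;> first | exact ha | exact hb | exact inv_mem ha | exact inv_mem hb | exact one_mem _

theorem three_gen {S : Subgroup (Cfsg.SU 3 K 3)} (hc : permSU cyc3 ∈ S) (ha : blk κ01 a2 ∈ S)
    (hb : blk κ01 b2 ∈ S) : S = ⊤ := by
  have h01 : (blk κ01).range ≤ S := by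
    have := two_gen (S := S.comap (blk κ01)) ha hb
    rintro _ ⟨x, rfl⟩
    exact (this ▸ Subgroup.mem_top x : x ∈ S.comap (blk κ01))
  refine gen_three le_rfl S h01 ?_
  rintro _ ⟨x, rfl⟩
  have e : κ12 = κ01.trans (cyc3 : Perm (Fin 3)).toEmbedding := by
    ext i : 1
    revert i
    decide
  rw [e, ← blk_perm]
  exact mul_mem (mul_mem hc (h01 ⟨x, rfl⟩)) (inv_mem hc)

theorem four_gen {S : Subgroup (Cfsg.SU 4 K 3)} (h3 : (blk w34).range ≤ S)
    (hπ : (permSU (F := K) (q := 3) (N := 4)).range ≤ S) : S = ⊤ := by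
  refine eq_top_iff.2 ?_
  rw [← MonoidHom.range_eq_top.2 (show Function.Surjective (MonoidHom.id (Cfsg.SU 4 K 3)) from fun x => ⟨x, rfl⟩)]
  refine range_le_of_blocks le_rfl (by norm_num) (MonoidHom.id _) fun j hj => ?_
  rintro _ ⟨x, rfl⟩
  show blk (win 2 j hj) x ∈ S
  rcases (show j = 0 ∨ j = 1 ∨ j = 2 by omega) with rfl | rfl | rfl
  · have e : win 2 0 hj = κ01.trans w34 := by
      ext i : 1; decide +revert
    rw [e, ← blk_blk]
    exact h3 ⟨_, rfl⟩
  · have e : win 2 1 hj = κ12.trans w34 := by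
      ext i : 1; decide +revert
    rw [e, ← blk_blk]
    exact h3 ⟨_, rfl⟩
  · let π : alternatingGroup (Fin 4) := ⟨swap 0 2 * swap 1 3, Perm.mem_alternatingGroup.2 (by decide)⟩
    have e : win 2 2 hj = (κ01.trans w34).trans (π : Perm (Fin 4)).toEmbedding := by
      ext i : 1; decide +revert
    rw [e, ← blk_perm, ← blk_blk]
    exact mul_mem (mul_mem (hπ ⟨_, rfl⟩) (h3 ⟨_, rfl⟩)) (inv_mem (hπ ⟨_, rfl⟩))

theorem card_four : Nat.card (Cfsg.SU 4 K 3) = 13063680 := by
  rw [Subgroup.card_eq_card_quotient_mul_card_subgroup (Subgroup.center (Cfsg.SU 4 K 3)),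
    Cfsg.Lib.Classical.card_center_SU (F := K) (q := 3) card_K (by norm_num)]
  show Nat.card (Cfsg.PSU 4 K 3) * _ = _
  rw [Cfsg.Lib.UFourThreeCover.card_psu]
  decide

theorem card_three : Nat.card (Cfsg.SU 3 K 3) = 6048 := by
  rw [Subgroup.card_eq_card_quotient_mul_card_subgroup (Subgroup.center (Cfsg.SU 3 K 3)),
    Cfsg.Lib.Classical.card_center_SU (F := K) (q := 3) card_K (by norm_num)]
  have h := Cfsg.Agent.S0280.result (F := K) (q := 3) card_K 3 (by norm_num)
  norm_num [Finset.prod_range_succ, Nat.even_add_one] at h ⊢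
  show Nat.card (Cfsg.PSU 3 K 3) = _
  omega

section Group

variable {G : Type*} [Group G] (ι4 : alternatingGroup (Fin 4) →* G) (f : Cfsg.SU 3 K 3 →* G)

/-- The letters in a group. -/
noncomputable def im : ℕ → G
  | 0 => ι4 c4
  | 1 => ι4 p4
  | 4 => (ι4 c4)⁻¹
  | l => f (g3 l)

theorem im_three (hcyc : ι4 c4 = f (permSU cyc3)) {l : ℕ} (hl : l ≠ 1) : im ι4 f l = f (g3 l) := by
  rcases l with _ | _ | _ | _ | _ | l
  · exact hcyc
  · exact absurd rfl hl
  · rfl
  · rfl
  · show (ι4 c4)⁻¹ = f (g3 4)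
    rw [hcyc, ← map_inv]; rfl
  · rfl

theorem im_alt {l : ℕ} (hl : l = 0 ∨ l = 1) : im ι4 f l = ι4 (if l = 0 then c4 else p4) := by
  rcases hl with rfl | rfl <;> rfl

/-- The amalgam is the special unitary group of degree four. -/
theorem exists_four {N : ℕ} (Φ : G →* Cfsg.SU N K 3) (w4 : Fin 4 ↪ Fin N)
    (hΦι : ∀ π, Φ (ι4 π) = blk w4 (permSU π)) (hΦf : ∀ x, Φ (f x) = blk w4 (blk w34 x))
    (hcyc : ι4 c4 = f (permSU cyc3))
    (hstab : ∀ x, ι4 p4 * f (blk κ01 x) * (ι4 p4)⁻¹ ∈ (f.comp (blk κ01)).range)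
    (hcomm : ∀ x y, Commute (f (blk κ01 x)) (ι4 (c4⁻¹ * p4 * c4) * f (blk κ01 y) * (ι4 (c4⁻¹ * p4 * c4))⁻¹))
    (hE : ∀ w ∈ extra, wval (im ι4 f) w = 1) :
    ∃ g : Cfsg.SU 4 K 3 →* G, ι4.range ≤ g.range ∧ f.range ≤ g.range := by
  set m := im ι4 f with hm
  have h2 : p4 * p4 = 1 := Subtype.ext (by decide)
  have hpinv : (ι4 p4)⁻¹ = ι4 p4 := inv_eq_of_mul_eq_one_right (by rw [← map_mul, h2, map_one])
  have hG : ∀ x y : Cfsg.SU 2 K 3,
      permSU (F := K) (q := 3) p4 * blk w34 (blk κ01 x) * (permSU p4)⁻¹ = blk w34 (blk κ01 y) →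
      ι4 p4 * f (blk κ01 x) * ι4 p4 = f (blk κ01 y) := by
    intro x y h
    obtain ⟨z, hz⟩ := hstab x
    rw [hpinv] at hz
    have e := congrArg Φ hz.symm
    simp only [MonoidHom.comp_apply, map_mul, map_inv, hΦι, hΦf] at e
    rw [← hz, MonoidHom.comp_apply]
    have hp : (permSU (F := K) (q := 3) p4)⁻¹ = permSU p4 := by
      rw [← map_inv, inv_eq_of_mul_eq_one_right h2]
    rw [hp] at h
    rw [← map_mul, ← map_mul, h] at e
    rw [blk_injective _ (blk_injective _ (blk_injective _ e))]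
  have hpm : ∀ x, permSU (F := K) (q := 3) p4 * x * (permSU p4)⁻¹ = g4 1 * x * g4 1 := fun x => by
    rw [← map_inv, inv_eq_of_mul_eq_one_right h2]; rfl
  have h2s : ∀ l, l ≠ 0 → l ≠ 1 → l ≠ 4 → f (blk κ01 (g2 l)) = m l := fun l h0 h1 h4 => by
    rw [hm, im_three ι4 f hcyc h1, g3, if_neg h0, if_neg h4]
  have h4s : ∀ l, l ≠ 0 → l ≠ 1 → l ≠ 4 → blk w34 (blk κ01 (g2 l)) = g4 l := fun l h0 h1 h4 => by
    rw [g4, if_neg h1, g3, if_neg h0, if_neg h4]
  have hga : m 1 * m 2 * m 1 = m 5 := by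
    rw [← h2s 2 (by norm_num) (by norm_num) (by norm_num), ← h2s 5 (by norm_num) (by norm_num) (by norm_num)]
    refine hG _ _ (mat_ext' ?_)
    rw [hpm, h4s 2 (by norm_num) (by norm_num) (by norm_num), h4s 5 (by norm_num) (by norm_num) (by norm_num),
      mat_mul', mat_mul', mat_g4, mat_g4, mat_g4]
    decide +kernel
  have hgb : m 1 * m 3 * m 1 = m 5 * m 3 := by
    rw [← h2s 3 (by norm_num) (by norm_num) (by norm_num), ← h2s 5 (by norm_num) (by norm_num) (by norm_num),
      ← map_mul, ← map_mul (blk κ01)]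
    refine hG _ _ (mat_ext' ?_)
    rw [hpm, map_mul, map_mul, h4s 3 (by norm_num) (by norm_num) (by norm_num),
      h4s 5 (by norm_num) (by norm_num) (by norm_num), mat_mul', mat_mul', mat_mul', mat_g4, mat_g4, mat_g4]
    decide +kernel
  have hrel : ∀ r ∈ NineTab.rels, wval m r = 1 := by
    have h01 : ∀ w, (∀ l ∈ w, l = 0 ∨ l = 1) →
        wval (fun l => if l = 0 then c4 else p4) w = 1 → wval m w = 1 := fun w hw e => by
      rw [wval_congr fun l hl => im_alt ι4 f (hw l hl), ← map_wval ι4, e, map_one]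
    have hk : ∀ x y : Cfsg.SU 2 K 3, ∀ a b a' b' : ℕ, f (blk κ01 x) = m a → f (blk κ01 y) = m b →
        (f (blk κ01 x))⁻¹ = m a' → (f (blk κ01 y))⁻¹ = m b' →
        wval m [a, 4, 1, 0, b, 4, 1, 0, a', 4, 1, 0, b', 4, 1, 0] = 1 := by
      intro x y a b a' b' ea eb ea' eb'
      have hc := hcomm x y
      rw [map_mul, map_mul, map_inv] at hc
      have e : (m 4 * m 1 * m 0)⁻¹ = m 4 * m 1 * m 0 := by
        show ((ι4 c4)⁻¹ * ι4 p4 * ι4 c4)⁻¹ = (ι4 c4)⁻¹ * ι4 p4 * ι4 c4
        rw [mul_inv_rev, mul_inv_rev, hpinv, inv_inv, mul_assoc]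
      have hc' : Commute (m a) ((m 4 * m 1 * m 0) * m b * (m 4 * m 1 * m 0)) := by
        nth_rw 2 [← e]
        rw [← ea, ← eb]
        exact hc
      simp only [wval, List.map_cons, List.map_nil, List.prod_cons, List.prod_nil, mul_one]
      set P := m 4 * m 1 * m 0 with hP
      calc _ = m a * (P * m b * P) * m a' * (P * m b' * P) := by rw [hP]; simp only [mul_assoc]
        _ = 1 := by
          rw [hc'.eq, ← ea', ← eb', ← ea, ← eb, mul_inv_cancel_right]
          have hPP : P * P = 1 := by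
            calc P * P = P⁻¹ * P := by rw [e]
              _ = 1 := inv_mul_cancel P
          calc _ = P * (f (blk κ01 y)) * (P * P) * (f (blk κ01 y))⁻¹ * P := by simp only [mul_assoc]
            _ = P * P := by rw [hPP]; simp only [mul_one, mul_assoc, mul_inv_cancel_left, hPP]
            _ = 1 := hPP
    have hspec : ∀ r ∈ NineTab.rels.take 11, wval m r = 1 := by
      intro r hr
      simp only [NineTab.rels, List.take_succ_cons, List.take_zero, List.mem_cons, List.not_mem_nil, or_false] at hr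
      have ea : f (blk κ01 a2) = m 2 := rfl
      have eb : f (blk κ01 b2) = m 3 := rfl
      have ea' : (f (blk κ01 a2))⁻¹ = m 5 := by rw [← map_inv, ← map_inv]; rfl
      have eb' : (f (blk κ01 b2))⁻¹ = m 6 := by rw [← map_inv, ← map_inv]; rfl
      rcases hr with rfl | rfl | rfl | rfl | rfl | rfl | rfl | rfl | rfl | rfl | rfl
      · exact h01 _ (by decide) (by decide +kernel)
      · exact h01 _ (by decide) (by decide +kernel)
      · exact h01 _ (by decide) (by decide +kernel)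
      · simp only [wval, List.map_cons, List.map_nil, List.prod_cons, List.prod_nil, mul_one, ← mul_assoc]
        rw [hga, ← ea', ← ea, inv_mul_cancel]
      · simp only [wval, List.map_cons, List.map_nil, List.prod_cons, List.prod_nil, mul_one, ← mul_assoc]
        rw [hgb, ← ea', ← eb', ← ea, ← eb]
        group
      · exact hk _ _ 2 2 5 5 ea ea ea' ea'
      · exact hk _ _ 2 3 5 6 ea eb ea' eb'
      · exact hk _ _ 3 3 6 6 eb eb eb' eb'
      · exact hk _ _ 3 2 6 5 eb ea eb' ea'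
      · exact hE _ List.mem_cons_self
      · exact hE _ (List.mem_cons_of_mem _ List.mem_cons_self)
    intro r hr
    rw [← List.take_append_drop 11 NineTab.rels, List.mem_append] at hr
    rcases hr with hr | hr
    · exact hspec r hr
    · obtain ⟨h1, e⟩ := threeRels_true r hr
      rw [wval_congr fun l hl => im_three ι4 f hcyc (h1 l hl), ← map_wval f, e, map_one]
  set K0 := f.range
  haveI : Finite K0 := Finite.of_surjective _ f.rangeRestrict_surjective
  have hS : NineTab.cert.Sound m K0 := by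
    refine ⟨fun l hl => ?_, ?_, hrel, ?_⟩
    · rcases l with _ | _ | _ | _ | _ | _ | _ | l
      · rfl
      · exact hpinv.symm
      · show f (g3 5) = (f (g3 2))⁻¹; rw [← map_inv]; exact congrArg f (map_inv (blk κ01) a2)
      · show f (g3 6) = (f (g3 3))⁻¹; rw [← map_inv]; exact congrArg f (map_inv (blk κ01) b2)
      · exact (inv_inv _).symm
      · show f (g3 2) = (f (g3 5))⁻¹; rw [← map_inv]; exact congrArg f (show blk κ01 a2 = (blk κ01 a2⁻¹)⁻¹ by rw [map_inv, inv_inv])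
      · show f (g3 3) = (f (g3 6))⁻¹; rw [← map_inv]; exact congrArg f (show blk κ01 b2 = (blk κ01 b2⁻¹)⁻¹ by rw [map_inv, inv_inv])
      · change l + 7 < 7 at hl; omega
    · decide
    · have h : ∀ r ∈ NineTab.cert.subs, ∀ l ∈ r, l ≠ 1 := by decide
      intro r hr
      rw [wval_congr fun l hl => im_three ι4 f hcyc (h r hr l hl), ← map_wval f]
      exact ⟨_, rfl⟩
  set H := Subgroup.closure (m '' Set.Iio 7) with hH
  obtain ⟨hfin, hle⟩ := CosetTable.card_le NineTab.cert m K0 NineTab.valid hS NineTab.rowsOK_all (L := H) le_rfl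
  have hmH : ∀ l, l < 7 → m l ∈ H := fun l hl => Subgroup.subset_closure ⟨l, hl, rfl⟩
  have hfH : f.range ≤ H := by
    have := three_gen (S := H.comap f)
      (show f (permSU cyc3) ∈ H by rw [← hcyc]; exact hmH 0 (by norm_num))
      (hmH 2 (by norm_num)) (hmH 3 (by norm_num))
    rintro _ ⟨x, rfl⟩
    exact (this ▸ Subgroup.mem_top x : x ∈ H.comap f)
  have hιH : ι4.range ≤ H := by
    have key : ∀ π : alternatingGroup (Fin 4), ∃ w ∈ ([[], [0], [0, 0], [1], [0, 1], [0, 0, 1], [1, 0], [1, 0, 0],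
        [0, 1, 0], [0, 1, 0, 0], [0, 0, 1, 0], [0, 0, 1, 0, 0]] : List (List ℕ)),
        wval (fun l => if l = 0 then c4 else p4) w = π ∧ ∀ l ∈ w, l = 0 ∨ l = 1 := by decide +kernel
    rintro _ ⟨π, rfl⟩
    obtain ⟨w, -, e, hw⟩ := key π
    rw [← e, map_wval, ← wval_congr fun l hl => im_alt ι4 f (hw l hl)]
    refine H.list_prod_mem fun x hx => ?_
    obtain ⟨l, hl, rfl⟩ := List.mem_map.1 hx
    exact hmH l (by rcases hw l hl with rfl | rfl <;> norm_num)
  set R := (blk (F := K) (q := 3) w4).range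
  have hΦ0 : ∀ l, Φ (m l) ∈ R := fun l => by
    have h : ∀ x, Φ (f x) ∈ R := fun x => ⟨_, (hΦf x).symm⟩
    have h' : ∀ π, Φ (ι4 π) ∈ R := fun π => ⟨_, (hΦι π).symm⟩
    rcases l with _ | _ | _ | _ | _ | l
    · exact h' _
    · exact h' _
    · exact h _
    · exact h _
    · show Φ (ι4 c4)⁻¹ ∈ R
      rw [map_inv]; exact inv_mem (h' _)
    · exact h _
  have hΦH : ∀ x : H, (Φ.comp H.subtype) x ∈ R := fun x => by
    have : H ≤ R.comap Φ := by
      rw [hH, Subgroup.closure_le]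
      rintro _ ⟨l, -, rfl⟩
      exact hΦ0 l
    exact this x.2
  let e4 : Cfsg.SU 4 K 3 ≃* R := MonoidHom.ofInjective (blk_injective w4)
  let θ : H →* Cfsg.SU 4 K 3 := e4.symm.toMonoidHom.comp ((Φ.comp H.subtype).codRestrict R hΦH)
  have hθ : ∀ (x : G) (hx : x ∈ H) (y : Cfsg.SU 4 K 3), Φ x = blk w4 y → θ ⟨x, hx⟩ = y := fun x hx y e =>
    e4.injective (by
      show e4 (e4.symm _) = e4 y
      rw [e4.apply_symm_apply]
      exact Subtype.ext e)
  have hsurj : Function.Surjective θ := by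
    rw [← MonoidHom.range_eq_top]
    refine four_gen ?_ ?_
    · rintro _ ⟨x, rfl⟩
      exact ⟨⟨f x, hfH ⟨x, rfl⟩⟩, hθ _ _ _ (hΦf x)⟩
    · rintro _ ⟨π, rfl⟩
      exact ⟨⟨ι4 π, hιH ⟨π, rfl⟩⟩, hθ _ _ _ (hΦι π)⟩
  haveI := hfin
  have hcard : Nat.card H ≤ Nat.card (Cfsg.SU 4 K 3) := by
    refine hle.trans (le_of_le_of_eq (Nat.mul_le_mul le_rfl (Nat.card_le_card_of_surjective _ f.rangeRestrict_surjective)) ?_)
    rw [card_three, card_four]
    rfl
  have hbij : Function.Bijective θ :=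
    (Nat.bijective_iff_surjective_and_card θ).2 ⟨hsurj, le_antisymm hcard (Nat.card_le_card_of_surjective _ hsurj)⟩
  refine ⟨H.subtype.comp (MulEquiv.ofBijective θ hbij).symm.toMonoidHom, ?_, ?_⟩
  all_goals
    intro x hx
    refine ⟨θ ⟨x, ?_⟩, ?_⟩
    rotate_left
    · show ((MulEquiv.ofBijective θ hbij).symm ((MulEquiv.ofBijective θ hbij) ⟨x, _⟩) : G) = x
      rw [MulEquiv.symm_apply_apply]
  · exact hιH hx
  · exact hfH hx

end Group

end Cfsg.Lib.SUPres.Nine
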