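import Cfsg.Agent.Pres.SU.Big
import Cfsg.Agent.Pres.SU.NineFour
import Cfsg.Agent.Pres.SU.AltFive

/-! # Presentations over nine elements -/

set_option autoImplicit false
set_option maxHeartbeats 1000000
set_option linter.unusedSectionVars false
set_option linter.unusedSimpArgs false
set_option linter.style.haveILetI false

namespace Cfsg.Lib.SUPres

open Equiv
open Cfsg.Lib.Known.Phan
open Cfsg.Lib.SLnPres (PresN)
open Cfsg.Lib.UFourThreeCover (K card_K)
open Cfsg.Lib.CosetTable (wval)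

universe u

namespace Nine

/-- The letters as letters of a mixed word. -/
noncomputable def letter {N : ℕ} (w4 : Fin 4 ↪ Fin N) : ℕ → alternatingGroup (Fin N) ⊕ Cfsg.SU 3 K 3
  | 0 => Sum.inl (alt4 w4 c4)
  | 1 => Sum.inl (alt4 w4 p4)
  | 4 => Sum.inl (alt4 w4 c4)⁻¹
  | l => Sum.inr (g3 l)

theorem im_eq {N : ℕ} (w4 : Fin 4 ↪ Fin N) {G : Type*} [Group G] (ι : alternatingGroup (Fin N) →* G)
    (f : Cfsg.SU 3 K 3 →* G) : ∀ l, im (ι.comp (alt4 w4)) f l = Sum.elim ι f (letter w4 l)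
  | 0 => rfl
  | 1 => rfl
  | 2 => rfl
  | 3 => rfl
  | 4 => by
    show (ι (alt4 w4 c4))⁻¹ = ι (alt4 w4 c4)⁻¹
    rw [map_inv]
  | _ + 5 => rfl

theorem evalW_letter {N : ℕ} (w4 : Fin 4 ↪ Fin N) {G : Type*} [Group G] (ι : alternatingGroup (Fin N) →* G)
    (f : Cfsg.SU 3 K 3 →* G) (w : List ℕ) :
    evalW ι f (w.map (letter w4)) = wval (im (ι.comp (alt4 w4)) f) w := by
  rw [evalW, CosetTable.wval, List.map_map]
  congr 1
  exact List.map_congr_left fun l _ => (im_eq w4 ι f l).symm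

theorem presN_alt_nine (N : ℕ) (hN : 4 ≤ N) :
    PresN (alternatingGroup (Fin N)) 3 (if N = 4 then 4 else if N = 5 then 4 else 7) := by
  by_cases h : N = 5
  · subst h
    rw [if_neg (by norm_num), if_pos rfl]
    obtain ⟨R, hR, ⟨e⟩⟩ := Five.small_alt_five
    exact (PresN.pad (T := alternatingGroup (Fin 5)) ⟨R, hR, ⟨e⟩⟩ (show 2 ≤ 3 by norm_num)).mono le_rfl
  · refine (presN_alt N hN).mono (le_of_eq ?_)
    split_ifs <;> rfl

theorem su_nine_K (N : ℕ) (hN : 4 ≤ N) :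
    PresN (Cfsg.SU N K 3) 6 (if N = 4 then 32 else if N = 5 then 34 else 39) := by
  classical
  obtain ⟨L, hL, hsound, hout⟩ := exists_glue (F := K) (q := 3) hN
  set w4 : Fin 4 ↪ Fin N := win 4 0 (show 0 + 4 ≤ N by omega) with hw4
  have hw : w34.trans w4 = w3' hN := by
    ext k
    show 0 + (k : ℕ) = 0 + (k : ℕ)
    rfl
  let L' := L ++ extra.map (List.map (letter w4))
  have hTι : ∀ π, permSU (F := K) (q := 3) (alt4 w4 π) = blk w4 (permSU π) := permSU_alt4 w4
  have hTf : ∀ x : Cfsg.SU 3 K 3, blk (w3' hN) x = blk w4 (blk w34 x) := fun x => by rw [blk_blk, hw]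
  refine PresN.mono (presN_of_words (presN_alt_nine N hN) (su_three (F := K) card_K le_rfl)
    (permSU (F := K) (q := 3)) (blk (w3' hN)) L' (fun w hwL => ?_) fun G _ ι f Φ hι hf hgen hr => ?_) ?_
  · rcases List.mem_append.1 hwL with h | h
    · exact hsound w h
    · obtain ⟨e, he, rfl⟩ := List.mem_map.1 h
      rw [evalW_letter, ← map_one (blk w4), ← extra_true e he, map_wval]
      refine wval_congr fun l _ => ?_
      have hc : (cyc3 : alternatingGroup (Fin 3)) = cyc3 := rfl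
      rcases l with _ | _ | _ | _ | _ | l
      · show permSU (alt4 w4 c4) = blk w4 (g4 0)
        rw [hTι, ← blk_c4]; rfl
      · exact hTι p4
      · exact hTf _
      · exact hTf _
      · show (permSU (alt4 w4 c4))⁻¹ = blk w4 (g4 4)
        rw [hTι, ← blk_c4, ← map_inv, ← map_inv]; rfl
      · exact hTf _
  · obtain ⟨D, hDι, hDf, rfl⟩ := hout G ι f Φ hι hf hgen fun w hw' => hr w (List.mem_append_left _ hw')
    refine D.bijective le_rfl (Or.inr ?_)
    have hcoe : ∀ x : Fin 4, ((w4 x : Fin N) : ℕ) = x := fun x => Nat.zero_add _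
    have hc4 : alt4 w4 c4 = cycN (show 3 ≤ N by omega) := by
      refine Subtype.ext (Equiv.ext fun j => ?_)
      by_cases hj : j ∈ Set.range w4
      · obtain ⟨x, rfl⟩ := hj
        rw [alt4_apply]
        by_cases hx : (x : ℕ) < 3
        · have e : w4 x = Fin.castLE (show 3 ≤ N by omega) ⟨x, hx⟩ := Fin.ext (hcoe x)
          rw [e, cycN_castLE]
          refine Fin.ext ((hcoe _).trans ?_)
          have key : ∀ (x : Fin 4) (hx : (x : ℕ) < 3),
              (((c4 : Perm (Fin 4)) x : Fin 4) : ℕ) = ((cyc3 : Perm (Fin 3)) ⟨x, hx⟩ : ℕ) := by decide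
          exact key x hx
        · rw [cycN_other (show 3 ≤ N by omega) (by rw [hcoe]; omega)]
          refine Fin.ext ((hcoe _).trans ?_)
          rw [hcoe]
          revert x
          decide
      · rw [alt4_notMem _ _ hj, cycN_other (show 3 ≤ N by omega) ?_]
        by_contra hlt
        exact hj ⟨⟨j, by omega⟩, Fin.ext (hcoe _)⟩
    have hedge : ∀ π : alternatingGroup (Fin 4), ∀ i j : Fin 4, (π : Perm (Fin 4)) '' {0, 1} = {i, j} →
        (alt4 w4 π : Perm (Fin N)) '' edge0 N = {w4 i, w4 j} := by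
      intro π i j h
      have e : edge0 N = w4 '' {0, 1} := by
        ext y
        simp only [edge0, Set.mem_setOf_eq, Set.image_pair, Set.mem_insert_iff, Set.mem_singleton_iff, Fin.ext_iff,
          hcoe]
        rfl
      rw [e, ← Set.image_comp, show (alt4 w4 π : Perm (Fin N)) ∘ w4 = w4 ∘ (π : Perm (Fin 4)) from
        funext (alt4_apply w4 π), Set.image_comp, h, Set.image_pair]
    have hU : ∀ x, f (blk κ01 x) ∈ D.U0 := fun x => by
      rw [← hDf]; exact ⟨x, rfl⟩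
    obtain ⟨g, hg1, hg2⟩ := exists_four (ι.comp (alt4 w4)) f D.Φ w4
      (fun π => by rw [← hDι, MonoidHom.comp_apply, D.Φι, hTι])
      (fun x => by rw [← hDf, D.Φf]; exact hTf x)
      (by rw [MonoidHom.comp_apply, hc4, ← hDι, ← hDf]; exact D.hcyc)
      (fun x => by
        have hp : (alt4 w4 p4 : Perm (Fin N)) '' edge0 N = edge0 N := by
          rw [hedge p4 1 0 (by rw [Set.image_pair]; rfl)]
          ext y
          simp only [edge0, Set.mem_setOf_eq, Set.mem_insert_iff, Set.mem_singleton_iff, Fin.ext_iff, hcoe]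
          exact or_comm
        have := D.stab _ hp
        rw [← hDf, ← hDι]
        exact this.le (Subgroup.mem_map_of_mem _ ⟨x, rfl⟩))
      (fun x y => by
        obtain ⟨π, hπ, hc⟩ := D.comm
        set σ := alt4 w4 (c4⁻¹ * p4 * c4)
        have hσ : (σ : Perm (Fin N)) '' edge0 N = {z : Fin N | (z : ℕ) = 2 ∨ (z : ℕ) = 3} := by
          rw [hedge (c4⁻¹ * p4 * c4) 2 3 (by
            rw [Set.image_pair]
            have : ((c4⁻¹ * p4 * c4 : alternatingGroup (Fin 4)) : Perm (Fin 4)) 0 = 2 ∧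
                ((c4⁻¹ * p4 * c4 : alternatingGroup (Fin 4)) : Perm (Fin 4)) 1 = 3 := by decide
            rw [this.1, this.2])]
          ext z
          simp only [Set.mem_setOf_eq, Set.mem_insert_iff, Set.mem_singleton_iff, Fin.ext_iff, hcoe]
          rfl
        have he : D.U σ = D.U π := by rw [← D.UE_eq hσ, D.UE_eq hπ]
        have hmem : ι σ * f (blk κ01 y) * (ι σ)⁻¹ ∈ D.U π := by
          rw [← he, ← hDι]
          exact Subgroup.mem_map_of_mem _ (hU y)
        obtain ⟨z, hz, ez⟩ := hmem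
        show Commute _ (ι σ * _ * (ι σ)⁻¹)
        rw [← ez]
        exact hc _ (hU x) z hz)
      (fun w hwe => by
        rw [← evalW_letter]
        exact hr _ (List.mem_append_right _ (List.mem_map_of_mem hwe)))
    refine ⟨g, fun S ⟨π, hπ⟩ hS => ?_⟩
    obtain ⟨y0, hy0, y1, hy1, hne, rfl⟩ : ∃ y0 : Fin N, (y0 : ℕ) < 4 ∧ ∃ y1 : Fin N, (y1 : ℕ) < 4 ∧ y0 ≠ y1 ∧
        S = ({y0, y1} : Set (Fin N)) := by
      let z0 : Fin N := ⟨0, by omega⟩
      let z1 : Fin N := ⟨1, by omega⟩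
      refine ⟨(π : Perm (Fin N)) z0, hS (hπ ▸ ⟨z0, Or.inl rfl, rfl⟩), (π : Perm (Fin N)) z1,
        hS (hπ ▸ ⟨z1, Or.inr rfl, rfl⟩), fun e => by simpa [z0, z1, Fin.ext_iff] using (π : Perm (Fin N)).injective e, ?_⟩
      rw [← hπ, ← Set.image_pair]
      congr 1
      ext y
      simp only [edge0, Set.mem_setOf_eq, Set.mem_insert_iff, Set.mem_singleton_iff, Fin.ext_iff]
      rfl
    obtain ⟨i, rfl⟩ : ∃ i, w4 i = y0 := ⟨⟨y0, hy0⟩, Fin.ext (hcoe _)⟩
    obtain ⟨j, rfl⟩ : ∃ j, w4 j = y1 := ⟨⟨y1, hy1⟩, Fin.ext (hcoe _)⟩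
    have key : ∀ i j : Fin 4, i ≠ j → ∃ τ : alternatingGroup (Fin 4),
        ((τ : Perm (Fin 4)) 0 = i ∧ (τ : Perm (Fin 4)) 1 = j) ∨ ((τ : Perm (Fin 4)) 0 = j ∧ (τ : Perm (Fin 4)) 1 = i) := by
      decide +kernel
    obtain ⟨τ, hτ⟩ := key i j fun e => hne (congrArg w4 e)
    rw [D.UE_eq (π := alt4 w4 τ) (hedge τ i j (by
      rw [Set.image_pair]
      rcases hτ with ⟨h0, h1⟩ | ⟨h0, h1⟩ <;> rw [h0, h1]
      exact Set.pair_comm _ _))]
    rintro _ ⟨_, ⟨x, rfl⟩, rfl⟩
    show D.ι (alt4 w4 τ) * D.f (blk κ01 x) * (D.ι (alt4 w4 τ))⁻¹ ∈ g.range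
    rw [hDι, hDf]
    exact mul_mem (mul_mem (hg1 ⟨τ, rfl⟩) (hg2 ⟨_, rfl⟩)) (inv_mem (hg1 ⟨τ, rfl⟩))
  · simp only [L', List.length_append, List.length_map, extra, List.length_cons, List.length_nil]
    split_ifs at hL ⊢ <;> omega

end Nine

/-- The presentations over nine elements. -/
theorem su_nine {F : Type u} [Field F] [Fintype F] (hF : Fintype.card F = 3 ^ 2) (N : ℕ) (hN : 4 ≤ N) :
    PresN (Cfsg.SU N F 3) 6 (if N = 4 then 32 else if N = 5 then 34 else 39) := by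
  obtain ⟨R, hR, ⟨e⟩⟩ := Nine.su_nine_K N hN
  exact ⟨R, hR, ⟨e.trans (suCongr (FiniteField.ringEquivOfCardEq (K := K) (K' := F) (card_K.trans hF.symm)))⟩⟩

end Cfsg.Lib.SUPres
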