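import Cfsg.Agent.Pres.SU.Perm
import Cfsg.Agent.UFourThreeCover.Field
import Cfsg.Agent.CosetTable.Basic

/-! # Literal matrices of unitary elements over nine elements -/

set_option autoImplicit false
set_option linter.unusedSectionVars false
set_option linter.unusedVariables false
set_option linter.unusedSimpArgs false
set_option linter.style.haveILetI false

namespace Cfsg.Lib.SUPres

open Equiv
open Cfsg.Lib.Known.Phan

universe u

section Transport

variable {F : Type u} {L : Type*} [Field F] [Field L] {n q : ℕ}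

theorem su_map_mem (e : F ≃+* L) (a : Cfsg.SU n F q) :
    Matrix.SpecialLinearGroup.map e.toRingHom (a : Matrix.SpecialLinearGroup (Fin n) F) ∈ Cfsg.SU n L q := by
  intro u v
  obtain ⟨u, rfl⟩ : ∃ u' : Fin n → F, (fun i => e (u' i)) = u := ⟨fun i => e.symm (u i), by simp⟩
  obtain ⟨v, rfl⟩ : ∃ v' : Fin n → F, (fun i => e (v' i)) = v := ⟨fun i => e.symm (v i), by simp⟩
  have hmv : ∀ x : Fin n → F, (Cfsg.slToMat n L (Matrix.SpecialLinearGroup.map e.toRingHom (a : Matrix.SpecialLinearGroup (Fin n) F))).mulVec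
      (fun i => e (x i)) = fun i => e ((Cfsg.slToMat n F (a : Matrix.SpecialLinearGroup (Fin n) F)).mulVec x i) :=
    fun x => funext fun i => (RingHom.map_mulVec e.toRingHom _ x i).symm
  have hform : ∀ x y : Fin n → F, Cfsg.hermForm n L q (fun i => e (x i)) (fun i => e (y i)) =
      e (Cfsg.hermForm n F q x y) := fun x y => by simp [Cfsg.hermForm]
  rw [hmv, hmv, hform, hform, a.2 u v]

/-- Transport along a field isomorphism. -/
noncomputable def suCongr (e : F ≃+* L) : Cfsg.SU n F q ≃* Cfsg.SU n L q where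
  toFun a := ⟨_, su_map_mem e a⟩
  invFun a := ⟨_, su_map_mem e.symm a⟩
  left_inv a := Subtype.ext (Subtype.ext (Matrix.ext fun i j => e.symm_apply_apply _))
  right_inv a := Subtype.ext (Subtype.ext (Matrix.ext fun i j => e.apply_symm_apply _))
  map_mul' a b := Subtype.ext (map_mul (Matrix.SpecialLinearGroup.map e.toRingHom) a.1 b.1)

end Transport

section Mat

variable {F : Type u} [Field F] [Fintype F] {q : ℕ} [hF : Fact (Fintype.card F = q ^ 2)] {k N : ℕ}

/-- The matrix of a block. -/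
def pat {R : Type*} [CommRing R] (κ : Fin k → Fin N) (A : Matrix (Fin k) (Fin k) R) : Matrix (Fin N) (Fin N) R :=
  Matrix.of fun i j => (∑ a, ∑ b, if κ a = i ∧ κ b = j then A a b else 0) +
    if i = j ∧ ∀ a, κ a ≠ i then 1 else 0

theorem mat_eq_act {g : Cfsg.SU N F q} (i j : Fin N) : mat g i j = act g (ev j) i := by
  rw [act, ev, Matrix.mulVec_single_one]; rfl

theorem mat_blk (κ : Fin k ↪ Fin N) (x : Cfsg.SU k F q) : mat (blk κ x) = pat κ (mat x) := by
  classical
  ext i j
  rw [mat_eq_act]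
  simp only [pat, Matrix.of_apply]
  by_cases hi : i ∈ Set.range κ
  · obtain ⟨a, rfl⟩ := hi
    have hrow : ∀ c, c ≠ a → (∑ b, if κ c = κ a ∧ κ b = j then mat x c b else 0) = 0 := fun c hc =>
      Finset.sum_eq_zero fun b _ => if_neg fun h => hc (κ.injective h.1)
    rw [blk_apply_mem, Fintype.sum_eq_single a hrow, if_neg (fun h => h.2 a rfl), add_zero]
    by_cases hj : j ∈ Set.range κ
    · obtain ⟨b, rfl⟩ := hj
      rw [ev_comp, ← mat_eq_act, Fintype.sum_eq_single b
        (fun c hc => if_neg fun h => hc (κ.injective h.2)), if_pos ⟨rfl, rfl⟩]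
    · rw [show (ev j : Fin N → F) ∘ κ = 0 from funext fun b => by
        show ev j (κ b) = 0
        rw [ev, Pi.single_eq_of_ne]; exact fun e => hj ⟨b, e⟩, act, Matrix.mulVec_zero]
      exact (Finset.sum_eq_zero fun b _ => if_neg fun h => hj ⟨b, h.2⟩).symm
  · have hz : ∀ c, (∑ b, if κ c = i ∧ κ b = j then mat x c b else 0) = 0 := fun c =>
      Finset.sum_eq_zero fun b _ => if_neg fun h => hi ⟨c, h.1⟩
    rw [blk_apply_notMem κ x _ hi, Fintype.sum_eq_zero _ hz, zero_add, ev, Pi.single_apply]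
    exact if_congr ⟨fun e => ⟨e, fun a h => hi ⟨a, h⟩⟩, fun h => h.1⟩ rfl rfl

theorem mat_permSU (π : alternatingGroup (Fin N)) :
    mat (permSU (F := F) (q := q) π) = Matrix.of fun i j => if (π : Perm (Fin N)) j = i then 1 else 0 :=
  Matrix.ext fun i j => SLnPres.permSL_apply π i j

theorem mat_one' : mat (1 : Cfsg.SU N F q) = 1 := rfl

theorem mat_mul' (g h : Cfsg.SU N F q) : mat (g * h) = mat g * mat h := rfl

theorem mat_ext' {g h : Cfsg.SU N F q} (e : mat g = mat h) : g = h := Subtype.ext (Subtype.ext e)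

theorem mat_inv_of_mul {g : Cfsg.SU N F q} {M : Matrix (Fin N) (Fin N) F} (h : M * mat g = 1) : mat g⁻¹ = M := by
  have e : mat g * mat g⁻¹ = 1 := by rw [← mat_mul', mul_inv_cancel]; rfl
  rw [← one_mul (mat g⁻¹), ← h, mul_assoc, e, mul_one]

theorem mat_wval {im : ℕ → Cfsg.SU N F q} {M : ℕ → Matrix (Fin N) (Fin N) F} :
    ∀ w : List ℕ, (∀ l ∈ w, mat (im l) = M l) → mat (CosetTable.wval im w) = (w.map M).prod
  | [], _ => rfl
  | l :: w, h => by
    rw [List.map_cons, List.prod_cons, ← h l List.mem_cons_self,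
      ← mat_wval w fun a ha => h a (List.mem_cons_of_mem _ ha)]
    rfl

theorem wval_eq_one {im : ℕ → Cfsg.SU N F q} {M : ℕ → Matrix (Fin N) (Fin N) F} {w : List ℕ}
    (h : ∀ l ∈ w, mat (im l) = M l) (e : (w.map M).prod = 1) : CosetTable.wval im w = 1 :=
  mat_ext' (by rw [mat_wval w h, e]; rfl)

end Mat

theorem map_wval {G H : Type*} [Group G] [Group H] (φ : G →* H) (im : ℕ → G) (w : List ℕ) :
    φ (CosetTable.wval im w) = CosetTable.wval (fun l => φ (im l)) w := by
  rw [CosetTable.wval, CosetTable.wval, map_list_prod, List.map_map]; rfl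

theorem wval_congr {G : Type*} [Group G] {im im' : ℕ → G} {w : List ℕ} (h : ∀ l ∈ w, im l = im' l) :
    CosetTable.wval im w = CosetTable.wval im' w := by
  rw [CosetTable.wval, CosetTable.wval, List.map_congr_left h]

/-- The embedding of the alternating group on four points. -/
noncomputable def alt4 {N : ℕ} (κ : Fin 4 ↪ Fin N) : alternatingGroup (Fin 4) →* alternatingGroup (Fin N) :=
  ((Perm.viaEmbeddingHom κ).comp (alternatingGroup (Fin 4)).subtype).codRestrict _ fun π => by
    show Perm.sign (Perm.viaEmbedding (π : Perm (Fin 4)) κ) = 1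
    rw [Perm.viaEmbedding, Perm.sign_extendDomain]
    exact π.2

theorem alt4_apply {N : ℕ} (κ : Fin 4 ↪ Fin N) (π : alternatingGroup (Fin 4)) (x : Fin 4) :
    (alt4 κ π : Perm (Fin N)) (κ x) = κ ((π : Perm (Fin 4)) x) :=
  Perm.viaEmbedding_apply _ κ x

theorem alt4_notMem {N : ℕ} (κ : Fin 4 ↪ Fin N) (π : alternatingGroup (Fin 4)) {j : Fin N}
    (hj : j ∉ Set.range κ) : (alt4 κ π : Perm (Fin N)) j = j :=
  Perm.viaEmbedding_apply_of_notMem _ κ j hj

theorem permSU_alt4 {F : Type u} [Field F] [Fintype F] {q : ℕ} [Fact (Fintype.card F = q ^ 2)] {N : ℕ}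
    (κ : Fin 4 ↪ Fin N) (π : alternatingGroup (Fin 4)) :
    permSU (F := F) (q := q) (alt4 κ π) = blk κ (permSU π) := by
  refine (act_ext fun v => funext fun j => ?_)
  obtain ⟨i, rfl⟩ := (alt4 κ π : Perm (Fin N)).surjective j
  rw [act_permSU_apply]
  by_cases hi : i ∈ Set.range κ
  · obtain ⟨x, rfl⟩ := hi
    rw [alt4_apply, blk_apply_mem, act_permSU_apply]
    rfl
  · rw [alt4_notMem κ π hi, blk_apply_notMem κ _ v hi]

end Cfsg.Lib.SUPres
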