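import Cfsg.Agent.Classical.Unitary.SUTwo
import Cfsg.Agent.S2402
import Cfsg.Agent.S2403

/-! # Two generators of `SU₂(q)` -/

set_option autoImplicit false
set_option linter.unusedSimpArgs false
set_option linter.style.haveILetI false

namespace Cfsg.Lib.SUPres

open Matrix
open Cfsg.Lib.Classical

theorem eq_top_of_center {K : Type*} [Field K] {H : Subgroup (SpecialLinearGroup (Fin 2) K)}
    (hH : H ⊔ Subgroup.center _ = ⊤)
    (hneg : ∀ z : SpecialLinearGroup (Fin 2) K, z.1 = Matrix.diagonal (fun _ => (-1 : K)) → z ∈ H) : H = ⊤ := by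
  rw [eq_top_iff, ← hH, sup_le_iff]
  refine ⟨le_rfl, fun z hz => ?_⟩
  obtain ⟨a, ha, hza⟩ := Matrix.SpecialLinearGroup.mem_center_iff.1 hz
  have e : Matrix.scalar (Fin 2) a = z.1 := hza
  rw [Fintype.card_fin, pow_two] at ha
  rcases mul_self_eq_one_iff.1 ha with rfl | rfl
  · have : z = 1 := Subtype.ext (by rw [← e]; simp)
    rw [this]; exact one_mem _
  · exact hneg z (by rw [← e]; rfl)

theorem exists_pair_SL {K : Type*} [Field K] [Fintype K] :
    ∃ a b : SpecialLinearGroup (Fin 2) K, Subgroup.closure ({a, b} : Set (SpecialLinearGroup (Fin 2) K)) = ⊤ := by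
  classical
  let w : SpecialLinearGroup (Fin 2) K := ⟨!![0, 1; -1, 0], by simp [Matrix.det_fin_two_of]⟩
  let x : SpecialLinearGroup (Fin 2) K := ⟨!![1, 1; 0, 1], by simp [Matrix.det_fin_two_of]⟩
  have hw : (w : Matrix (Fin 2) (Fin 2) K) =
      Matrix.of (fun i j => if j.val = i.val + 1 then 1 else if i.val = 1 ∧ j.val = 0 then (-1) ^ 1 else 0) := by
    ext i j; fin_cases i <;> fin_cases j <;> simp [w]
  have hx : (x : Matrix (Fin 2) (Fin 2) K) = Matrix.transvection (0 : Fin 2) (1 : Fin 2) 1 := by
    ext i j; fin_cases i <;> fin_cases j <;> simp [x, Matrix.transvection]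
  by_cases h3 : 3 < Fintype.card K
  · obtain ⟨k, hk⟩ := IsCyclic.exists_generator (α := Kˣ)
    let h : SpecialLinearGroup (Fin 2) K :=
      ⟨Matrix.diagonal ![(k : K), ((k⁻¹ : Kˣ) : K)], by simp [Matrix.det_diagonal, Fin.prod_univ_two]⟩
    have hh : (h : Matrix (Fin 2) (Fin 2) K) =
        Matrix.diagonal (fun i => if i.val = 0 then (k : K) else if i.val = 1 then ((k⁻¹ : Kˣ) : K) else 1) := by
      show Matrix.diagonal _ = _
      congr 1; funext i; fin_cases i <;> simp
    refine ⟨h, x * w, eq_top_of_center (Cfsg.Agent.S2402.result h3 1 le_rfl k hk h x w hh hx hw) fun z hz => ?_⟩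
    obtain ⟨m, hm⟩ : (-1 : Kˣ) ∈ Submonoid.powers k := mem_powers_iff_mem_zpowers.2 (hk _)
    have e : z = h ^ m := by
      refine Subtype.ext ?_
      rw [hz, Matrix.SpecialLinearGroup.coe_pow]
      show _ = (Matrix.diagonal _) ^ m
      rw [Matrix.diagonal_pow]
      congr 1; funext i
      fin_cases i
      · have := congrArg Units.val hm
        simpa using this.symm
      · have := congrArg Units.val (congrArg (·⁻¹) hm)
        simpa using this.symm
    rw [e]
    exact pow_mem (Subgroup.subset_closure (by simp)) m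
  · refine ⟨x, w, eq_top_of_center (Cfsg.Agent.S2403.result (by omega) 1 le_rfl x w hx hw) fun z hz => ?_⟩
    have e : z = w * w := by
      refine Subtype.ext ?_
      rw [hz, Matrix.SpecialLinearGroup.coe_mul]
      ext i j; fin_cases i <;> fin_cases j <;> simp [w]
    rw [e]
    exact mul_mem (Subgroup.subset_closure (by simp)) (Subgroup.subset_closure (by simp))

/-- `SU₂(q)` is generated by two elements. -/
theorem exists_pair {F : Type*} [Field F] [Fintype F] {q : ℕ} (hF : Fintype.card F = q ^ 2) :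
    ∃ a b : Cfsg.SU 2 F q, Subgroup.closure ({a, b} : Set (Cfsg.SU 2 F q)) = ⊤ := by
  haveI : Fintype (fixedField (powConj hF)) := Fintype.ofFinite _
  obtain ⟨e⟩ := su_two_equiv (K := fixedField (powConj hF)) hF (by
    rw [← Nat.card_eq_fintype_card]; exact (exists_conj_pow hF).choose_spec.2.2)
  obtain ⟨a, b, hab⟩ := exists_pair_SL (K := fixedField (powConj hF))
  refine ⟨e.symm a, e.symm b, ?_⟩
  have := congrArg (Subgroup.map e.symm.toMonoidHom) hab
  rw [MonoidHom.map_closure, Set.image_pair, Subgroup.map_top_of_surjective _ e.symm.surjective] at this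
  exact this

end Cfsg.Lib.SUPres
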