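import Cfsg.Agent.Known.Phan.Recog
import Cfsg.Agent.Known.SLnPres.Target

/-! # Permutation matrices in the unitary group -/

set_option autoImplicit false
set_option linter.unusedSectionVars false
set_option linter.unusedSimpArgs false
set_option linter.style.haveILetI false

namespace Cfsg.Lib.SUPres

open Equiv
open Cfsg.Lib.Known.Phan

universe u

variable {F : Type u} [Field F] [Fintype F] {q : ℕ} [hF : Fact (Fintype.card F = q ^ 2)] {N : ℕ}

theorem permSL_mulVec (π : alternatingGroup (Fin N)) (v : Fin N → F) :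
    (SLnPres.permSL (F := F) π).1.mulVec v = v ∘ ((π : Perm (Fin N))⁻¹ : Perm (Fin N)) := by
  funext a
  rw [Matrix.mulVec, dotProduct, Finset.sum_eq_single ((π : Perm (Fin N))⁻¹ a)]
  · rw [SLnPres.permSL_apply]; simp
  · intro b _ hb
    rw [SLnPres.permSL_apply, if_neg, zero_mul]
    rintro rfl; simp at hb
  · simp

/-- The permutation matrices. -/
noncomputable def permSU : alternatingGroup (Fin N) →* Cfsg.SU N F q :=
  (SLnPres.permSL (F := F)).codRestrict _ fun π u v => by
    show Cfsg.hermForm N F q ((SLnPres.permSL (F := F) π).1.mulVec u) ((SLnPres.permSL (F := F) π).1.mulVec v) = _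
    rw [permSL_mulVec, permSL_mulVec]
    exact Fintype.sum_equiv ((π : Perm (Fin N))⁻¹ : Perm (Fin N)) _ (fun i => u i * v i ^ q) fun _ => rfl

theorem act_permSU (π : alternatingGroup (Fin N)) (v : Fin N → F) :
    act (permSU (q := q) π) v = v ∘ ((π : Perm (Fin N))⁻¹ : Perm (Fin N)) := permSL_mulVec π v

theorem act_permSU_apply (π : alternatingGroup (Fin N)) (v : Fin N → F) (i : Fin N) :
    act (permSU (q := q) π) v ((π : Perm (Fin N)) i) = v i := by
  rw [act_permSU]; simp

theorem blk_perm {k : ℕ} (κ : Fin k ↪ Fin N) (π : alternatingGroup (Fin N)) (x : Cfsg.SU k F q) :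
    permSU π * blk κ x * (permSU π)⁻¹ = blk (κ.trans (π : Perm (Fin N)).toEmbedding) x := by
  rw [mul_inv_eq_iff_eq_mul]
  refine act_ext fun v => funext fun j => ?_
  rw [act_mul, act_mul]
  obtain ⟨i, rfl⟩ := (π : Perm (Fin N)).surjective j
  rw [act_permSU_apply]
  by_cases hi : i ∈ Set.range κ
  · obtain ⟨l, rfl⟩ := hi
    rw [show (π : Perm (Fin N)) (κ l) = (κ.trans (π : Perm (Fin N)).toEmbedding) l from rfl, blk_apply_mem,
      blk_apply_mem]
    congr 1
    funext m
    exact (act_permSU_apply (q := q) π v (κ m)).symm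
  · rw [blk_apply_notMem κ x v hi, blk_apply_notMem, act_permSU_apply]
    rintro ⟨l, hl⟩
    exact hi ⟨l, (π : Perm (Fin N)).injective hl⟩

theorem blk_range_eq {k : ℕ} {κ κ' : Fin k ↪ Fin N} (h : Set.range κ = Set.range κ') :
    (blk (F := F) (q := q) κ).range = (blk (F := F) (q := q) κ').range := by
  rw [← suBlock_eq_range κ _ rfl, ← suBlock_eq_range κ' _ rfl, h]

theorem exists_blk_of_range {k : ℕ} {κ κ' : Fin k ↪ Fin N} (h : Set.range κ = Set.range κ') (x : Cfsg.SU k F q) :
    ∃ y, blk κ' y = blk κ x := by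
  have : blk κ x ∈ (blk (F := F) (q := q) κ').range := blk_range_eq (F := F) (q := q) h ▸ ⟨x, rfl⟩
  exact this

theorem blk_refl {k : ℕ} (x : Cfsg.SU k F q) : blk (Function.Embedding.refl (Fin k)) x = x := by
  refine act_ext fun v => funext fun i => ?_
  exact blk_apply_mem (Function.Embedding.refl (Fin k)) x v i

/-- An automorphism by a permutation of the coordinates. -/
theorem blk_equiv_surjective {k : ℕ} (ρ : Perm (Fin k)) (x : Cfsg.SU k F q) :
    ∃ y, blk ρ.toEmbedding y = x := by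
  refine ⟨blk ρ.symm.toEmbedding x, ?_⟩
  rw [blk_blk]
  have : ρ.symm.toEmbedding.trans ρ.toEmbedding = Function.Embedding.refl (Fin k) := by
    ext i; simp
  rw [this, blk_refl]

/-- The cycle on three points. -/
def cyc3 : alternatingGroup (Fin 3) := ⟨swap 0 1 * swap 1 2, Perm.mem_alternatingGroup.2 (by decide)⟩

/-- The cycle on the first three points. -/
def cycN (hN : 3 ≤ N) : alternatingGroup (Fin N) :=
  ⟨swap (Fin.castLE hN 0) (Fin.castLE hN 1) * swap (Fin.castLE hN 1) (Fin.castLE hN 2), Perm.mem_alternatingGroup.2 (by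
    rw [map_mul, Perm.sign_swap, Perm.sign_swap]
    · rfl
    · exact (Fin.castLE_injective hN).ne (by decide)
    · exact (Fin.castLE_injective hN).ne (by decide))⟩

theorem swap_castLE (hN : 3 ≤ N) (a b x : Fin 3) :
    swap (Fin.castLE hN a) (Fin.castLE hN b) (Fin.castLE hN x) = Fin.castLE hN (swap a b x) :=
  (Fin.castLE_injective hN).swap_apply a b x

theorem cycN_castLE (hN : 3 ≤ N) (x : Fin 3) :
    (cycN hN : Perm (Fin N)) (Fin.castLE hN x) = Fin.castLE hN ((cyc3 : Perm (Fin 3)) x) := by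
  show swap _ _ (swap _ _ (Fin.castLE hN x)) = Fin.castLE hN (swap 0 1 (swap 1 2 x))
  rw [swap_castLE, swap_castLE]

theorem cycN_other (hN : 3 ≤ N) {j : Fin N} (hj : 3 ≤ (j : ℕ)) : (cycN hN : Perm (Fin N)) j = j := by
  have h : ∀ x : Fin 3, j ≠ Fin.castLE hN x := fun x e => by
    rw [e] at hj; have := x.isLt; simp at hj; omega
  show swap _ _ (swap _ _ j) = j
  rw [swap_apply_of_ne_of_ne (h 1) (h 2), swap_apply_of_ne_of_ne (h 0) (h 1)]

theorem win_eq_castLE (hN : 3 ≤ N) (x : Fin 3) : win 3 0 (show 0 + 3 ≤ N by omega) x = Fin.castLE hN x :=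
  Fin.ext (show 0 + (x : ℕ) = x by omega)

theorem blk_cyc (hN : 3 ≤ N) :
    blk (win 3 0 (show 0 + 3 ≤ N by omega)) (permSU cyc3) = permSU (F := F) (q := q) (cycN hN) := by
  refine act_ext fun v => funext fun j => ?_
  obtain ⟨i, rfl⟩ := (cycN hN : Perm (Fin N)).surjective j
  rw [act_permSU_apply]
  by_cases hi : (i : ℕ) < 3
  · obtain ⟨x, rfl⟩ : ∃ x : Fin 3, Fin.castLE hN x = i := ⟨⟨i, hi⟩, Fin.ext rfl⟩
    rw [cycN_castLE, ← win_eq_castLE, blk_apply_mem, act_permSU_apply, Function.comp_apply, win_eq_castLE]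
  · rw [cycN_other hN (by omega), blk_apply_notMem]
    rintro ⟨x, hx⟩
    have := congrArg Fin.val hx
    have h2 : 0 + (x : ℕ) = i := this
    have := x.isLt
    omega

end Cfsg.Lib.SUPres
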