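import Cfsg.Agent.Pres.SU.Glue
import Cfsg.Agent.Pres.SU.Join
import Cfsg.Agent.Pres.SU.Pair
import Cfsg.Agent.Pres.SU.SUThree

/-! # The glue as relations -/

set_option autoImplicit false
set_option linter.unusedSectionVars false
set_option linter.unusedSimpArgs false
set_option linter.style.haveILetI false

namespace Cfsg.Lib.SUPres

open Equiv
open Cfsg.Lib.Known.Phan
open Cfsg.Lib.SLnPres (PresN)

universe u

variable {F : Type u} [Field F] [Fintype F] {q : ℕ} [hF : Fact (Fintype.card F = q ^ 2)] {N : ℕ}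

/-- The first three coordinates. -/
def w3' (hN : 4 ≤ N) : Fin 3 ↪ Fin N := win 3 0 (show 0 + 3 ≤ N by omega)

/-- The glue words. -/
theorem exists_glue (hN : 4 ≤ N) :
    ∃ L : List (List (alternatingGroup (Fin N) ⊕ Cfsg.SU 3 F q)),
      L.length ≤ 6 + 2 * (if N = 4 then 0 else if N = 5 then 1 else 2) ∧
      (∀ w ∈ L, evalW (permSU (F := F) (q := q) (N := N)) (blk (w3' hN)) w = 1) ∧
      ∀ (G : Type) [Group G] (ι : alternatingGroup (Fin N) →* G) (f : Cfsg.SU 3 F q →* G) (Φ : G →* Cfsg.SU N F q),
        Φ.comp ι = permSU → Φ.comp f = blk (w3' hN) → Subgroup.closure (Set.range ι ∪ Set.range f) = ⊤ →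
        (∀ w ∈ L, evalW ι f w = 1) → ∃ D : Gl F q N G, D.ι = ι ∧ D.f = f ∧ D.Φ = Φ := by
  classical
  obtain ⟨a, b, hab⟩ := exists_pair (F := F) hF.out
  let p : Fin 4 → Fin N := Fin.castLE hN
  have hp : Function.Injective p := Fin.castLE_injective hN
  obtain ⟨Ls, hLs, hLsfix, hLsgen⟩ := SLnPres.exists_stab_gens hN (a := p 0) (b := p 1) (hp.ne (by decide))
  have hs : ∀ (i j k l : Fin 4), i ≠ j → k ≠ l → swap (p i) (p j) * swap (p k) (p l) ∈ alternatingGroup (Fin N) := by
    intro i j k l h1 h2
    rw [Perm.mem_alternatingGroup, map_mul, Perm.sign_swap (hp.ne h1), Perm.sign_swap (hp.ne h2)]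
    rfl
  let π₀ : alternatingGroup (Fin N) := ⟨_, hs 0 1 2 3 (by decide) (by decide)⟩
  let π₂ : alternatingGroup (Fin N) := ⟨_, hs 0 2 1 3 (by decide) (by decide)⟩
  have hval : ∀ (i j k l x : Fin 4), (swap (p i) (p j) * swap (p k) (p l)) (p x) = p (swap i j (swap k l x)) :=
    fun i j k l x => by rw [Perm.mul_apply, hp.swap_apply, hp.swap_apply]
  have hedge : edge0 N = {p 0, p 1} := by
    ext x
    simp only [edge0, Set.mem_setOf_eq, Set.mem_insert_iff, Set.mem_singleton_iff, Fin.ext_iff, p]
    rfl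
  let S : List (alternatingGroup (Fin N)) := π₀ :: Ls
  have hSfix : ∀ e ∈ S, (e : Perm (Fin N)) '' edge0 N = edge0 N := by
    intro e he
    rw [hedge, Set.image_pair]
    rcases List.mem_cons.1 he with rfl | he
    · show {(π₀ : Perm (Fin N)) (p 0), (π₀ : Perm (Fin N)) (p 1)} = _
      rw [show (π₀ : Perm (Fin N)) (p 0) = p 1 from (hval 0 1 2 3 0).trans rfl,
        show (π₀ : Perm (Fin N)) (p 1) = p 0 from (hval 0 1 2 3 1).trans rfl, Set.pair_comm]
    · rw [(hLsfix e he).1, (hLsfix e he).2]
  set κ0 := κ01.trans (w3' hN) with hκ0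
  have hκ0r : Set.range κ0 = edge0 N := (edge0_eq hN).symm
  have hy : ∀ (e : alternatingGroup (Fin N)) (x : Cfsg.SU 2 F q), ∃ y : Cfsg.SU 2 F q,
      (e : Perm (Fin N)) '' edge0 N = edge0 N →
        permSU e * blk (w3' hN) (blk κ01 x) * (permSU e)⁻¹ = blk (w3' hN) (blk κ01 y) := by
    intro e x
    by_cases he : (e : Perm (Fin N)) '' edge0 N = edge0 N
    · obtain ⟨y, hy⟩ := exists_blk_of_range (F := F) (q := q) (κ := κ0.trans (e : Perm (Fin N)).toEmbedding) (κ' := κ0)
        (by rw [hκ0r, ← he, ← hκ0r, ← Set.range_comp]; rfl) x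
      exact ⟨y, fun _ => by rw [blk_blk, blk_blk, blk_perm, ← hκ0, hy]⟩
    · exact ⟨1, fun h => absurd h he⟩
  choose ys hys using hy
  let A := alternatingGroup (Fin N)
  let cw : List (A ⊕ Cfsg.SU 3 F q) :=
    [Sum.inl (cycN (show 3 ≤ N by omega)), Sum.inr (permSU cyc3)⁻¹]
  let sw : A → Cfsg.SU 2 F q → List (A ⊕ Cfsg.SU 3 F q) := fun e x =>
    [Sum.inl e, Sum.inr (blk κ01 x), Sum.inl e⁻¹, Sum.inr (blk κ01 (ys e x))⁻¹]
  let kw : Cfsg.SU 2 F q → Cfsg.SU 2 F q → List (A ⊕ Cfsg.SU 3 F q) := fun x y =>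
    [Sum.inr (blk κ01 x), Sum.inl π₂, Sum.inr (blk κ01 y), Sum.inl π₂⁻¹, Sum.inr (blk κ01 x)⁻¹, Sum.inl π₂,
      Sum.inr (blk κ01 y)⁻¹, Sum.inl π₂⁻¹]
  refine ⟨cw :: S.flatMap (fun e => [sw e a, sw e b]) ++ [kw a a, kw a b, kw b b], ?_, ?_, ?_⟩
  · have : (S.flatMap fun e => [sw e a, sw e b]).length = 2 * S.length := by
      induction S with
      | nil => rfl
      | cons x xs ih => rw [List.flatMap_cons, List.length_append, ih, List.length_cons]; simp; omega
    simp only [List.length_append, List.length_cons, List.length_nil, this, S]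
    omega
  · intro w hw
    simp only [List.mem_append, List.mem_cons, List.mem_flatMap, List.not_mem_nil, or_false] at hw
    have hk : ∀ x y, evalW (permSU (F := F) (q := q) (N := N)) (blk (w3' hN)) (kw x y) = 1 := by
      intro x y
      have hc : Commute (blk (w3' hN) (blk (F := F) (q := q) κ01 x))
          (permSU π₂ * blk (w3' hN) (blk κ01 y) * (permSU π₂)⁻¹) := by
        rw [blk_blk, blk_blk, blk_perm]
        refine blk_commute _ _ (fun i j => ?_) x y
        have e : ∀ i : Fin 2, (κ01.trans (w3' hN)) i = p (Fin.castLE (by norm_num) i) := fun i =>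
          Fin.ext (show 0 + (i : ℕ) = (i : ℕ) by omega)
        show (κ01.trans (w3' hN)) i ≠ (π₂ : Perm (Fin N)) ((κ01.trans (w3' hN)) j)
        rw [e, e, show (π₂ : Perm (Fin N)) (p (Fin.castLE (by norm_num) j)) = _ from hval 0 2 1 3 _]
        refine hp.ne ?_
        revert i j
        decide
      simp only [evalW, kw, List.map_cons, List.map_nil, Sum.elim_inl, Sum.elim_inr, map_inv, List.prod_cons,
        List.prod_nil, mul_one]
      have := hc.eq
      rw [← mul_inv_eq_one, mul_inv_rev] at this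
      rw [← this]; group
    rcases hw with (rfl | ⟨e, he, rfl | rfl⟩) | rfl | rfl | rfl
    · simp only [evalW, cw, List.map_cons, List.map_nil, Sum.elim_inl, Sum.elim_inr, map_inv, List.prod_cons,
        List.prod_nil, mul_one]
      rw [w3', blk_cyc (show 3 ≤ N by omega), mul_inv_cancel]
    · simp only [evalW, sw, List.map_cons, List.map_nil, Sum.elim_inl, Sum.elim_inr, map_inv, List.prod_cons,
        List.prod_nil, mul_one, ← mul_assoc]
      rw [hys e a (hSfix e he), mul_inv_cancel]
    · simp only [evalW, sw, List.map_cons, List.map_nil, Sum.elim_inl, Sum.elim_inr, map_inv, List.prod_cons,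
        List.prod_nil, mul_one, ← mul_assoc]
      rw [hys e b (hSfix e he), mul_inv_cancel]
    exacts [hk a a, hk a b, hk b b]
  intro G _ ι f Φ hι hf hgen hr
  simp only [List.forall_mem_append, List.forall_mem_cons, List.forall_mem_flatMap, List.not_mem_nil,
    false_imp_iff, implies_true, and_true] at hr
  obtain ⟨⟨hcw, hsw⟩, haa, habk, hbb⟩ := hr
  have hU0 : (f.comp (blk κ01)).range = Subgroup.closure {f (blk κ01 a), f (blk κ01 b)} := by
    rw [MonoidHom.range_eq_map, ← hab, MonoidHom.map_closure, Set.image_pair]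
    rfl
  haveI : Finite (f.comp (blk (F := F) (q := q) κ01)).range :=
    Finite.of_surjective _ (f.comp (blk κ01)).rangeRestrict_surjective
  set U₀ := (f.comp (blk (F := F) (q := q) κ01)).range with hU0def
  have hgenS : ∀ e ∈ S, U₀.map (MulAut.conj (ι e)).toMonoidHom = U₀ := by
    intro e he
    have hx : ∀ x, evalW ι f (sw e x) = 1 → ι e * f (blk κ01 x) * (ι e)⁻¹ = f (blk κ01 (ys e x)) := fun x h => by
      simp only [evalW, sw, List.map_cons, List.map_nil, Sum.elim_inl, Sum.elim_inr, map_inv, List.prod_cons,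
        List.prod_nil, mul_one, ← mul_assoc] at h
      exact mul_inv_eq_one.1 h
    refine Subgroup.eq_of_le_of_card_ge ?_ (le_of_eq ?_)
    · conv_lhs => rw [hU0, MonoidHom.map_closure]
      rw [Subgroup.closure_le, Set.image_pair]
      rintro _ (rfl | rfl)
      · exact ⟨ys e a, (hx a (hsw e he).1).symm⟩
      · exact ⟨ys e b, (hx b (hsw e he).2).symm⟩
    · exact Nat.card_congr (U₀.equivMapOfInjective _ (MulAut.conj (ι e)).injective).toEquiv
  have hstab : ∀ π : A, (π : Perm (Fin N)) '' edge0 N = edge0 N → U₀.map (MulAut.conj (ι π)).toMonoidHom = U₀ := by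
    intro π hπ
    have hmem : π ∈ Subgroup.closure {x | x ∈ S} := by
      have hsub : Subgroup.closure {x | x ∈ Ls} ≤ Subgroup.closure {x | x ∈ S} :=
        Subgroup.closure_mono fun x hx => List.mem_cons_of_mem _ hx
      rw [hedge, Set.image_pair] at hπ
      have h01 : p 0 ≠ p 1 := hp.ne (by decide)
      have h0 : (π : Perm (Fin N)) (p 0) = p 0 ∨ (π : Perm (Fin N)) (p 0) = p 1 := by
        have : (π : Perm (Fin N)) (p 0) ∈ ({p 0, p 1} : Set (Fin N)) := hπ ▸ Set.mem_insert _ _
        simpa using this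
      have h1 : (π : Perm (Fin N)) (p 1) = p 0 ∨ (π : Perm (Fin N)) (p 1) = p 1 := by
        have : (π : Perm (Fin N)) (p 1) ∈ ({p 0, p 1} : Set (Fin N)) :=
          hπ ▸ Set.mem_insert_of_mem _ (Set.mem_singleton _)
        simpa using this
      have hne := (π : Perm (Fin N)).injective.ne h01
      rcases h0 with h0 | h0 <;> rcases h1 with h1 | h1
      · exact absurd (h0.trans h1.symm) hne
      · exact hsub (hLsgen π h0 h1)
      · have : π₀ * π ∈ Subgroup.closure {x | x ∈ S} := hsub (hLsgen _ (by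
            show (π₀ : Perm (Fin N)) ((π : Perm (Fin N)) (p 0)) = p 0
            rw [h0]; exact (hval 0 1 2 3 1).trans rfl) (by
            show (π₀ : Perm (Fin N)) ((π : Perm (Fin N)) (p 1)) = p 1
            rw [h1]; exact (hval 0 1 2 3 0).trans rfl))
        have hπ0 : π₀ ∈ Subgroup.closure {x | x ∈ S} := Subgroup.subset_closure List.mem_cons_self
        simpa using mul_mem (inv_mem hπ0) this
      · exact absurd (h0.trans h1.symm) hne
    clear hπ
    induction hmem using Subgroup.closure_induction with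
    | mem x hx => exact hgenS x hx
    | one =>
      convert Subgroup.map_id U₀ using 2
      ext x; simp
    | mul x y _ _ hx hy =>
      have : (MulAut.conj (ι (x * y))).toMonoidHom =
          (MulAut.conj (ι x)).toMonoidHom.comp (MulAut.conj (ι y)).toMonoidHom := by ext z; simp [mul_assoc]
      rw [this, ← Subgroup.map_map, hy, hx]
    | inv x _ hx =>
      conv_lhs => rw [← hx, Subgroup.map_map]
      convert Subgroup.map_id U₀ using 2
      ext z; simp [mul_assoc]
  have hcomm : ∀ x ∈ U₀, ∀ y ∈ U₀, Commute x (ι π₂ * y * (ι π₂)⁻¹) := by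
    have hk : ∀ x y, evalW ι f (kw x y) = 1 → Commute (f (blk κ01 x)) (ι π₂ * f (blk κ01 y) * (ι π₂)⁻¹) := by
      intro x y h
      simp only [evalW, kw, List.map_cons, List.map_nil, Sum.elim_inl, Sum.elim_inr, map_inv, List.prod_cons,
        List.prod_nil, mul_one] at h
      show _ = _
      rw [← mul_inv_eq_one, mul_inv_rev]
      rw [← h]; group
    have h2 : ι π₂ * ι π₂ = 1 := by
      rw [← map_mul, show π₂ * π₂ = 1 from Subtype.ext ?_, map_one]
      have hd : swap (p 0) (p 2) * swap (p 1) (p 3) = swap (p 1) (p 3) * swap (p 0) (p 2) :=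
        (Perm.Disjoint.commute (Perm.disjoint_iff_disjoint_support.2 (by
          rw [Perm.support_swap (hp.ne (by decide)), Perm.support_swap (hp.ne (by decide))]
          simp [hp.eq_iff]))).eq
      show swap (p 0) (p 2) * swap (p 1) (p 3) * (swap (p 0) (p 2) * swap (p 1) (p 3)) = 1
      calc _ = swap (p 0) (p 2) * swap (p 1) (p 3) * (swap (p 1) (p 3) * swap (p 0) (p 2)) := by rw [← hd]
        _ = _ := by rw [mul_assoc, ← mul_assoc (swap (p 1) (p 3)), swap_mul_self, one_mul, swap_mul_self]
    have c1 := hk a a haa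
    have c2 := hk a b habk
    have c3 := hk b b hbb
    have c4 : Commute (f (blk κ01 b)) (ι π₂ * f (blk κ01 a) * (ι π₂)⁻¹) := by
      have h := c2.map (MulAut.conj (ι π₂)).toMonoidHom
      simp only [MulEquiv.coe_toMonoidHom, MulAut.conj_apply] at h
      rw [show ι π₂ * (ι π₂ * f (blk κ01 b) * (ι π₂)⁻¹) * (ι π₂)⁻¹ = f (blk κ01 b) by
        rw [inv_eq_of_mul_eq_one_right h2]
        calc _ = ι π₂ * ι π₂ * f (blk κ01 b) * (ι π₂ * ι π₂) := by group
          _ = _ := by rw [h2, one_mul, mul_one]] at h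
      exact h.symm
    intro x hx y hy
    rw [hU0] at hx hy
    induction hy using Subgroup.closure_induction with
    | mem y hy =>
      induction hx using Subgroup.closure_induction with
      | mem x hx =>
        rcases hx with rfl | rfl <;> rcases hy with rfl | rfl
        exacts [c1, c2, c4, c3]
      | one => exact Commute.one_left _
      | mul a' b' _ _ h1 h2 => exact h1.mul_left h2
      | inv a' _ h1 => exact h1.inv_left
    | one => simp
    | mul a' b' _ _ h1 h2 => simpa [mul_assoc] using h1.mul_right h2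
    | inv a' _ h1 => simpa [mul_assoc] using h1.inv_right
  exact ⟨{ hN := hN, ι := ι, f := f, Φ := Φ
           Φι := DFunLike.congr_fun hι
           Φf := DFunLike.congr_fun hf
           hcyc := by
             simp only [evalW, cw, List.map_cons, List.map_nil, Sum.elim_inl, Sum.elim_inr, map_inv, List.prod_cons,
               List.prod_nil, mul_one, mul_inv_eq_one] at hcw
             exact hcw
           stab := hstab
           comm := ⟨π₂, by
             rw [hedge, Set.image_pair, show (π₂ : Perm (Fin N)) (p 0) = p 2 from (hval 0 2 1 3 0).trans rfl,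
               show (π₂ : Perm (Fin N)) (p 1) = p 3 from (hval 0 2 1 3 1).trans rfl]
             ext x
             simp only [Set.mem_setOf_eq, Set.mem_insert_iff, Set.mem_singleton_iff, Fin.ext_iff, p]
             rfl, hcomm⟩
           gen := hgen }, rfl, rfl, rfl⟩

end Cfsg.Lib.SUPres
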