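import Cfsg.Agent.Pres.SU.NineMat
import Cfsg.Agent.Known.Phan.TwoBase
import Mathlib.Algebra.QuadraticAlgebra.Basic

/-! # Literal matrices of unitary elements over four elements -/

set_option autoImplicit false
set_option maxHeartbeats 1000000
set_option maxRecDepth 100000
set_option linter.unusedSectionVars false
set_option linter.unusedSimpArgs false
set_option linter.unusedVariables false
set_option linter.style.haveILetI false

namespace Cfsg.Lib.SUPres.Two

open Equiv
open scoped Matrix
open Cfsg.Lib.Known.Phan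

universe u

section Mk

variable {F : Type u} [Field F] [Fintype F] {q : ℕ} [hF : Fact (Fintype.card F = q ^ 2)] {N : ℕ}

/-- The element with a unitary matrix of determinant one. -/
def ofMat (M : Matrix (Fin N) (Fin N) F) (hd : M.det = 1) (hu : Mᵀ * M.map (fun x => x ^ q) = 1) :
    Cfsg.SU N F q :=
  ⟨⟨M, hd⟩, by
    intro u v
    show Cfsg.hermForm N F q (M *ᵥ u) (M *ᵥ v) = _
    have hf : ∀ x y : Fin N → F, Cfsg.hermForm N F q x y = x ⬝ᵥ fun i => cb F q (y i) := fun x y => by
      simp [Cfsg.hermForm, dotProduct, cb_apply]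
    have hm : M.map (fun x => x ^ q) = M.map (cb F q) := by
      ext i j; simp [cb_apply]
    rw [hm] at hu
    rw [hf, hf]
    have e : (fun i => cb F q ((M *ᵥ v) i)) = M.map (cb F q) *ᵥ fun i => cb F q (v i) :=
      funext fun i => RingHom.map_mulVec (cb F q) M v i
    rw [e, Matrix.dotProduct_mulVec, ← Matrix.mulVec_transpose, Matrix.mulVec_mulVec,
      show (M.map (cb F q))ᵀ * M = (Mᵀ * M.map (cb F q))ᵀ by rw [Matrix.transpose_mul, Matrix.transpose_transpose],
      hu, Matrix.transpose_one, Matrix.one_mulVec]⟩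

theorem mat_ofMat (M : Matrix (Fin N) (Fin N) F) (hd : M.det = 1) (hu : Mᵀ * M.map (fun x => x ^ q) = 1) :
    mat (ofMat (q := q) M hd hu) = M := rfl

end Mk

/-- The field with four elements. -/
abbrev K4 : Type := QuadraticAlgebra (ZMod 2) 1 1

instance fact_poly : Fact (∀ r : ZMod 2, r ^ 2 ≠ 1 + 1 * r) := ⟨by decide⟩

instance fintype_K4 : Fintype K4 := Fintype.ofEquiv _ (QuadraticAlgebra.equivProd (1 : ZMod 2) 1).symm

theorem card_K4 : Fintype.card K4 = 4 := by
  rw [Fintype.card_congr (QuadraticAlgebra.equivProd (1 : ZMod 2) 1), Fintype.card_prod, ZMod.card]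

instance factK4 : Fact (Fintype.card K4 = 2 ^ 2) := ⟨card_K4⟩

/-- The cube root of unity. -/
def om : K4 := ⟨0, 1⟩
/-- Its square. -/
def om2 : K4 := ⟨1, 1⟩

theorem cb_eq (x : K4) : cb K4 2 x = x ^ 2 := cb_apply x

end Cfsg.Lib.SUPres.Two
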