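import Cfsg.Agent.Pres.SU.Model
import Cfsg.Agent.Known.SpPres.Module

/-! # Words for the unipotent radical -/

set_option autoImplicit false
set_option linter.unusedSectionVars false
set_option linter.unusedSimpArgs false

namespace Cfsg.Lib.SUPres

open Polynomial
open Cfsg.Lib.SL2Pres (cj wd allClosure)
open Cfsg.Lib.Classical (fixedField)

/-- The central commutator. -/
def zel {G : Type*} [Group G] (t u : G) : G := u * cj t u 1 * u⁻¹ * (cj t u 1)⁻¹

theorem zel_map {G H : Type*} [Group G] [Group H] (φ : G →* H) (t u : G) : φ (zel t u) = zel (φ t) (φ u) := by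
  simp [zel, cj]

/-- The group of all conjugates of the central commutator. -/
def Zg {G : Type*} [Group G] (t u : G) : Subgroup G := allClosure t (zel t u)

theorem cj_mem {G : Type*} [Group G] (t u : G) (i : ℤ) : cj t u i ∈ allClosure t u :=
  Subgroup.subset_closure ⟨i, rfl⟩

theorem allClosure_mono {G : Type*} [Group G] {t u v : G} (hv : v ∈ allClosure t u) (i : ℤ) :
    cj t v i ∈ allClosure t u := by
  induction hv using Subgroup.closure_induction with
  | mem y hy =>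
    obtain ⟨k, rfl⟩ := hy
    exact Subgroup.subset_closure ⟨i + k, by rw [SL2Pres.cj_add]; rfl⟩
  | one => simpa [cj] using one_mem (allClosure t u)
  | mul y z _ _ hy hz => simpa [cj] using mul_mem hy hz
  | inv y _ hy => simpa [cj, mul_assoc] using inv_mem hy

theorem zel_mem {G : Type*} [Group G] (t u : G) : zel t u ∈ allClosure t u := by
  have h0 : u ∈ allClosure t u := Subgroup.subset_closure ⟨0, SL2Pres.cj_zero t u⟩
  exact mul_mem (mul_mem (mul_mem h0 (cj_mem t u 1)) (inv_mem h0)) (inv_mem (cj_mem t u 1))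

theorem Zg_le {G : Type*} [Group G] (t u : G) : Zg t u ≤ allClosure t u :=
  (Subgroup.closure_le _).2 fun _ ⟨i, hi⟩ => hi ▸ allClosure_mono (zel_mem t u) i

theorem cj_period {G : Type*} [Group G] {t : G} {N : ℕ} (hN : t ^ N = 1) (u : G) (i j : ℤ)
    (h : (N : ℤ) ∣ i - j) : cj t u i = cj t u j := by
  obtain ⟨c, hc⟩ := h
  have e : t ^ i = t ^ j := by
    rw [show i = j + N * c by omega, zpow_add, zpow_mul, zpow_natCast, hN, one_zpow, mul_one]
  rw [cj, cj, e]

variable {F : Type*} [Field F]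

/-- The first coordinate as a homomorphism. -/
def xHom (C : Conj F) : Hp C →* Multiplicative F :=
  MonoidHom.mk' (fun h => Multiplicative.ofAdd h.x) fun _ _ => rfl

theorem zpow_x {C : Conj F} (h : Hp C) (c : ℤ) : (h ^ c).x = (c : F) * h.x := by
  have := map_zpow (xHom C) h c
  exact (congrArg Multiplicative.toAdd this).trans (zsmul_eq_mul _ _)

theorem uM_injective (C : Conj F) : Function.Injective (uM C) := fun a b e => by
  have e1 := congrArg mt e
  rw [mt_uM, mt_uM] at e1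
  exact Hp.ext' (by simpa [uMat] using congrFun (congrFun e1 0) 1) (by simpa [uMat] using congrFun (congrFun e1 0) 2)

theorem comm_eq {C : Conj F} (a b : Hp C) :
    (a * b * a⁻¹ * b⁻¹).x = 0 ∧ (a * b * a⁻¹ * b⁻¹).y = b.x * C.s a.x - a.x * C.s b.x := by
  refine ⟨by simp only [Hp.mul_x, Hp.inv_x]; ring, ?_⟩
  simp only [Hp.mul_x, Hp.inv_x, Hp.mul_y, Hp.inv_y, map_neg]
  linear_combination a.cond + b.cond

/-- The data: a generator of the multiplicative group and a point above one. -/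
structure Par (C : Conj F) where
  /-- The order of the fixed field. -/
  q : ℕ
  three_le : 3 ≤ q
  s_eq : ∀ a, C.s a = a ^ q
  /-- A generator of the multiplicative group. -/
  ω : Fˣ
  gen : ∀ a : Fˣ, ∃ k : ℕ, ω ^ k = a
  ord : orderOf ω = q ^ 2 - 1
  /-- The unipotent generator. -/
  u₀ : Hp C
  hu₀ : u₀.x = 1

namespace Par

variable {C : Conj F} (P : Par C)

/-- The scaling of the first coordinate. -/
def ρ : F := (P.ω : F) ^ 2 / C.s P.ω

theorem ρ_ne : P.ρ ≠ 0 := div_ne_zero (pow_ne_zero _ P.ω.ne_zero) (C.ne_zero P.ω.ne_zero)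

/-- The scaling of the centre. -/
def σK : fixedField C.s := ⟨P.ω * C.s P.ω, C.isConj.norm_mem _⟩

theorem pow_eq_pow {i j : ℕ} (h : (P.ω : F) ^ i = (P.ω : F) ^ j) : i ≡ j [MOD P.q ^ 2 - 1] := by
  rw [← P.ord]
  refine pow_eq_pow_iff_modEq.1 (Units.ext ?_)
  simpa using h

theorem s_ρ_ne : C.s P.ρ ≠ P.ρ := fun h => by
  have hw := P.ω.ne_zero
  have hs := C.ne_zero hw
  rw [ρ, map_div₀, map_pow, C.invol, div_eq_div_iff hw hs, ← pow_succ, ← pow_succ, P.s_eq, ← pow_mul] at h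
  have h1 := (P.pow_eq_pow h).symm
  have h3 := P.three_le
  rw [Nat.modEq_iff_dvd' (by omega)] at h1
  have h4 := Nat.le_of_dvd (by omega) h1
  have : 3 * P.q ≤ P.q ^ 2 := by rw [sq]; exact Nat.mul_le_mul_right _ h3
  omega

/-- The central commutator in the model. -/
def δ : Hp C := ⟨0, P.ρ - C.s P.ρ, by rw [map_sub, C.invol]; ring⟩

theorem δ_ne : P.δ.y ≠ 0 := sub_ne_zero.2 (Ne.symm P.s_ρ_ne)

theorem s_δ : C.s P.δ.y = -P.δ.y := by simp only [δ, map_sub, C.invol]; ring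

theorem gen_K {c : fixedField C.s} (hc : c ≠ 0) : ∃ k : ℕ, P.σK ^ k = c := by
  have hc' : (c : F) ≠ 0 := fun h => hc (Subtype.ext h)
  obtain ⟨n, hn⟩ := P.gen (Units.mk0 _ hc')
  have hn' : (P.ω : F) ^ n = (c : F) := by simpa using congrArg Units.val hn
  have h3 := P.three_le
  have h : (P.ω : F) ^ (P.q * n) = (P.ω : F) ^ n := by
    rw [mul_comm, pow_mul, ← P.s_eq, hn']; exact c.2
  have h1 := (P.pow_eq_pow h).symm
  rw [Nat.modEq_iff_dvd' (Nat.le_mul_of_pos_left _ (by omega))] at h1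
  obtain ⟨m, hm⟩ := h1
  have e1 : P.q * n - n = (P.q - 1) * n := by rw [Nat.sub_mul, one_mul]
  have e2 : P.q ^ 2 - 1 = (P.q - 1) * (P.q + 1) := by rw [mul_comm, ← Nat.sq_sub_sq, one_pow]
  rw [e1, e2, mul_assoc] at hm
  have hm' : n = (P.q + 1) * m := Nat.eq_of_mul_eq_mul_left (by omega) hm
  refine ⟨m, Subtype.ext ?_⟩
  show ((P.ω : F) * C.s P.ω) ^ m = c
  rw [← hn', hm', P.s_eq, ← pow_succ', ← pow_mul]

/-- The centre in the model. -/
def zM (c : fixedField C.s) : Hp C :=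
  ⟨0, c * P.δ.y, by rw [map_mul, P.s_δ, show C.s (c : F) = c from c.2]; ring⟩

theorem zM_add (c d : fixedField C.s) : P.zM (c + d) = P.zM c * P.zM d :=
  Hp.ext' (by simp [zM, Hp.mul_x]) (by simp [zM, Hp.mul_y]; ring)

theorem zM_one : P.zM 1 = P.δ := Hp.ext' rfl (one_mul _)

/-- The generators in the model. -/
noncomputable def gv : Fin 3 → SJ C := ![uM C P.u₀, tM C P.ω, wM C]

/-- Evaluation in the model. -/
noncomputable def ev : FreeGroup (Fin 3) →* SJ C := FreeGroup.lift P.gv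

end Par

/-- The unipotent word. -/
abbrev wu : FreeGroup (Fin 3) := FreeGroup.of 0

/-- The torus word. -/
abbrev wt : FreeGroup (Fin 3) := FreeGroup.of 1

/-- The Weyl word. -/
abbrev ww : FreeGroup (Fin 3) := FreeGroup.of 2

namespace Par

variable {C : Conj F} (P : Par C)

theorem ev_u : P.ev wu = uM C P.u₀ := by rw [ev, FreeGroup.lift_apply_of]; rfl

theorem ev_t : P.ev wt = tM C P.ω := by rw [ev, FreeGroup.lift_apply_of]; rfl

theorem ev_w : P.ev ww = wM C := by rw [ev, FreeGroup.lift_apply_of]; rfl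

theorem cj_uM (h : Hp C) (i : ℤ) : cj (tM C P.ω) (uM C h) i = uM C (Hp.sc (P.ω ^ i) h) := by
  rw [cj, ← map_zpow, tM_uM]

theorem ev_cj {W : FreeGroup (Fin 3)} {h : Hp C} (hW : P.ev W = uM C h) (i : ℤ) :
    P.ev (cj wt W i) = uM C (Hp.sc (P.ω ^ i) h) := by
  rw [SL2Pres.cj_map, P.ev_t, hW, P.cj_uM]

theorem sc_x (i : ℕ) (h : Hp C) : (Hp.sc (P.ω ^ i) h).x = P.ρ ^ i * h.x := by
  show ((P.ω ^ i : Fˣ) : F) ^ 2 / C.s ((P.ω ^ i : Fˣ) : F) * h.x = _
  rw [Units.val_pow_eq_pow_val, map_pow, ρ, div_pow, ← pow_mul, ← pow_mul, mul_comm i]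

theorem sc_y (i : ℕ) (h : Hp C) : (Hp.sc (P.ω ^ i) h).y = (P.σK ^ i : fixedField C.s) * h.y := by
  show ((P.ω ^ i : Fˣ) : F) * C.s ((P.ω ^ i : Fˣ) : F) * h.y = _
  rw [Units.val_pow_eq_pow_val, map_pow, ← mul_pow]
  rfl

theorem ev_zel : P.ev (zel wt wu) = uM C P.δ := by
  rw [zel_map, P.ev_t, P.ev_u, zel, P.cj_uM, ← map_inv, ← map_inv, ← map_mul, ← map_mul, ← map_mul]
  congr 1
  obtain ⟨e1, e2⟩ := comm_eq P.u₀ (Hp.sc (P.ω ^ (1 : ℤ)) P.u₀)
  refine Hp.ext' e1 (e2.trans ?_)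
  rw [zpow_one, ← pow_one P.ω, P.sc_x, P.hu₀, pow_one, map_one, mul_one, one_mul, mul_one]
  rfl

theorem exists_wd_value (h : Hp C) (f : ℤ[X]) :
    ∃ h' : Hp C, wd (tM C P.ω) (uM C h) f = uM C h' ∧ h'.x = aeval P.ρ f * h.x := by
  have key : ∀ n, ∃ h' : Hp C,
      ((List.range n).map fun i => tM C P.ω ^ i * uM C h ^ f.coeff i * (tM C P.ω ^ i)⁻¹).prod = uM C h' ∧
        h'.x = (∑ i ∈ Finset.range n, (f.coeff i : F) * P.ρ ^ i) * h.x := by
    intro n
    induction n with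
    | zero => exact ⟨1, by simp, by simp [Hp.one_x]⟩
    | succ n ih =>
      obtain ⟨h', e, ex⟩ := ih
      refine ⟨h' * Hp.sc (P.ω ^ n) (h ^ f.coeff n), ?_, ?_⟩
      · rw [List.range_succ, List.map_append, List.prod_append, List.map_singleton, List.prod_singleton, e,
          ← map_zpow, ← map_pow, tM_uM, map_mul]
      · rw [Hp.mul_x, ex, P.sc_x, zpow_x, Finset.sum_range_succ]; ring
  obtain ⟨h', e, ex⟩ := key (f.natDegree + 1)
  refine ⟨h', e, ex.trans ?_⟩
  rw [aeval_eq_sum_range]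
  congr 1
  exact Finset.sum_congr rfl fun i _ => (zsmul_eq_mul _ _).symm

/-- A word for a central element. -/
theorem exists_zword (c : fixedField C.s) : ∃ W : FreeGroup (Fin 3), P.ev W = uM C (P.zM c) ∧
    ∀ (G : Type) [Group G] (g : Fin 3 → G), FreeGroup.lift g W ∈ Zg (g 1) (g 0) := by
  by_cases hc : c = 0
  · refine ⟨1, ?_, fun G _ g => by simp⟩
    rw [map_one, show P.zM c = 1 from Hp.ext' rfl (by simp [zM, hc, Hp.one_y]), map_one]
  obtain ⟨k, rfl⟩ := P.gen_K hc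
  refine ⟨cj wt (zel wt wu) k, ?_, fun G _ g => ?_⟩
  · rw [P.ev_cj P.ev_zel, zpow_natCast]
    congr 1
    refine Hp.ext' ?_ ?_
    · rw [P.sc_x]; exact mul_zero _
    · rw [P.sc_y]; rfl
  · rw [SL2Pres.cj_map, zel_map]
    simp only [FreeGroup.lift_apply_of]
    exact cj_mem _ _ _

/-- Two words with the same first coordinate differ by a central word. -/
theorem exists_fix {L R : FreeGroup (Fin 3)} {a b : Hp C} (hL : P.ev L = uM C a) (hR : P.ev R = uM C b)
    (h : a.x = b.x) : ∃ r : FreeGroup (Fin 3), P.ev r = 1 ∧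
      ∀ (G : Type) [Group G] (g : Fin 3 → G), FreeGroup.lift g r = 1 →
        (FreeGroup.lift g R)⁻¹ * FreeGroup.lift g L ∈ Zg (g 1) (g 0) := by
  have hd : C.s ((b⁻¹ * a).y / P.δ.y) = (b⁻¹ * a).y / P.δ.y := by
    have hc := (b⁻¹ * a).cond
    rw [Hp.mul_x, Hp.inv_x, h, neg_add_cancel, zero_mul, add_zero] at hc
    rw [map_div₀, P.s_δ, eq_neg_of_add_eq_zero_right hc, neg_div_neg_eq]
  obtain ⟨W, hW, hW'⟩ := P.exists_zword ⟨(b⁻¹ * a).y / P.δ.y, hd⟩
  refine ⟨L * (R * W)⁻¹, ?_, fun G _ g hr => ?_⟩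
  · rw [map_mul, map_inv, map_mul, hL, hR, hW, mul_inv_eq_one, ← map_mul]
    congr 1
    conv_lhs => rw [← mul_inv_cancel_left b a]
    congr 1
    refine Hp.ext' ?_ ?_
    · rw [Hp.mul_x, Hp.inv_x, h, neg_add_cancel]; rfl
    · exact (div_mul_cancel₀ _ P.δ_ne).symm
  · rw [map_mul, map_inv, map_mul, mul_inv_eq_one] at hr
    rw [hr, inv_mul_cancel_left]
    exact hW' G g

/-- Every scalar is a value of a polynomial in the scaling. -/
def Span : Prop := ∀ x : F, ∃ f : ℤ[X], aeval P.ρ f = x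

/-- A word for an element of the radical. -/
theorem exists_word (hs : P.Span) (h : Hp C) : ∃ W : FreeGroup (Fin 3), P.ev W = uM C h ∧
    ∀ (G : Type) [Group G] (g : Fin 3 → G), FreeGroup.lift g W ∈ allClosure (g 1) (g 0) := by
  obtain ⟨f, hf⟩ := hs h.x
  obtain ⟨h', e, ex⟩ := P.exists_wd_value P.u₀ f
  rw [P.hu₀, mul_one, hf] at ex
  have hd : C.s ((h'⁻¹ * h).y / P.δ.y) = (h'⁻¹ * h).y / P.δ.y := by
    have hc := (h'⁻¹ * h).cond
    rw [Hp.mul_x, Hp.inv_x, ex, neg_add_cancel, zero_mul, add_zero] at hc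
    rw [map_div₀, P.s_δ, eq_neg_of_add_eq_zero_right hc, neg_div_neg_eq]
  obtain ⟨W, hW, hW'⟩ := P.exists_zword ⟨(h'⁻¹ * h).y / P.δ.y, hd⟩
  refine ⟨wd wt wu f * W, ?_, fun G _ g => ?_⟩
  · rw [map_mul, SL2Pres.wd_map, P.ev_t, P.ev_u, e, hW, ← map_mul]
    congr 1
    conv_rhs => rw [← mul_inv_cancel_left h' h]
    congr 1
    refine Hp.ext' ?_ ?_
    · rw [Hp.mul_x, Hp.inv_x, ex, neg_add_cancel]; rfl
    · exact div_mul_cancel₀ _ P.δ_ne
  · rw [map_mul, SL2Pres.wd_map]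
    simp only [FreeGroup.lift_apply_of]
    refine mul_mem (list_prod_mem fun x hx => ?_) (Zg_le _ _ (hW' G g))
    rw [List.mem_map] at hx
    obtain ⟨i, -, rfl⟩ := hx
    rw [SL2Pres.conj_zpow', ← SL2Pres.cj_natCast]
    exact zpow_mem (cj_mem _ _ _) _

end Par

end Cfsg.Lib.SUPres
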