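import Cfsg.Agent.Pres.SU.Words

/-! # The central commutator is central -/

set_option autoImplicit false
set_option linter.unusedSectionVars false
set_option linter.unusedSimpArgs false
set_option linter.style.haveILetI false

namespace Cfsg.Lib.SUPres

open Polynomial
open Cfsg.Lib.SL2Pres (cj wd allClosure multClosure)
open Cfsg.Lib.Classical (fixedField)
open Cfsg.Lib.SpPres (RootHom)

variable {F : Type*} [Field F] {C : Conj F}

/-- The central commutator commutes with all conjugates. -/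
def ZC {G : Type*} [Group G] (t u : G) : Prop := ∀ i : ℤ, Commute (zel t u) (cj t u i)

theorem ZC.commute {G : Type*} [Group G] {t u : G} (h : ZC t u) {x y : G} (hx : x ∈ Zg t u)
    (hy : y ∈ allClosure t u) : Commute x y := by
  have hij : ∀ i j : ℤ, Commute (cj t (zel t u) i) (cj t u j) := fun i j => by
    have := SL2Pres.commute_conj (g := t ^ i) (h (j - i))
    rw [← SL2Pres.cj_add, add_sub_cancel] at this
    exact this
  induction hy using Subgroup.closure_induction with
  | mem y hy =>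
    obtain ⟨j, rfl⟩ := hy
    induction hx using Subgroup.closure_induction with
    | mem x hx => obtain ⟨i, rfl⟩ := hx; exact hij i j
    | one => exact Commute.one_left _
    | mul a b _ _ ha hb => exact ha.mul_left hb
    | inv a _ ha => exact ha.inv_left
  | one => exact Commute.one_right _
  | mul a b _ _ ha hb => exact ha.mul_right hb
  | inv a _ ha => exact ha.inv_right

theorem exists_nat_cj {G : Type*} [Group G] {t : G} {N : ℕ} (hN0 : 0 < N) (hN : t ^ N = 1) (u : G) (i : ℤ) :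
    ∃ n : ℕ, cj t u i = cj t u n := by
  refine ⟨(i % (N : ℤ)).toNat, cj_period hN u _ _ ?_⟩
  rw [Int.toNat_of_nonneg (Int.emod_nonneg _ (by omega))]
  exact (Int.mod_modEq i N).dvd

namespace Par

variable (P : Par C)

theorem order_pos : 0 < P.q ^ 2 - 1 := by
  have : 3 ^ 2 ≤ P.q ^ 2 := Nat.pow_le_pow_left P.three_le 2
  omega

theorem σK_pow : P.σK ^ (P.q - 1) = 1 := by
  have h3 := P.three_le
  have h0 : (P.σK : F) ≠ 0 := mul_ne_zero P.ω.ne_zero (C.ne_zero P.ω.ne_zero)
  refine Subtype.ext (mul_left_cancel₀ h0 ?_)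
  push_cast
  rw [mul_one, ← pow_succ', show P.q - 1 + 1 = P.q by omega, ← P.s_eq]
  exact P.σK.2

/-- Relations making the central commutator span the fixed field. -/
theorem exists_zmodule [Finite F] :
    ∃ L : List (FreeGroup (Fin 3)), L.length ≤ 4 ∧ (∀ r ∈ L, P.ev r = 1) ∧
      ∀ (G : Type) [Group G] (g : Fin 3 → G), (∀ r ∈ L, FreeGroup.lift g r = 1) →
        RootHom P.σK (g 1) (zel (g 1) (g 0)) := by
  haveI : Fintype (fixedField C.s) := Fintype.ofFinite _
  obtain ⟨p, hp⟩ := CharP.exists (fixedField C.s)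
  haveI := hp
  haveI : Fact p.Prime := ⟨CharP.char_is_prime (fixedField C.s) p⟩
  obtain ⟨M, hM, hsound, hout⟩ := SpPres.exists_module_gen.{_, 0} p (ρ := P.σK) fun c hc => P.gen_K hc
  refine ⟨M.map (FreeGroup.lift ![wt, zel wt wu]), by simpa using hM, ?_, fun G _ g hg => ?_⟩
  · intro r hr
    obtain ⟨r₀, hr₀, rfl⟩ := List.mem_map.1 hr
    have h := hsound (SJ C) (tM C P.ω) (fun c => uM C (P.zM c)) (fun x y => by rw [← map_mul, ← P.zM_add])
      (fun c => by
        rw [tM_uM]
        congr 1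
        refine Hp.ext' ?_ ?_
        · show _ * (0 : F) = 0
          rw [mul_zero]
        · show _ = ((P.σK * c : fixedField C.s) : F) * P.δ.y
          push_cast
          simp only [Hp.sc, zM, σK]
          ring) r₀ hr₀
    rw [P.zM_one] at h
    have e : P.ev.comp (FreeGroup.lift ![wt, zel wt wu]) = FreeGroup.lift ![tM C P.ω, uM C P.δ] := by
      ext i
      fin_cases i
      · simp [P.ev_t]
      · simp [P.ev_zel]
    exact (DFunLike.congr_fun e r₀).trans h
  · have e : (FreeGroup.lift g).comp (FreeGroup.lift ![wt, zel wt wu]) =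
        FreeGroup.lift ![g 1, zel (g 1) (g 0)] := by
      ext i
      fin_cases i
      · simp
      · simp [zel_map]
    exact hout G ![g 1, zel (g 1) (g 0)] fun r hr =>
      ((DFunLike.congr_fun e r).symm).trans (hg _ (List.mem_map_of_mem hr))

/-- The values of the centre. -/
theorem exists_Zg_eq {G : Type*} [Group G] {t u : G} (hz : RootHom P.σK t (zel t u)) (hN : t ^ (P.q ^ 2 - 1) = 1) :
    ∃ φ : fixedField C.s → G, (∀ x y, φ (x + y) = φ x * φ y) ∧ φ 1 = zel t u ∧
      (∀ k : ℕ, cj t (zel t u) k = φ (P.σK ^ k)) ∧ (∀ y ∈ Zg t u, ∃ c, φ c = y) ∧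
      ∀ f : ℤ[X], φ (aeval P.σK f) = wd t (zel t u) f := by
  obtain ⟨φ, hadd, hone, hconj, hwd⟩ := hz
  have hk : ∀ k : ℕ, cj t (zel t u) k = φ (P.σK ^ k) := fun k => by rw [← hone]; exact SpPres.cj_root hconj k
  refine ⟨φ, hadd, hone, hk, fun y hy => ?_, hwd⟩
  induction hy using Subgroup.closure_induction with
  | mem y hy =>
    obtain ⟨i, rfl⟩ := hy
    obtain ⟨n, hn⟩ := exists_nat_cj P.order_pos hN (zel t u) i
    exact ⟨P.σK ^ n, by rw [← hk, ← hn]⟩
  | one => exact ⟨0, SL2Pres.root_zero hadd⟩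
  | mul a b _ _ ha hb =>
    obtain ⟨c, rfl⟩ := ha; obtain ⟨d, rfl⟩ := hb
    exact ⟨c + d, hadd c d⟩
  | inv a _ ha =>
    obtain ⟨c, rfl⟩ := ha
    exact ⟨-c, SL2Pres.root_neg hadd c⟩

theorem uM_δ_comm (h : Hp C) : uM C P.δ * uM C h = uM C h * uM C P.δ := by
  rw [← map_mul, ← map_mul]
  congr 1
  refine Hp.ext' ?_ ?_
  · simp [Hp.mul_x, δ]
  · simp [Hp.mul_y, δ]; ring

/-- Two relations when the power of the scaling generates. -/
theorem exists_zcomm_two (hs : ∃ f : ℤ[X], aeval (P.ρ ^ (P.q - 1)) f = P.ρ) :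
    ∃ L : List (FreeGroup (Fin 3)), L.length ≤ 2 ∧ (∀ r ∈ L, P.ev r = 1) ∧
      ∀ (G : Type) [Group G] (g : Fin 3 → G), g 1 ^ (P.q ^ 2 - 1) = 1 → RootHom P.σK (g 1) (zel (g 1) (g 0)) →
        (∀ r ∈ L, FreeGroup.lift g r = 1) → ZC (g 1) (g 0) := by
  obtain ⟨f, hf⟩ := hs
  have h3 := P.three_le
  set m := P.q - 1 with hm
  obtain ⟨h', e, ex⟩ := P.exists_wd_value P.u₀ (expand ℤ m f)
  rw [expand_aeval, hf] at ex
  obtain ⟨r, hr, hr'⟩ := P.exists_fix (L := cj wt wu 1) (R := wd wt wu (expand ℤ m f))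
    (P.ev_cj P.ev_u 1) (by rw [SL2Pres.wd_map, P.ev_t, P.ev_u, e]) (by rw [zpow_one, ← pow_one P.ω, P.sc_x, pow_one, ex])
  refine ⟨[zel wt wu * wu * (wu * zel wt wu)⁻¹, r], by simp, ?_, fun G _ g hN hz hg => ?_⟩
  · simp only [List.forall_mem_cons, List.not_mem_nil, false_imp_iff, implies_true, and_true]
    exact ⟨by rw [map_mul, map_inv, map_mul, map_mul, P.ev_zel, P.ev_u, mul_inv_eq_one, P.uM_δ_comm], hr⟩
  simp only [List.forall_mem_cons, List.not_mem_nil, false_imp_iff, implies_true, and_true] at hg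
  obtain ⟨hg1, hg2⟩ := hg
  have e1 := hr' G g hg2
  simp only [map_mul, map_inv, zel_map, SL2Pres.cj_map, SL2Pres.wd_map, FreeGroup.lift_apply_of,
    mul_inv_eq_one] at hg1 e1
  set t := g 1
  set u := g 0
  set z := zel t u with hzdef
  obtain ⟨φ, hadd, hone, hk, hZ, -⟩ := P.exists_Zg_eq hz hN
  have hfix : ∀ j : ℕ, cj t z ((m * j : ℕ) : ℤ) = z := fun j => by
    rw [hk, pow_mul, P.σK_pow, one_pow, hone]
  have hmem : ∀ y ∈ Zg t u, Commute z y := fun y hy => by
    obtain ⟨c, rfl⟩ := hZ y hy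
    rw [hzdef, ← hone]
    show _ = _
    rw [← hadd, ← hadd, add_comm]
  have hnat : ∀ n : ℕ, Commute z (cj t u n) := by
    intro n
    induction n with
    | zero => rw [Nat.cast_zero, SL2Pres.cj_zero]; exact hg1
    | succ n ih =>
      set R := wd t u (expand ℤ m f)
      have e2 : cj t u ((n + 1 : ℕ) : ℤ) =
          t ^ (n : ℤ) * R * (t ^ (n : ℤ))⁻¹ * cj t (R⁻¹ * cj t u 1) (n : ℤ) := by
        rw [show ((n + 1 : ℕ) : ℤ) = (n : ℤ) + 1 by push_cast; ring, SL2Pres.cj_add]
        show _ = _ * (t ^ (n : ℤ) * (R⁻¹ * cj t u 1) * (t ^ (n : ℤ))⁻¹)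
        group
      rw [e2]
      refine Commute.mul_right ?_ (hmem _ ?_)
      · have hR : R ∈ multClosure t u m := SL2Pres.wd_mem _ fun i hi => by
          rw [coeff_expand (by omega)] at hi
          split_ifs at hi with hd
          · obtain ⟨j, rfl⟩ := hd
            exact ⟨j, by push_cast; ring⟩
          · exact absurd rfl hi
        clear e1 e2
        clear_value R
        induction hR using Subgroup.closure_induction with
        | mem y hy =>
          obtain ⟨j, rfl⟩ := hy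
          show Commute z (t ^ (n : ℤ) * cj t u ((m : ℤ) * j) * (t ^ (n : ℤ))⁻¹)
          rw [← SL2Pres.cj_add, add_comm, SL2Pres.cj_add]
          have := SL2Pres.commute_conj (g := t ^ ((m : ℤ) * j)) ih
          rwa [show t ^ ((m : ℤ) * j) * z * (t ^ ((m : ℤ) * j))⁻¹ = z by
            rw [← Nat.cast_mul]; exact hfix j] at this
        | one => simp
        | mul a b _ _ ha hb => simpa using ha.mul_right hb
        | inv a _ ha => simpa [mul_assoc] using ha.inv_right
      · exact allClosure_mono e1 n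
  intro i
  obtain ⟨n, hn⟩ := exists_nat_cj P.order_pos hN u i
  rw [hn]
  exact hnat n

/-- As many relations as powers spanning the fixed field. -/
theorem exists_zcomm_span (k : ℕ)
    (hK : ∀ c : fixedField C.s, c ∈ AddSubgroup.closure (Set.range fun i : Fin k => P.σK ^ (i : ℕ))) :
    ∃ L : List (FreeGroup (Fin 3)), L.length ≤ k ∧ (∀ r ∈ L, P.ev r = 1) ∧
      ∀ (G : Type) [Group G] (g : Fin 3 → G), g 1 ^ (P.q ^ 2 - 1) = 1 → RootHom P.σK (g 1) (zel (g 1) (g 0)) →
        (∀ r ∈ L, FreeGroup.lift g r = 1) → ZC (g 1) (g 0) := by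
  refine ⟨List.ofFn fun i : Fin k => cj wt (zel wt wu) (i : ℕ) * wu * (wu * cj wt (zel wt wu) (i : ℕ))⁻¹,
    by simp, ?_, fun G _ g hN hz hg => ?_⟩
  · intro r hr
    obtain ⟨i, rfl⟩ := List.mem_ofFn.1 hr
    rw [map_mul, map_inv, map_mul, map_mul, P.ev_cj P.ev_zel, P.ev_u, mul_inv_eq_one, ← map_mul, ← map_mul]
    congr 1
    refine Hp.ext' ?_ ?_
    · simp [Hp.mul_x, Hp.sc, δ]
    · simp [Hp.mul_y, Hp.sc, δ]; ring
  set t := g 1
  set u := g 0
  obtain ⟨φ, hadd, hone, hk, hZ, -⟩ := P.exists_Zg_eq hz hN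
  have hall : ∀ c, Commute (φ c) u := fun c => by
    induction hK c using AddSubgroup.closure_induction with
    | mem x hx =>
      obtain ⟨i, rfl⟩ := hx
      have := hg _ (List.mem_ofFn.2 ⟨i, rfl⟩)
      simp only [map_mul, map_inv, zel_map, SL2Pres.cj_map, FreeGroup.lift_apply_of, mul_inv_eq_one] at this
      rw [← hk]
      exact this
    | zero => rw [SL2Pres.root_zero hadd]; exact Commute.one_left _
    | add a b _ _ ha hb => rw [hadd]; exact ha.mul_left hb
    | neg a _ ha => rw [SL2Pres.root_neg hadd]; exact ha.inv_left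
  intro i
  obtain ⟨c, hc⟩ := hZ _ (cj_mem t (zel t u) (-i))
  have := SL2Pres.commute_conj (g := t ^ i) (hc ▸ hall c)
  rwa [← SL2Pres.cj_add, add_neg_cancel, SL2Pres.cj_zero] at this

end Par

end Cfsg.Lib.SUPres
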